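import Cfsg.Agent.Lib.L2S.Q4B
import Cfsg.Agent.Lib.GW.PslTor
import Cfsg.Agent.S0483

/-! The case `q = 4` with `L` of type `L₂(r)`. -/

set_option autoImplicit false

namespace H25.L2

open Subgroup H4.YM H4.TL Matrix MatrixGroups

variable {G : Type*} [Group G] [Finite G] {F : Type*} [Field F] [Finite F]

namespace Au2

open H64.SL2 H29 H67

variable {E : Type*} [Field E]

theorem cube {Y : SL(2, E)} (h : tr Y ^ 2 = 1) : proj Y ^ 3 = 1 := by
  have d := det_eq Y
  rw [← map_pow, proj_eq_one_iff, mem_center_iff_entries, pow_succ, pow_two]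
  simp only [ent] at h ⊢
  exact ⟨by linear_combination Y 0 1 * h - Y 0 1 * d, by linear_combination Y 1 0 * h - Y 1 0 * d,
    by linear_combination (Y 0 0 - Y 1 1) * h - (Y 0 0 - Y 1 1) * d⟩

theorem unip {y : PSL(2, E)} (y5 : orderOf y = 5) (h : IsConj y (y * y)) :
    ∃ Y : SL(2, E), proj Y = y ∧ tr Y = 2 := by
  obtain ⟨Y, rfl⟩ := proj_surjective y
  have h1 := tr_sq_eq_of_isConj_proj (g := Y) (h := Y * Y) (by rwa [map_mul])
  have h2 : tr (Y * Y) = tr Y ^ 2 - 2 := by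
    have d := det_eq Y
    simp only [ent]
    linear_combination -2 * d
  have h3 : (tr Y ^ 2 - 1) * (tr Y ^ 2 - 4) = 0 := by
    rw [h2] at h1
    linear_combination -h1
  rcases mul_eq_zero.1 h3 with h4 | h4
  · have := orderOf_dvd_of_pow_eq_one (cube (sub_eq_zero.1 h4))
    rw [y5] at this
    omega
  · rcases tr_eq_two_or_of_sq (sub_eq_zero.1 h4) with h5 | h5
    · exact ⟨Y, rfl, h5⟩
    · exact ⟨-Y, proj_neg Y, h5⟩

theorem comm_unip (two : (2 : E) ≠ 0) {s c : SL(2, E)} (hs : tr s ^ 2 = 4) (s1 : proj s ≠ 1)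
    (h : proj c * proj s = proj s * proj c) : tr c ^ 2 = 4 := by
  by_contra hc
  have h1 : proj (c * s * c⁻¹) = proj s := by
    rw [map_mul, map_mul, h, map_inv, mul_inv_cancel_right]
  rcases proj_eq_iff.1 h1 with h2 | h2
  · exact tr_sq_ne_four_of_mem_centralizer hc
      (mem_centralizer_singleton_iff.2 (mul_inv_eq_iff_eq_mul.1 h2).symm)
      (mt proj_eq_one_iff.2 s1) hs
  · have h3 := tr_conj s c
    rw [h2, tr_neg] at h3
    have h4 : (2 : E) ^ 4 = 0 := by linear_combination -4 * hs - 2 * tr s * h3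
    exact two (pow_eq_zero_iff (by norm_num) |>.1 h4)

theorem exists_u {Y : SL(2, E)} (hY : tr Y = 2) (x : E) :
    ∃ s : SL(2, E), s.1 = 1 + x • (Y.1 - 1) := by
  have d := det_eq Y
  simp only [ent] at hY
  refine ⟨⟨1 + x • (Y.1 - 1), ?_⟩, rfl⟩
  rw [det_fin_two]
  simp
  linear_combination (x - x ^ 2) * hY + x ^ 2 * d

theorem tr_u {Y s : SL(2, E)} (hY : tr Y = 2) {x : E} (h : s.1 = 1 + x • (Y.1 - 1)) : tr s = 2 := by
  rw [tr_eq_trace] at hY ⊢
  rw [h, trace_add, trace_smul, trace_sub, hY, trace_one]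
  simp

theorem eq_of_proj (two : (2 : E) ≠ 0) {s s' : SL(2, E)} (h1 : tr s = 2) (h2 : tr s' = 2)
    (h : proj s = proj s') : s = s' := by
  refine (proj_eq_iff.1 h).resolve_right fun e => ?_
  rw [e, tr_neg, h2] at h1
  have h4 : (2 : E) ^ 2 = 0 := by linear_combination -h1
  exact two (pow_eq_zero_iff (by norm_num) |>.1 h4)

/-- the root subgroup through a fixed unipotent element -/
theorem root (two : (2 : E) ≠ 0) {Y : SL(2, E)} (hY : tr Y = 2) (Y1 : proj Y ≠ 1)
    {M : GL (Fin 2) E} {σ : RingAut E}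
    (h : (pslInn (Fin 2) E M * pslField (Fin 2) E σ) (proj Y) = proj Y) :
    ∃ u : E → PSL(2, E), Function.Injective u ∧ (∀ x, u x * proj Y = proj Y * u x) ∧
      ∀ x, σ x = x → (pslInn (Fin 2) E M * pslField (Fin 2) E σ) (u x) = u x := by
  choose u hu using exists_u hY
  obtain ⟨Y', e1, e2⟩ := exists_semilin M σ Y
  obtain rfl : Y' = Y := eq_of_proj two (by rw [tr_semilin e1, hY, map_ofNat]) hY (e2.symm.trans h)
  refine ⟨fun x => proj (u x), fun x x' e => ?_, fun x => ?_, fun x hx => ?_⟩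
  · have h1 := eq_of_proj two (tr_u hY (hu x)) (tr_u hY (hu x')) e
    have h2 := hu x
    rw [h1, hu x', add_right_inj] at h2
    refine (smul_left_injective E (fun e' => Y1 ?_) h2).symm
    rw [show Y' = 1 from Subtype.ext (sub_eq_zero.1 e'), map_one]
  · rw [← map_mul, ← map_mul]
    refine congrArg _ (Subtype.ext ?_)
    change (u x).1 * Y'.1 = Y'.1 * (u x).1
    rw [hu]
    simp only [add_mul, mul_add, smul_mul_assoc, mul_smul_comm, sub_mul, mul_sub, one_mul, mul_one]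
  · obtain ⟨s, k1, k2⟩ := exists_semilin M σ (u x)
    rw [k2]
    refine congrArg _ (Subtype.ext ((Units.mul_left_inj M).1 ?_))
    have k3 : (u x).1.map σ = 1 + x • (Y'.1.map σ - 1) := by
      rw [hu]
      ext i j
      by_cases hij : i = j <;> simp [hij, hx]
    rw [k1, k3, hu]
    simp only [add_mul, mul_add, smul_mul_assoc, mul_smul_comm, sub_mul, mul_sub, one_mul, mul_one,
      e1]

theorem exists_five (h : Nat.card F = 4) (two : (2 : F) = 0) {τ : F ≃+* F} (h1 : τ ≠ 1) :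
    ∃ Y N : SL(2, F), orderOf Y = 5 ∧ Nat.card (centralizer ({Y} : Set SL(2, F))) = 5 ∧
      cj N (fa τ Y) = Y * Y := by
  obtain ⟨ω, w1, w2, w3, w4⟩ := exists_omega h
  have ns : ¬ Split (comp ω) := by
    rintro ⟨a, ha⟩
    rw [tr_comp] at ha
    rcases w4 a with rfl | rfl | rfl | rfl
    · exact one_ne_zero (α := F) (by linear_combination ha)
    · exact w2 (by linear_combination -ha + two)
    · exact one_ne_zero (α := F) (by linear_combination ha)
    · exact w2 (by linear_combination ha - two)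
  have c : _ = 5 := (card_centralizer_of_not_split ns).trans (by rw [h])
  have t4 := tr_sq_ne_four_of_not_split ns
  have := Fact.mk (show Nat.Prime 5 by norm_num)
  have e1 : tr (fa τ (comp ω)) = ω * ω := by
    rw [← (aut_four h h1).1 ω]
    exact (map_add τ _ _).symm.trans (congrArg τ (tr_comp ω))
  have e2 : tr (comp ω * comp ω) = ω * ω := by
    simp only [H64.SL2.comp, ent]
    linear_combination -two
  obtain ⟨N, hN⟩ := isConj_iff.1 (isConj_of_tr_eq (g := fa τ (comp ω)) (by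
    rw [e1]
    intro e
    exact w2 (pow_eq_zero_iff (n := 4) (by norm_num) |>.1 (by linear_combination e + 2 * two)))
    (e1.trans e2.symm))
  exact ⟨comp ω, N, orderOf_eq_prime (c ▸ pow_card_centralizer (comp ω)) fun e =>
    not_mem_center_of_tr t4 (e ▸ one_mem _), c, hN⟩

end Au2

open H64.SL2 H29 H67 Au2 in
theorem Fr.Q4.aut2 {X : Fr G F} {τ : F ≃+* F} {e : G} (D : X.Q4 τ e) (h : X.t ∉ X.L) (he : e ∈ X.L)
    {E : Type} [Field E] [Fintype E] (ho : Odd (Fintype.card E))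
    (i : X.L ≃* ProjectiveSpecialLinearGroup (Fin 2) E) : Fintype.card E = 25 := by
  have := X.nrm
  have two := two_ne_zero_of_odd ho
  obtain ⟨Y0, N, o5, c5, hN⟩ := exists_five D.four X.char D.τ1
  let ι : SL(2, F) →* PSL(2, E) := i.toMonoidHom.comp (X.φ.codRestrict X.L X.φL)
  have ιi : Function.Injective ι := fun a b hab =>
    X.inj (congrArg Subtype.val (i.injective hab))
  have cmm : ∀ (a : X.L) (M : SL(2, F)), i a * ι M = ι M * i a ↔ cj a.1 (X.φ M) = X.φ M :=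
    fun a M => by
      rw [cj_eq_iff]
      exact ⟨fun e' => congrArg Subtype.val (i.injective (a₁ := a * ⟨_, X.φL M⟩)
        (a₂ := ⟨_, X.φL M⟩ * a) (by rw [map_mul, map_mul]; exact e')),
        fun e' => ((map_mul i a ⟨_, X.φL M⟩).symm.trans (congrArg i (Subtype.ext e'))).trans
          (map_mul i ⟨_, X.φL M⟩ a)⟩
  have y5 : orderOf (ι Y0) = 5 := (orderOf_injective ι ιi Y0).trans o5
  obtain ⟨Y, hY, tY⟩ := unip y5 (isConj_iff.2 ⟨i ⟨_, mul_mem (X.φL N) he⟩, by
    rw [← map_mul, ← hN]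
    refine ((map_mul i _ _).trans ?_).symm.trans (congrArg i
      (a₁ := ⟨_, mul_mem (X.φL N) he⟩ * ⟨_, X.φL Y0⟩ * ⟨_, mul_mem (X.φL N) he⟩⁻¹)
      (a₂ := ⟨_, X.φL _⟩) (Subtype.ext ?_))
    · rw [map_mul, map_inv]; rfl
    · change cj (X.φ N * e) (X.φ Y0) = X.φ (cj N (fa τ Y0))
      rw [mul_cj, D.eφ, X.φ_cj]⟩)
  have Y1 : proj Y ≠ 1 := fun e' => by rw [← hY, e', orderOf_one] at y5; omega
  obtain ⟨p, hp⟩ := CharP.exists E
  have pp := CharP.char_is_prime E p
  have p5 : p = 5 := ((Nat.prime_dvd_prime_iff_eq (by norm_num) pp).1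
    (y5 ▸ hY ▸ orderOf_dvd_of_pow_eq_one (by
      rw [← map_pow, pow_char_eq_one_of_tr_eq_two p tY, map_one]))).symm
  subst p5
  have t4 : tr Y ^ 2 = 4 := by rw [tY]; norm_num
  have pw : ∀ s : SL(2, E), tr s ^ 2 = 4 → proj s ^ 5 = 1 := fun s hs => by
    rw [← map_pow, proj_eq_one_iff]; exact pow_char_mem_center 5 hs
  have K1 : ∀ κ ∈ X.K, κ ∈ X.L → κ = 1 := fun κ hκ hL => by
    by_contra k1
    obtain ⟨s, hs⟩ := proj_surjective (i ⟨κ, hL⟩)
    obtain ⟨Z, hZ⟩ := proj_surjective (ι (uu 1))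
    have k2 := comm_unip two t4 Y1 (c := s) (by
      rw [hs, hY, cmm]; exact (X.mem_K.1 hκ).2 _)
    have k3 := pw Z (comm_unip two k2 (fun e' => k1 (congrArg Subtype.val
      (i.injective (hs.symm.trans (e'.trans (map_one i).symm))))) (by
        rw [hs, hZ, eq_comm, cmm]; exact (X.mem_K.1 hκ).2 _))
    rw [hZ, ← map_pow, ← map_one ι] at k3
    have k4 : X.v 1 ^ 5 = 1 := by rw [Hyp.v, ← map_pow, ιi k3, map_one]
    rw [show 5 = 2 * 2 + 1 from rfl, pow_succ, pow_mul, pow_two (X.v 1), X.v_sq, one_pow,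
      one_mul] at k4
    exact one_ne_zero (X.v_eq_one.1 k4)
  obtain ⟨M, σ, hβ⟩ := exists_eq_inn_mul_field (autHom X.L i X.t)
  have fx : ∀ a : X.L, autHom X.L i X.t (i a) = i a ↔ cj X.t a.1 = a.1 := fun a => by
    rw [autHom_apply, i.injective.eq_iff, Subtype.ext_iff]; rfl
  obtain ⟨u, u1, u2, u3⟩ := root two tY Y1 (M := M) (σ := σ) (by
    rw [← hβ, hY]; exact (fx ⟨_, X.φL Y0⟩).2 (X.tφ Y0))
  have le5 : {a | σ a = a}.ncard ≤ 5 := by
    refine (Set.ncard_le_ncard_of_injOn u (t := ι '' (centralizer ({Y0} : Set SL(2, F))))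
      (fun a ha => ?_) u1.injOn).trans ((Set.ncard_image_le).trans (le_of_eq c5))
    obtain ⟨c, hc⟩ := i.surjective (u a)
    have k1 : cj c.1 X.t = X.t := cj_comm.1 ((fx c).1 (by rw [hc, hβ]; exact u3 a ha))
    have k2 : cj c.1 (X.φ Y0) = X.φ Y0 := (cmm c Y0).1 (by rw [hc, ← hY]; exact u2 a)
    have k3 : c.1 ∈ X.A0 := by
      obtain ⟨B, κ, hκ, k4 | k4⟩ := D.cen_t k1
      · rw [K1 κ hκ ((mul_mem_cancel_left (X.φL B)).1 (k4 ▸ c.2)), mul_one] at k4
        exact ⟨B, k4.symm⟩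
      · rw [K1 κ hκ ((mul_mem_cancel_left (X.φL B)).1
          ((mul_mem_cancel_right he).1 (k4 ▸ c.2))), mul_one] at k4
        obtain ⟨s, hs⟩ := proj_surjective (u a)
        have k5 := pw s (comm_unip two t4 Y1 (hs ▸ u2 a))
        rw [hs, ← hc, ← map_pow, ← map_one i] at k5
        have k6 : c.1 ^ 5 = 1 := congrArg Subtype.val (i.injective k5)
        have k7 : c.1 * c.1 ∈ X.A0 := ⟨B * fa τ B, by
          rw [map_mul, ← D.eφ, k4, cj, inv_eq_of_mul_eq_one_right D.ee]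
          simp only [mul_assoc]⟩
        have k8 := pow_mem k7 3
        rwa [← pow_two, ← pow_mul, show 2 * 3 = 5 + 1 from rfl, pow_succ, k6, one_mul] at k8
    obtain ⟨B, hB⟩ := k3
    refine ⟨B, mem_cen.2 (X.inj ?_), ?_⟩
    · rw [X.φ_cj, hB, k2]
    · rw [← hc]; exact congrArg i (Subtype.ext hB)
  have d5 : 5 ∣ Fintype.card E :=
    haveI := Fact.mk pp
    (prime_dvd_char_iff_dvd_card 5).1 (by rw [ringChar.eq E 5])
  have pos : 0 < Fintype.card E := Fintype.card_pos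
  by_cases s1 : σ = 1
  · exfalso
    subst s1
    have k1 : Nat.card E = 5 := by
      rw [show {a | (1 : RingAut E) a = a} = Set.univ from Set.eq_univ_of_forall fun _ => rfl,
        Set.ncard_univ] at le5
      rw [Nat.card_eq_fintype_card] at le5 ⊢
      omega
    have k2 := H10.card_PSL_two (F := E)
    rw [k1, ← Nat.card_congr i.toEquiv] at k2
    have k3 := X.card_A0
    rw [D.four] at k3
    norm_num at k2 k3
    exact D.e_A0 (eq_of_le_of_card_ge X.A0_le_L (by omega) ▸ he)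
  · have k1 := fix_sq s1 (by
      rw [← pow_two]
      exact field_pow_eq_one (M := M) (by rw [← hβ, pow_two, ← map_mul, X.tt, map_one]))
    rw [Nat.card_eq_fintype_card] at k1
    generalize {a | σ a = a}.ncard = m at k1 le5
    interval_cases m <;> omega

/-- dihedral Sylow subgroups -/
theorem Fr.Q4.four_of_dih {X : Fr G F} {τ : F ≃+* F} {e : G} (D : X.Q4 τ e) (h : X.t ∉ X.L)
    (he : e ∈ X.L) {S : Subgroup G} (hS : Syl S X.L) {n : ℕ} (hn : 2 ≤ n)
    (i : Nonempty (S ≃* DihedralGroup n)) : Four X.L := by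
  obtain ⟨P, hP⟩ := (syl_iff.1 hS).exists_sylow_subgroupOf
  obtain ⟨i⟩ := i
  have := X.simple
  have : Group.IsPerfect X.L := ⟨X.L_comm⟩
  have hO : Cfsg.oddCore X.L = ⊥ := by
    refine (IsSimpleGroup.eq_bot_or_eq_top_of_normal _ (Cfsg.pPrimeCore_normal 2 _)).resolve_right
      fun e' => ?_
    have h1 : (⟨X.v 1, X.φL _⟩ : X.L) ∈ Cfsg.oddCore X.L := (le_of_eq e'.symm) (mem_top _)
    have h2 := Subgroup.orderOf_dvd_natCard _ h1
    rw [orderOf_eq_prime (p := 2) (by rw [pow_two]; exact Subtype.ext (X.v_sq 1))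
      fun e => one_ne_zero (X.v_eq_one.1 (congrArg Subtype.val e))] at h2
    exact absurd (even_iff_two_dvd.2 h2) (Nat.not_even_iff_odd.2 H1.odd_card_oddCore)
  have j : X.L ≃* X.L ⧸ Cfsg.oddCore X.L :=
    ((QuotientGroup.quotientMulEquivOfEq hO).trans QuotientGroup.quotientBot).symm
  rcases Cfsg.Agent.S0483.result P n hn
    ⟨((MulEquiv.subgroupCongr hP).trans (subgroupOfEquivOfLe hS.le)).trans i⟩ with
    ⟨E, _, _, ho, -, ⟨k⟩⟩ | ⟨⟨k⟩⟩
  · exact Or.inr (Or.inr (Or.inr (Or.inr (Or.inr (Or.inl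
      ⟨E, _, _, D.aut2 h he ho (j.trans k), Or.inl ⟨j.trans k⟩⟩)))))
  · exact Or.inr (Or.inr (Or.inr (Or.inr (Or.inl ⟨j.trans k⟩))))

end H25.L2
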