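import Cfsg.Agent.Lib.L2S.Defs
import Cfsg.Agent.Lib.L2S.Bas1
import Cfsg.Agent.Lib.GW.PslTor
import Cfsg.Agent.Lib.ABG.Q.Act

/-! Two involutory automorphisms of `SL₂(r)`, `r ≡ ±3 (mod 8)`. -/

set_option autoImplicit false

namespace H25.L2

open Subgroup H4.YM H4.TL Matrix MatrixGroups

variable {G : Type*} [Group G] [Finite G] {F : Type*} [Field F] [Finite F]

namespace Au3a

open H64.SL2 H29 H67

variable {E : Type*} [Field E]

theorem exists_conj [Fintype E] (h8 : Fintype.card E % 8 = 3 ∨ Fintype.card E % 8 = 5)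
    {α : MulAut SL(2, E)} (hα : α * α = 1) :
    ∃ M : GL (Fin 2) E, ∀ x, (α x).1 * M.1 = M.1 * x.1 := by
  obtain ⟨⟨M, σ⟩, hγ⟩ := H46.Q.sl_aut (F := E)
    (by rw [Nat.card_eq_fintype_card, Nat.odd_iff]; omega) α
  have h1 : ∀ x, (α x).1 * M.1 = M.1 * x.1.map σ := fun x => by
    have := hγ x
    rw [H46.Q.iotaF_apply, H46.Q.iotaF_apply, H46.Q.gam_conj] at this
    exact congrArg Units.val (eq_mul_inv_iff_mul_eq.1 (SemidirectProduct.inl_injective this))
  have h2 : ∀ x, tr (α x) = σ (tr x) := fun x => tr_semilin (h1 x)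
  have h3 : σ = 1 := by
    by_contra hn
    have h4 := fix_sq (τ := σ) hn (RingEquiv.ext fun t => by
      have := h2 (α (comp t))
      rw [← MulAut.mul_apply, hα, MulAut.one_apply, h2, tr_comp] at this
      exact this.symm)
    rw [Nat.card_eq_fintype_card] at h4
    generalize {a | σ a = a}.ncard = m at h4
    have h5 : m ^ 2 % 8 = (m % 8) ^ 2 % 8 := Nat.pow_mod m 2 8
    have h6 : m % 8 < 8 := Nat.mod_lt _ (by norm_num)
    generalize m % 8 = n at h5 h6
    interval_cases n <;> omega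
  subst h3
  exact ⟨M, fun x => (h1 x).trans (congrArg _ (Matrix.map_id _))⟩

theorem comm_of {d c : SL(2, E)} (hd : d ∉ center SL(2, E)) (h : d * c = c * d)
    {M : Matrix (Fin 2) (Fin 2) E} (hM : d.1 * M = M * d.1) : c.1 * M = M * c.1 := by
  obtain ⟨x, y, h1, h2, h3, h4⟩ := (commute_iff_of_not_mem_center hd).1 h
  have e : c.1 = x • (1 : Matrix (Fin 2) (Fin 2) E) + y • d.1 := by
    ext i j
    fin_cases i <;> fin_cases j <;> simp [h1, h2, h3, h4]
  rw [e, add_mul, mul_add, smul_mul_assoc, smul_mul_assoc, mul_smul_comm, mul_smul_comm, hM,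
    one_mul, mul_one]

theorem odd_prime {n : ℕ} (h : n % 8 = 2 ∨ n % 8 = 4 ∨ n % 8 = 6) (h5 : 4 < n) :
    ∃ p, p.Prime ∧ Odd p ∧ p ∣ n := by
  obtain ⟨m, m1, mo, hm⟩ : ∃ m, m ≠ 1 ∧ m % 2 = 1 ∧ m ∣ n := by
    by_cases h4 : n % 4 = 0
    · exact ⟨n / 4, by omega, by omega, Dvd.intro_left 4 (by omega)⟩
    · exact ⟨n / 2, by omega, by omega, Dvd.intro_left 2 (by omega)⟩
  obtain ⟨p, hp, hd⟩ := Nat.exists_prime_and_dvd m1
  exact ⟨p, hp, Odd.of_dvd_nat (Nat.odd_iff.2 mo) hd, hd.trans hm⟩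

end Au3a

open H64.SL2 H29 H67 Au3a in
theorem sl2_two_aut {E : Type*} [Field E] [Fintype E]
    (h8 : Fintype.card E % 8 = 3 ∨ Fintype.card E % 8 = 5) (h5 : 5 < Fintype.card E)
    (α β : MulAut SL(2, E)) (hα : α * α = 1) (hβ : β * β = 1) {c : SL(2, E)} (h1 : α c = c)
    (h2 : β c = c⁻¹) (h3 : c * c ≠ 1) (h : ∀ d, Odd (orderOf d) → α d = d → β d = d) : False := by
  have ho : Odd (Fintype.card E) := by rw [Nat.odd_iff]; omega
  have two := two_ne_zero_of_odd ho
  have hc : β c ≠ c := fun e => h3 (by rw [h2] at e; nth_rw 1 [← e]; exact inv_mul_cancel c)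
  obtain ⟨M, hM⟩ := exists_conj h8 hα
  obtain ⟨N, hN⟩ := exists_conj h8 hβ
  have fixM : ∀ x : SL(2, E), x.1 * M.1 = M.1 * x.1 → α x = x := fun x e =>
    Subtype.ext ((Units.mul_left_inj M).1 ((hM x).trans e.symm))
  by_cases hz : M ∈ center (GL (Fin 2) E)
  · obtain ⟨p, hp⟩ := CharP.exists E
    have pp := CharP.char_is_prime E p
    have po : Odd p := pp.odd_of_ne_two fun e => two (by
      have := CharP.cast_eq_zero E p
      rw [e] at this
      exact_mod_cast this)
    have : β.toMonoidHom = MonoidHom.id _ := H46.Q.sl_hom_ext fun x hx =>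
      h x (Odd.of_dvd_nat po (orderOf_dvd_of_pow_eq_one (pow_char_eq_one_of_tr_eq_two p hx)))
        (fixM x (congrArg Units.val
          (mem_center_iff.1 hz (Matrix.SpecialLinearGroup.toGL x))))
    exact hc (DFunLike.congr_fun this c)
  · have k1 : ∀ x, pslInn (Fin 2) E M (proj x) = proj (α x) := fun x => by
      obtain ⟨s, e1, e2⟩ := exists_inn M x
      rw [e2, show s = α x from Subtype.ext ((Units.mul_left_inj M).1 (e1.trans (hM x).symm))]
    have k2 : orderOf (pslInn (Fin 2) E M) = 2 := orderOf_eq_prime (by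
      ext x
      obtain ⟨x, rfl⟩ := proj_surjective x
      rw [pow_two, MulAut.mul_apply, k1, k1, ← MulAut.mul_apply, hα]
      rfl) fun e => hz ((pslInn_eq_one_iff (by simp)).1 e)
    obtain ⟨g, hg, c1, -⟩ := exists_reg two (by rw [Nat.card_eq_fintype_card]; omega)
      (trace_of_inn k2)
    obtain ⟨p, pp, po, hp⟩ := odd_prime (n := Nat.card (centralizer ({g} : Set SL(2, E)))) (by
      by_cases hs : Split g
      · rw [card_centralizer_of_split hg hs, Nat.card_eq_fintype_card]; omega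
      · rw [card_centralizer_of_not_split hs, Nat.card_eq_fintype_card]; omega) (by
      by_cases hs : Split g
      · rw [card_centralizer_of_split hg hs, Nat.card_eq_fintype_card]; omega
      · rw [card_centralizer_of_not_split hs, Nat.card_eq_fintype_card]; omega)
    have := Fact.mk pp
    obtain ⟨d, hd⟩ := exists_prime_orderOf_dvd_card' p hp
    have hd' : orderOf d.1 = p := (orderOf_coe d).trans hd
    have dz : d.1 ∉ center SL(2, E) := fun e => by
      have e2 : d.1 ^ 2 = 1 := by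
        rcases mem_center_iff'.1 e with e | e <;> rw [e] <;> simp
      have := (Nat.prime_dvd_prime_iff_eq pp Nat.prime_two).1 (hd' ▸ orderOf_dvd_of_pow_eq_one e2)
      rw [this] at po
      exact absurd po (by decide)
    have k3 : β d.1 = d.1 :=
      h _ (hd' ▸ po) (fixM _ ((c1 _).2 (mem_centralizer_singleton_iff.1 d.2)))
    have cg : c ∈ centralizer {g} := mem_centralizer_singleton_iff.2 ((c1 c).1 (by
      have := hM c; rwa [h1] at this))
    have k5 := hN d.1
    rw [k3] at k5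
    have k4 := comm_of dz (commute_of_mem_centralizer (not_mem_center_of_tr hg) d.2 cg) k5
    exact hc (Subtype.ext ((Units.mul_left_inj N).1 ((hN c).trans k4.symm)))

end H25.L2
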