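import Cfsg.Agent.Lib.L2S.Bas2

/-! Basic consequences of `H25.L2.Fr`. -/

set_option autoImplicit false
set_option linter.unusedSectionVars false

namespace H25.L2

open Subgroup H4.YM H4.TL Matrix MatrixGroups Bas

variable {G : Type*} [Group G] {F : Type*} [Field F]

namespace Fr

variable (X : Fr G F)

theorem R_le_K : X.R ≤ X.K := X.Rsyl.le
theorem R_φ {ρ : G} (hρ : ρ ∈ X.R) (M : SL(2, F)) : cj ρ (X.φ M) = X.φ M :=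
  (X.mem_K.1 (X.R_le_K hρ)).2 M
theorem R_v {ρ : G} (hρ : ρ ∈ X.R) (a : F) : cj ρ (X.v a) = X.v a := X.R_φ hρ _
theorem f_v (a : F) : cj X.f (X.v a) = X.v (X.σ a) := by rw [Hyp.v, X.fφ, fa_uu]; rfl
theorem fpow_φ (i : ℕ) (M : SL(2, F)) : cj (X.f ^ i) (X.φ M) = X.φ (fa (X.σ ^ i) M) := by
  induction i with
  | zero => rw [pow_zero, pow_zero, one_cj, fa_one]
  | succ i ih => rw [pow_succ', pow_succ', mul_cj, ih, X.fφ, fa_mul]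
theorem fpow_v (i : ℕ) (a : F) : cj (X.f ^ i) (X.v a) = X.v ((X.σ ^ i) a) := by
  rw [Hyp.v, X.fpow_φ, fa_uu]; rfl
theorem fpow_R (i : ℕ) {ρ : G} (hρ : ρ ∈ X.R) : cj (X.f ^ i) ρ ∈ X.R := by
  induction i with
  | zero => rwa [pow_zero, one_cj]
  | succ i ih => rw [pow_succ', mul_cj]; exact X.fR _ ih
theorem VR_le_T : X.V ⊔ X.R ≤ X.T := le_adj
theorem R_le_T : X.R ≤ X.T := le_sup_right.trans X.VR_le_T
theorem V_le_T : X.V ≤ X.T := le_sup_left.trans X.VR_le_T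
theorem E_le_T : X.E ≤ X.T := adj_le X.V_le_T (X.R_le_T X.tR)
theorem f_mem_T : X.f ∈ X.T := self_mem_adj
theorem T_t {x : G} (hx : x ∈ X.T) : cj x X.t = X.t := mem_cen.1 (X.syl.le hx)
theorem pgT : IsPGroup 2 X.T := X.syl.pg

variable [Finite G] [Finite F]

theorem h_v (k : Fˣ) (a : F) : cj (X.h k) (X.v a) = X.v (k * a) := by
  obtain ⟨l, rfl⟩ := sqrt X.char k
  rw [X.hdd, Hyp.v, ← X.φ_cj, dd_uu]; rfl
theorem h_mem (k : Fˣ) : X.h k ∈ X.A0 := by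
  obtain ⟨l, rfl⟩ := sqrt X.char k
  exact ⟨_, (X.hdd l).symm⟩
theorem h_t (k : Fˣ) : cj (X.h k) X.t = X.t := by
  obtain ⟨M, e⟩ := X.h_mem k
  exact e ▸ cj_comm.1 (X.tφ M)
theorem h_odd (k : Fˣ) : Odd (orderOf (X.h k)) := by
  obtain ⟨n, h1, h2⟩ := X.cardF
  refine Odd.of_dvd_nat ?_ ((orderOf_map_dvd X.h k).trans (orderOf_dvd_natCard k))
  rw [Nat.card_units, h2]
  exact Nat.Even.sub_odd Nat.one_le_two_pow ((Nat.even_pow' (by omega)).2 even_two) odd_one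
theorem h_N1 (k : Fˣ) : X.h k ∈ X.N1 :=
  X.mem_N1.2 ⟨X.h_t k, fun a => X.h_v k a ▸ X.v_mem_V _⟩
theorem φ_h {c : G} {τ : F ≃+* F} (hc : ∀ M, cj c (X.φ M) = X.φ (fa τ M)) (k : Fˣ) :
    cj c (X.h k) = X.h (Units.map (τ : F →* F) k) := by
  obtain ⟨l, rfl⟩ := sqrt X.char k
  rw [X.hdd, hc, fa_dd, ← X.hdd, map_mul (Units.map _)]
theorem R_cyc : IsCyclic X.R := X.cyc _ X.Rsyl.pg fun _ hx => X.mem_K.1 (X.R_le_K hx)
theorem R_inv {ρ : G} (hρ : ρ ∈ X.R) (h : ρ * ρ = 1) : ρ = 1 ∨ ρ = X.t := by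
  haveI := X.R_cyc
  refine or_iff_not_imp_left.2 fun h1 => congrArg Subtype.val (cyc_inv (H := X.R) (a := ⟨ρ, hρ⟩)
    (b := ⟨_, X.tR⟩) (fun e => h1 (congrArg Subtype.val e)) (Subtype.ext h)
    (fun e => X.t1 (congrArg Subtype.val e)) (Subtype.ext X.tt))
theorem σ_two : ∃ j : ℕ, X.σ ^ 2 ^ j = 1 := by
  obtain ⟨j, hj⟩ := pg_pow X.pgT X.f_mem_T
  refine ⟨j, RingEquiv.ext fun a => X.v_inj ?_⟩
  rw [← fpow_v, hj, one_cj]; rfl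
theorem mem_VR {x : G} : x ∈ X.V ⊔ X.R ↔ ∃ ρ ∈ X.R, ∃ a, x = ρ * X.v a := by
  obtain ⟨S, hS⟩ := sub_ind (fun x => ∃ ρ ∈ X.R, ∃ a, x = ρ * X.v a)
    ⟨1, one_mem _, 0, by rw [X.v_zero, mul_one]⟩ (by
      rintro _ _ ⟨ρ, hρ, a, rfl⟩ ⟨ρ', hρ', a', rfl⟩
      refine ⟨ρ * ρ', mul_mem hρ hρ', a + a', ?_⟩
      rw [X.v_add, mul_assoc, ← mul_assoc (X.v a), ← cj_eq_iff.1 (X.R_v hρ' a)]
      simp only [mul_assoc])
  constructor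
  · refine fun h => (hS x).1 ((sup_le (fun y hy => (hS y).2 ?_) (fun y hy => (hS y).2 ?_) :
      X.V ⊔ X.R ≤ S) h)
    · exact ⟨1, one_mem _, by simpa only [one_mul] using X.mem_V.1 hy⟩
    · exact ⟨y, hy, 0, by rw [X.v_zero, mul_one]⟩
  · rintro ⟨ρ, hρ, a, rfl⟩
    exact mul_mem (mem_sup_right hρ) (mem_sup_left (X.v_mem_V a))
theorem mem_T {x : G} : x ∈ X.T ↔ ∃ ρ ∈ X.R, ∃ a, ∃ i : ℕ, x = ρ * X.v a * X.f ^ i := by
  obtain ⟨S, hS⟩ := sub_ind (fun x => ∃ w ∈ X.V ⊔ X.R, ∃ i : ℕ, x = w * X.f ^ i)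
    ⟨1, one_mem _, 0, by simp⟩ (by
      rintro _ _ ⟨w, hw, i, rfl⟩ ⟨w', hw', j, rfl⟩
      refine ⟨w * cj (X.f ^ i) w', mul_mem hw ?_, i + j, by simp [cj, pow_add, mul_assoc]⟩
      obtain ⟨ρ, hρ, a, rfl⟩ := X.mem_VR.1 hw'
      exact X.mem_VR.2 ⟨_, X.fpow_R i hρ, _, by rw [cj_mul, fpow_v]⟩)
  constructor
  · intro h
    obtain ⟨w, hw, i, rfl⟩ := (hS x).1 (adj_le (fun y hy => (hS y).2 ⟨y, hy, 0, by simp⟩)
      ((hS _).2 ⟨1, one_mem _, 1, by simp⟩) h)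
    obtain ⟨ρ, hρ, a, rfl⟩ := X.mem_VR.1 hw
    exact ⟨ρ, hρ, a, i, rfl⟩
  · rintro ⟨ρ, hρ, a, i, rfl⟩
    exact mul_mem (mul_mem (X.R_le_T hρ) (X.V_le_T (X.v_mem_V a))) (pow_mem X.f_mem_T i)
theorem T_v {ρ : G} (hρ : ρ ∈ X.R) (a : F) (i : ℕ) (b : F) :
    cj (ρ * X.v a * X.f ^ i) (X.v b) = X.v ((X.σ ^ i) b) := by
  rw [mul_cj, mul_cj, fpow_v, X.v_comm, X.R_v hρ]
theorem T_act {x : G} (hx : x ∈ X.T) : ∃ i : ℕ, ∀ a, cj x (X.v a) = X.v ((X.σ ^ i) a) := by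
  obtain ⟨ρ, hρ, a, i, rfl⟩ := X.mem_T.1 hx
  exact ⟨i, X.T_v hρ a i⟩
theorem T_le_N1 : X.T ≤ X.N1 := fun _ hx => X.mem_N1.2 ⟨X.T_t hx, fun a => by
  obtain ⟨i, h⟩ := X.T_act hx
  exact h a ▸ X.v_mem_V _⟩
theorem cen_T {x : G} (hx : x ∈ X.T) (h : ∀ a, cj x (X.v a) = X.v a) : x ∈ X.V ⊔ X.R := by
  obtain ⟨ρ, hρ, a, i, rfl⟩ := X.mem_T.1 hx
  exact mul_mem (X.mem_VR.2 ⟨ρ, hρ, a, rfl⟩) (mem_sup_right (X.fpow i
    (RingEquiv.ext fun b => X.v_inj ((X.T_v hρ a i b).symm.trans (h b)))))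
theorem VR_inv {x : G} (hx : x ∈ X.V ⊔ X.R) (h : x * x = 1) : x ∈ X.E := by
  obtain ⟨ρ, hρ, a, rfl⟩ := X.mem_VR.1 hx
  rw [mul_assoc, ← mul_assoc (X.v a), ← cj_eq_iff.1 (X.R_v hρ a), mul_assoc, X.v_sq, mul_one] at h
  rcases X.R_inv hρ h with rfl | rfl
  · exact X.mem_E.2 ⟨a, Or.inl (one_mul _)⟩
  · exact X.mem_E.2 ⟨a, Or.inr rfl⟩
theorem A0_T {x : G} (h : x ∈ X.A0) (hx : x ∈ X.T) : x ∈ X.V := by
  rw [← X.sylV.eq_of_le (X := X.A0 ⊓ X.T) (pg_le X.pgT inf_le_right) inf_le_left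
    (le_inf X.V_le_A0 X.V_le_T)]
  exact ⟨h, hx⟩
theorem v_R {a : F} (h : X.v a ∈ X.R) : a = 0 := X.v_eq_one.1 (X.cen_φ (X.R_φ h))
theorem card_T : Nat.card X.T = Nat.card F * Nat.card X.R * orderOf X.σ := by
  have hn : 0 < orderOf X.σ := orderOf_pos (G := RingAut F) _
  rw [← Nat.card_fin (orderOf X.σ), ← Nat.card_prod, ← Nat.card_prod]
  refine (Nat.card_congr (Equiv.ofBijective (fun p : (F × X.R) × Fin (orderOf X.σ) =>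
    (⟨p.1.2 * X.v p.1.1 * X.f ^ (p.2 : ℕ), X.mem_T.2 ⟨_, p.1.2.2, _, _, rfl⟩⟩ : X.T)) ⟨?_, ?_⟩)).symm
  · rintro ⟨⟨a, ρ, hρ⟩, i, hi⟩ ⟨⟨a', ρ', hρ'⟩, j, hj⟩ e
    have e1 : ρ * X.v a * X.f ^ i = ρ' * X.v a' * X.f ^ j := congrArg Subtype.val e
    obtain rfl : i = j := pow_injOn_Iio_orderOf hi hj (RingEquiv.ext fun b => X.v_inj (by
      rw [← X.T_v hρ a i, e1, X.T_v hρ']))
    have e2 := mul_right_cancel e1
    have e3 : X.v (a + a') = ρ⁻¹ * ρ' := by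
      rw [X.v_add, eq_inv_mul_iff_mul_eq, ← mul_assoc, e2, mul_assoc, X.v_sq, mul_one]
    obtain rfl : a = a' := by
      have := X.v_R (e3 ▸ mul_mem (inv_mem hρ) hρ')
      linear_combination this - a' * X.char
    obtain rfl := mul_right_cancel e2
    rfl
  · rintro ⟨x, hx⟩
    obtain ⟨ρ, hρ, a, i, rfl⟩ := X.mem_T.1 hx
    have h1 := X.fpow (orderOf X.σ * (i / orderOf X.σ)) (by rw [pow_mul, pow_orderOf_eq_one, one_pow])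
    refine ⟨⟨⟨a, _, mul_mem hρ h1⟩, _, Nat.mod_lt i hn⟩, Subtype.ext ?_⟩
    show ρ * _ * X.v a * X.f ^ (i % _) = ρ * X.v a * X.f ^ i
    rw [mul_assoc ρ, cj_eq_iff.1 (X.R_v h1 a), mul_assoc, mul_assoc, ← pow_add, Nat.div_add_mod,
      mul_assoc]
/-- an element of `N1` acting as a scalar -/
theorem scal {n : G} (hn : cj n X.t = X.t) {k : Fˣ} (h : ∀ a, cj n (X.v a) = X.v (k * a)) :
    ∃ a, ∃ κ ∈ X.K, n = X.v a * X.h k * κ := by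
  obtain ⟨a, κ, hκ, e⟩ := X.cenV (c := n * X.h k⁻¹) (by rw [mul_cj, h_t, hn]) fun a => by
    rw [mul_cj, h_v, h, Units.mul_inv_cancel_left]
  obtain ⟨M, hM⟩ := X.h_mem k
  refine ⟨a, κ, hκ, ?_⟩
  rw [mul_assoc, ← hM, ← cj_eq_iff.1 ((X.mem_K.1 hκ).2 M), hM, ← mul_assoc, ← e, map_inv,
    inv_mul_cancel_right]
theorem sylΩ {s : G} (hs : X.Ω s) {P : Subgroup G} (hP : IsPGroup 2 P) (h : ∀ x ∈ P, cj x s = s) :
    ∃ c, cj c X.t = s ∧ P ≤ cm c X.T := by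
  obtain ⟨g, rfl⟩ := X.Ω_iff.1 hs
  have S := X.syl.cm g
  rw [cm_cen] at S
  obtain ⟨c, hc, e⟩ := S.conj hP fun x hx => mem_cen.2 (h x hx)
  exact ⟨c * g, by rw [mul_cj, mem_cen.1 hc], by rwa [cm_mul]⟩
theorem cardΩ {s : G} (hs : X.Ω s) {P : Subgroup G} (hP : IsPGroup 2 P) (h : ∀ x ∈ P, cj x s = s) :
    Nat.card P ≤ Nat.card X.T := by
  obtain ⟨c, -, e⟩ := X.sylΩ hs hP h
  exact card_cm c X.T ▸ card_le_of_le e
theorem infT {P : Subgroup G} (hP : IsPGroup 2 P) (h : X.T ≤ P) {r : G} (hr : r ∈ P)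
    (hc : cj r X.t = X.t) : r ∈ X.T := by
  rw [T, ← X.syl.eq_of_le (X := P ⊓ centralizer {X.t}) (pg_le hP inf_le_left) inf_le_right
    (le_inf h X.syl.le)]
  exact ⟨hr, mem_cen.2 hc⟩
theorem zstT : ∃ s ∈ X.T, X.Ω s ∧ s ≠ X.t := by
  obtain ⟨s, h1, h2, h3⟩ := X.zst
  obtain ⟨c, e1, e2⟩ := X.sylΩ h1 (P := zpowers X.t) (pg_zpowers (k := 1) (by simpa [pow_two] using X.tt))
    fun x hx => mem_cen.1 (zpowers_le.2 (mem_cen.2 (cj_comm.1 h3)) hx)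
  exact ⟨_, mem_cm.1 (e2 (mem_zpowers _)), (X.Ω_cj _).2 X.Ω_t, fun e => h2 (e1 ▸ inv_cj_eq.1 e)⟩
theorem R2_of_tL (h : X.t ∉ X.L) {ρ : G} (hρ : ρ ∈ X.R) : ρ = 1 ∨ ρ = X.t := by
  obtain ⟨k, hk⟩ := pg_pow X.Rsyl.pg hρ
  induction k generalizing ρ with
  | zero => exact Or.inl (by simpa using hk)
  | succ k ih =>
    rcases ih (mul_mem hρ hρ) (by rw [← pow_two, ← pow_mul, ← pow_succ', hk]) with e | e
    · exact X.R_inv hρ e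
    · exact absurd (e ▸ X.sq_mem_L ρ) h
theorem σ_one_of_eight (h : Nat.card F = 8) : X.σ = 1 := by
  haveI : Fact (Nat.Prime 2) := ⟨Nat.prime_two⟩
  obtain ⟨j, hj⟩ := X.σ_two
  have h1 := H67.orderOf_ringAut_dvd (p := 2) (f := 3) h X.σ
  exact orderOf_eq_one_iff.1 (Nat.eq_one_of_dvd_coprimes
    (Nat.Coprime.pow_right j (by norm_num : Nat.Coprime 3 2)) h1 (orderOf_dvd_of_pow_eq_one hj))
theorem T_eq_E (h : ∀ ρ ∈ X.R, ρ = 1 ∨ ρ = X.t) (h1 : X.σ = 1) : X.T = X.E := by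
  refine le_antisymm (fun x hx => ?_) X.E_le_T
  obtain ⟨i, hi⟩ := X.T_act hx
  obtain ⟨ρ, hρ, a, rfl⟩ := X.mem_VR.1 (X.cen_T hx fun a => by rw [hi, h1, one_pow]; rfl)
  rcases h ρ hρ with rfl | rfl
  · exact X.mem_E.2 ⟨a, Or.inl (one_mul _)⟩
  · exact X.mem_E.2 ⟨a, Or.inr rfl⟩
/-- an involution of `T` lies in `E` or acts as the involutory field automorphism -/
theorem T_inv {x : G} (hx : x ∈ X.T) (h : x * x = 1) : x ∈ X.E ∨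
    ∃ τ : F ≃+* F, τ ≠ 1 ∧ τ * τ = 1 ∧ ∀ a, cj x (X.v a) = X.v (τ a) := by
  obtain ⟨i, hi⟩ := X.T_act hx
  by_cases e : X.σ ^ i = 1
  · exact Or.inl (X.VR_inv (X.cen_T hx fun a => by rw [hi, e]; rfl) h)
  · refine Or.inr ⟨_, e, RingEquiv.ext fun a => X.v_inj ?_, hi⟩
    show X.v ((X.σ ^ i) ((X.σ ^ i) a)) = X.v a
    rw [← hi, ← hi, ← mul_cj, h, one_cj]
/-- `E` is the only elementary abelian subgroup of its order -/
theorem uniqE (h : Nat.card F ≠ 4 ∨ ¬ X.Out) {B : Subgroup G} (hB : B ≤ X.T)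
    (h2 : ∀ x ∈ B, x * x = 1) (hc : 2 * Nat.card F ≤ Nat.card B) : B = X.E := by
  refine eq_of_le_of_card_ge (fun x hx => ?_) (X.card_E ▸ hc)
  by_contra hE
  obtain ⟨τ, t1, t2, t3⟩ := (X.T_inv (hB hx) (h2 x hx)).resolve_left hE
  have h4 : Nat.card F ≠ 4 := h.resolve_right (not_not.2 ⟨x, hB hx, h2 x hx, by
    by_contra! e
    exact t1 (RingEquiv.ext fun a => X.v_inj ((t3 a).symm.trans (e a)))⟩)
  have I : Idx (B ⊓ X.E) B x := ⟨inf_le_left, hx, fun e => hE e.2, fun y hy => by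
    rcases X.T_inv (hB hy) (h2 y hy) with e | ⟨τ', s1, s2, s3⟩
    · exact Or.inl ⟨hy, e⟩
    · obtain rfl := aut_inv_uniq t1 t2 s1 s2
      have := mul_mem (inv_mem hx) hy
      exact Or.inr ⟨this, X.VR_inv (X.cen_T (hB this) fun a => by
        rw [mul_cj, s3, ← t3, inv_cj_cj]) (h2 _ this)⟩⟩
  have h5 : ((B ⊓ X.E : Subgroup G) : Set G) ⊆
      X.v '' {a | τ a = a} ∪ (fun a => X.t * X.v a) '' {a | τ a = a} := fun y hy => by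
    have e := cj_eq_iff.2 (comm_of_sq (h2 x hx) (h2 y hy.1) (h2 _ (mul_mem hx hy.1)))
    obtain ⟨a, rfl | rfl⟩ := X.mem_E.1 hy.2
    · exact Or.inl ⟨a, X.v_inj ((t3 a).symm.trans e), rfl⟩
    · rw [cj_mul, X.T_t (hB hx), t3] at e
      exact Or.inr ⟨a, X.v_inj (mul_left_cancel e), rfl⟩
  have h6 := (Set.ncard_le_ncard h5).trans ((Set.ncard_union_le _ _).trans
    (add_le_add Set.ncard_image_le Set.ncard_image_le))
  rw [← Nat.card_coe_set_eq] at h6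
  have h7 := I.card
  have h8 := fix_sq t1 t2
  have h9 := X.four
  have h10 : Nat.card (B ⊓ X.E : Subgroup G) ≤ _ := h6
  generalize {a | τ a = a}.ncard = m at h8 h10
  have h11 : m ≤ 2 := by nlinarith
  interval_cases m <;> omega

end Fr

end H25.L2
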