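import Cfsg.Agent.Lib.L2S.Bas1
import Cfsg.Agent.Lib.TwoFusion.ZStarIso

/-! Basic consequences of `H25.L2.Hyp`. -/

set_option autoImplicit false
set_option linter.unusedSectionVars false

namespace H25.L2

open Subgroup H4.YM H4.TL Matrix MatrixGroups Bas

variable {G : Type*} [Group G] {F : Type*} [Field F]

namespace Hyp

variable (X : Hyp G F)

/-- the elements of odd order of `K` -/
def O0 : Subgroup G := closure {x | x ∈ X.K ∧ Odd (orderOf x)}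

theorem bas_auto : True := by have := @O0.eq_1.{0,0}; trivial

theorem φ_cj (M N : SL(2, F)) : X.φ (cj M N) = cj (X.φ M) (X.φ N) := by
  simp only [cj, map_mul, map_inv]

theorem tinv : X.t⁻¹ = X.t := inv_eq_of_mul_eq_one_right X.tt
theorem ttu (u : G) : X.t * (X.t * u) = u := by rw [← mul_assoc, X.tt, one_mul]
theorem v_add (a b : F) : X.v (a + b) = X.v a * X.v b := by rw [v, uu_add, map_mul]; rfl
theorem v_zero : X.v 0 = 1 := by rw [v, uu_zero, map_one]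
theorem v_inj {a b : F} (h : X.v a = X.v b) : a = b := uu_inj (X.inj h)
theorem v_eq_one {a : F} : X.v a = 1 ↔ a = 0 :=
  ⟨fun h => X.v_inj (h.trans X.v_zero.symm), fun h => h ▸ X.v_zero⟩
theorem v_sq (a : F) : X.v a * X.v a = 1 := by
  rw [← v_add, ← two_mul, X.char, zero_mul, v_zero]
theorem v_inv (a : F) : (X.v a)⁻¹ = X.v a := inv_eq_of_mul_eq_one_right (X.v_sq a)
theorem v_comm (a b : F) : cj (X.v a) (X.v b) = X.v b := by
  rw [cj_eq_iff, ← v_add, ← v_add, add_comm]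
theorem t_v (a : F) : cj X.t (X.v a) = X.v a := X.tφ _
theorem v_t (a : F) : cj (X.v a) X.t = X.t := cj_comm.1 (X.t_v a)
theorem mem_V {x : G} : x ∈ X.V ↔ ∃ a, x = X.v a := by
  refine ⟨fun h => ?_, fun ⟨a, h⟩ => h ▸ subset_closure ⟨a, rfl⟩⟩
  induction h using closure_induction with
  | mem x hx => exact hx.imp fun _ e => e.symm
  | one => exact ⟨0, X.v_zero.symm⟩
  | mul x y _ _ hx hy =>
    obtain ⟨a, rfl⟩ := hx; obtain ⟨b, rfl⟩ := hy; exact ⟨a + b, (X.v_add a b).symm⟩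
  | inv x _ hx => obtain ⟨a, rfl⟩ := hx; exact ⟨a, X.v_inv a⟩
theorem v_mem_V (a : F) : X.v a ∈ X.V := X.mem_V.2 ⟨a, rfl⟩
theorem V_le_A0 : X.V ≤ X.A0 := fun x hx => by
  obtain ⟨a, rfl⟩ := X.mem_V.1 hx; exact ⟨_, rfl⟩
theorem A0_le_L : X.A0 ≤ X.L := by rintro _ ⟨M, rfl⟩; exact X.φL M
theorem cen_φ {M : SL(2, F)} (h : ∀ N, cj (X.φ M) (X.φ N) = X.φ N) : X.φ M = 1 := by
  rw [cen_SL X.char (M := M) fun N => X.inj (by rw [φ_cj, h]), map_one]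
theorem t_A0 : X.t ∉ X.A0 := by
  rintro ⟨M, hM⟩
  exact X.t1 (hM ▸ X.cen_φ (hM ▸ X.tφ))
theorem card_V : Nat.card X.V = Nat.card F :=
  (Nat.card_congr (Equiv.ofBijective (fun a => (⟨X.v a, X.v_mem_V a⟩ : X.V))
    ⟨fun _ _ e => X.v_inj (congrArg Subtype.val e), fun x =>
      (X.mem_V.1 x.2).imp fun _ e => Subtype.ext e.symm⟩)).symm
theorem iE : Idx X.V X.E X.t :=
  idx_adj (fun h => X.t_A0 (X.V_le_A0 h)) (fun k hk => by
    obtain ⟨a, rfl⟩ := X.mem_V.1 hk; rwa [t_v]) (X.tt ▸ one_mem _)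
theorem mem_E {x : G} : x ∈ X.E ↔ ∃ a, x = X.v a ∨ x = X.t * X.v a := by
  rw [X.iE.mem_iff, mem_V, mem_V, exists_or]
  simp only [inv_mul_eq_iff_eq_mul]
theorem E_sq {x : G} (hx : x ∈ X.E) : x * x = 1 := by
  obtain ⟨a, rfl | rfl⟩ := X.mem_E.1 hx
  · exact X.v_sq a
  · rw [mul_assoc, ← mul_assoc (X.v a), ← cj_eq_iff.1 (X.t_v a), mul_assoc, ttu, v_sq]
theorem E_comm {x y : G} (hx : x ∈ X.E) (hy : y ∈ X.E) : cj x y = y :=
  cj_eq_iff.2 (comm_of_sq (X.E_sq hx) (X.E_sq hy) (X.E_sq (mul_mem hx hy)))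
theorem mem_K {x : G} : x ∈ X.K ↔ cj x X.t = X.t ∧ ∀ M, cj x (X.φ M) = X.φ M := by
  rw [K, mem_inf, mem_cen, mem_centralizer_iff]
  refine and_congr_right fun _ => ⟨fun h M => cj_eq_iff.2 (h _ ⟨M, rfl⟩).symm, ?_⟩
  rintro h _ ⟨M, rfl⟩
  exact (cj_eq_iff.1 (h M)).symm
theorem t_K : X.t ∈ X.K := X.mem_K.2 ⟨cj_eq_iff.2 rfl, X.tφ⟩
theorem O0_le_K : X.O0 ≤ X.K := (closure_le _).2 fun _ h => h.1
theorem C_A0 {c x : G} (hc : cj c X.t = X.t) (hx : x ∈ X.A0) : cj c x ∈ X.A0 := by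
  obtain ⟨M, τ, h⟩ := X.aut c hc
  obtain ⟨N, rfl⟩ := hx
  exact ⟨_, (h N).symm⟩
theorem C_K {c x : G} (hc : cj c X.t = X.t) (hx : x ∈ X.K) : cj c x ∈ X.K := by
  rw [mem_K] at hx ⊢
  refine ⟨by nth_rewrite 1 [← hc]; rw [cj_cj, hx.1, hc], fun M => ?_⟩
  obtain ⟨N, hN⟩ := X.C_A0 (inv_cj_eq.2 hc) (x := X.φ M) ⟨M, rfl⟩
  rw [← cj_inv_cj c (X.φ M), ← hN, cj_cj, hx.2]
theorem C_O0 {c x : G} (hc : cj c X.t = X.t) (hx : x ∈ X.O0) : cj c x ∈ X.O0 := by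
  induction hx using closure_induction with
  | mem x hx =>
    refine subset_closure ⟨X.C_K hc hx.1, ?_⟩
    rw [show orderOf (cj c x) = orderOf x from (MulAut.conj c).orderOf_eq x]
    exact hx.2
  | one => rw [cj_one]; exact one_mem _
  | mul x y _ _ hx hy => rw [cj_mul]; exact mul_mem hx hy
  | inv x _ hx => rw [cj_inv]; exact inv_mem hx
theorem Ω_t : X.Ω X.t := IsConj.refl _
theorem Ω_cj {s : G} (g : G) : X.Ω (cj g s) ↔ X.Ω s := isConj_cj g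
theorem Ω_iff {s : G} : X.Ω s ↔ ∃ g, cj g X.t = s := isConj_iff_cj
theorem sqΩ {s : G} (h : X.Ω s) : s * s = 1 := by
  obtain ⟨g, rfl⟩ := X.Ω_iff.1 h; exact cj_sq X.tt
theorem nΩ1 : ¬ X.Ω 1 := fun h => by
  obtain ⟨g, e⟩ := X.Ω_iff.1 h; exact X.t1 (cj_eq_one.1 e)
theorem L_cj {x : G} (g : G) : cj g x ∈ X.L ↔ x ∈ X.L :=
  ⟨fun h => inv_cj_cj g x ▸ X.nrm.conj_mem _ h g⁻¹, fun h => X.nrm.conj_mem _ h g⟩
theorem sq_mem_L (g : G) : g * g ∈ X.L := by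
  rcases X.top g with h | h
  · exact mul_mem h h
  · have := mul_mem ((X.L_cj X.t).2 h) h
    rwa [cj, tinv, ttu, mul_assoc, ttu] at this
theorem mul_mem_L (h : X.t ∉ X.L) {x y : G} : x * y ∈ X.L ↔ (x ∈ X.L ↔ y ∈ X.L) := by
  by_cases hx : x ∈ X.L
  · simp [hx, mul_mem_cancel_left hx]
  by_cases hy : y ∈ X.L
  · simp [hx, hy, mul_mem_cancel_right hy]
  have := mul_mem ((X.L_cj X.t).2 ((X.top x).resolve_left hx)) ((X.top y).resolve_left hy)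
  rw [cj, tinv, ttu, mul_assoc, ttu] at this
  simp [hx, hy, this]
theorem Ω_L {s : G} (h : X.Ω s) : s ∈ X.L ↔ X.t ∈ X.L := by
  obtain ⟨g, rfl⟩ := X.Ω_iff.1 h; exact X.L_cj g
theorem L_top (h : X.t ∈ X.L) : X.L = ⊤ :=
  eq_top_iff.2 fun g _ => (X.top g).elim id fun e => (mul_mem_cancel_left h).1 e
theorem Lna : ¬ IsMulCommutative X.L := fun h => by
  have := X.cen_φ (M := uu 1) fun N => cj_eq_iff.2 (congrArg Subtype.val
    (h.is_comm.comm (⟨_, X.φL (uu 1)⟩ : X.L) ⟨_, X.φL N⟩))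
  exact one_ne_zero (X.v_eq_one.1 this)
theorem L_comm : commutator X.L = ⊤ := by
  haveI := X.simple
  refine (IsSimpleGroup.eq_bot_or_eq_top_of_normal (commutator X.L) inferInstance).resolve_left
    fun h => X.Lna ⟨⟨fun a b => ?_⟩⟩
  rw [← commutatorElement_eq_one_iff_mul_comm, ← mem_bot, ← h]
  exact commutator_mem_commutator (mem_top _) (mem_top _)
theorem L_perf : X.L ≤ ⁅X.L, X.L⁆ := by
  have := congrArg (map X.L.subtype) X.L_comm
  rw [commutator_def, map_commutator, ← MonoidHom.range_eq_map, range_subtype] at this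
  exact this.ge

variable [Finite G] [Finite F]

include X in
theorem cardF : ∃ n, 2 ≤ n ∧ Nat.card F = 2 ^ n := by
  letI := Fintype.ofFinite F
  haveI : CharP F 2 := CharTwo.of_one_ne_zero_of_two_eq_zero one_ne_zero X.char
  obtain ⟨n, -, hn⟩ := FiniteField.card F 2
  have := X.four
  rw [Nat.card_eq_fintype_card, hn] at this ⊢
  exact ⟨n, (Nat.pow_le_pow_iff_right one_lt_two).1 this, rfl⟩
theorem card_E : Nat.card X.E = 2 * Nat.card F := by rw [X.iE.card, card_V]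
theorem card_A0 : Nat.card X.A0 = Nat.card F * (Nat.card F ^ 2 - 1) := by
  rw [A0, ← Nat.card_congr (MonoidHom.ofInjective X.inj).toEquiv, H10.card_SL_two, mul_assoc,
    ← one_pow 2, Nat.sq_sub_sq, one_pow, mul_comm (_ + 1)]
theorem A0_perf : X.A0 ≤ ⁅X.A0, X.A0⁆ := by
  have := congrArg (map X.φ) (perf X.four)
  rw [commutator_def, map_commutator, ← MonoidHom.range_eq_map] at this
  exact this.ge
theorem sylV : Syl X.V X.A0 := by
  refine ⟨pg_of_sq fun x hx => X.E_sq (X.iE.le hx), X.V_le_A0, _, ?_, by rw [card_A0, card_V]⟩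
  obtain ⟨n, h1, h2⟩ := X.cardF
  rw [h2, ← pow_mul]
  exact Nat.Even.sub_odd Nat.one_le_two_pow ((Nat.even_pow' (by omega)).2 even_two) odd_one
theorem mem_N1 {n : G} : n ∈ X.N1 ↔ cj n X.t = X.t ∧ ∀ a, cj n (X.v a) ∈ X.V := by
  rw [N1, mem_inf, mem_cen, mem_norm]
  refine and_congr_right fun _ => ⟨fun h a => h _ (X.v_mem_V a), fun h x hx => ?_⟩
  obtain ⟨a, rfl⟩ := X.mem_V.1 hx
  exact h a
theorem E_le_N1 : X.E ≤ X.N1 := fun _ hx => X.mem_N1.2 ⟨X.E_comm hx X.iE.mem, fun a => by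
  rw [X.E_comm hx (X.iE.le (X.v_mem_V a))]; exact X.v_mem_V a⟩
theorem K_le_N1 : X.K ≤ X.N1 := fun _ hx => X.mem_N1.2 ⟨(X.mem_K.1 hx).1, fun a => by
  rw [v, (X.mem_K.1 hx).2]; exact X.v_mem_V a⟩
theorem aut_tri {c : G} (hc : cj c X.t = X.t) {a : F} (ha : a ≠ 0) (h : cj c (X.v a) ∈ X.V) :
    ∃ (y : F) (k : Fˣ) (τ : F ≃+* F), (∀ N, cj c (X.φ N) = X.φ (cj (uu y * dd k) (fa τ N))) ∧
      ∀ b, cj c (X.v b) = X.v (k * k * τ b) := by
  obtain ⟨M, τ, hM⟩ := X.aut c hc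
  obtain ⟨b, hb⟩ := X.mem_V.1 h
  rw [v, hM, fa_uu] at hb
  obtain ⟨y, k, rfl⟩ := tri ((map_ne_zero τ).2 ha) (X.inj hb)
  refine ⟨y, k, τ, hM, fun b => ?_⟩
  rw [v, hM, fa_uu, mul_cj, dd_uu, φ_cj]
  exact X.v_comm _ _
/-- `N1` acts semilinearly -/
theorem N1_act {n : G} (hn : n ∈ X.N1) :
    ∃ (k : Fˣ) (τ : F ≃+* F), ∀ a, cj n (X.v a) = X.v (k * τ a) := by
  obtain ⟨-, k, τ, -, h⟩ := X.aut_tri (X.mem_N1.1 hn).1 one_ne_zero ((X.mem_N1.1 hn).2 1)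
  exact ⟨k * k, τ, h⟩
/-- `V` is a TI subgroup of `C(t)` -/
theorem ti {c : G} (hc : cj c X.t = X.t) {a : F} (ha : a ≠ 0) (h : cj c (X.v a) ∈ X.V) :
    c ∈ X.N1 := by
  obtain ⟨-, k, τ, -, h⟩ := X.aut_tri hc ha h
  exact X.mem_N1.2 ⟨hc, fun b => h b ▸ X.v_mem_V _⟩
theorem cenV {c : G} (hc : cj c X.t = X.t) (h : ∀ a, cj c (X.v a) = X.v a) :
    ∃ a, ∃ κ ∈ X.K, c = X.v a * κ := by
  obtain ⟨y, k, τ, h1, h2⟩ := X.aut_tri hc one_ne_zero ((h 1).symm ▸ X.v_mem_V 1)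
  have e : ∀ b, b = k * k * τ b := fun b => X.v_inj ((h b).symm.trans (h2 b))
  have e1 : (k : F) * k = 1 := by simpa using (e 1).symm
  obtain rfl : k = 1 := Units.ext (sq_inj X.char (by simpa using e1))
  obtain rfl : τ = 1 := RingEquiv.ext fun b => by simpa using (e b).symm
  refine ⟨y, (X.v y)⁻¹ * c, X.mem_K.2 ⟨?_, fun M => ?_⟩, (mul_inv_cancel_left _ _).symm⟩
  · rw [mul_cj, hc, v_inv, v_t]
  · rw [mul_cj, h1, dd_one, mul_one, fa_one, φ_cj]; exact inv_cj_cj _ _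
theorem idx2 (h : X.t ∈ X.L) (H : Subgroup G) : H.index ≠ 2 := fun e => by
  have := X.L_perf.trans (comm_le e _ _)
  rw [X.L_top h, top_le_iff] at this
  rw [this, index_top] at e
  omega
theorem idx2L (H : Subgroup X.L) : H.index ≠ 2 := fun e => by
  have := comm_le e ⊤ ⊤
  rw [← commutator_def, L_comm, top_le_iff] at this
  rw [this, index_top] at e
  omega
include X in
theorem oddCore_bot : Cfsg.oddCore G = ⊥ := by
  haveI := X.simple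
  rcases IsSimpleGroup.eq_bot_or_eq_top_of_normal ((Cfsg.oddCore G).subgroupOf X.L) inferInstance
    with h | h
  · refine eq_bot_iff.2 fun g hg => mem_bot.2 (X.cen g fun x hx => ?_)
    have h1 : cj g x * x⁻¹ ∈ X.L := mul_mem ((X.L_cj g).2 hx) (inv_mem hx)
    have h2 : (⟨_, h1⟩ : X.L) ∈ (Cfsg.oddCore G).subgroupOf X.L := by
      have := mul_mem hg ((Cfsg.pPrimeCore_normal 2 G).conj_mem _ (inv_mem hg) x)
      exact mem_subgroupOf.2 (by simpa only [cj, mul_assoc] using this)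
    rw [h, mem_bot] at h2
    exact mul_inv_eq_one.1 (congrArg Subtype.val h2)
  · have h1 : X.v 1 ∈ Cfsg.oddCore G :=
      mem_subgroupOf.1 (h ▸ mem_top (⟨X.v 1, X.φL _⟩ : X.L))
    have h2 := orderOf_dvd_natCard (⟨_, h1⟩ : Cfsg.oddCore G)
    rw [orderOf_mk, orderOf_eq_prime (p := 2) (by rw [pow_two, v_sq])
      fun e => one_ne_zero (X.v_eq_one.1 e)] at h2
    exact absurd (even_iff_two_dvd.2 h2) (Nat.not_even_iff_odd.2 H1.odd_card_oddCore)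
/-- the `Z*`-theorem -/
theorem zst : ∃ s, X.Ω s ∧ s ≠ X.t ∧ cj s X.t = X.t := by
  by_contra! h
  have h1 : Cfsg.IsIsolatedInvolution X.t :=
    ⟨orderOf_eq_prime (by rw [pow_two, X.tt]) X.t1, fun g hg => by
      by_contra e
      exact h _ (X.Ω_iff.2 ⟨g, rfl⟩) e (cj_eq_iff.2 hg.symm.eq)⟩
  refine X.t1 (X.cen _ fun x _ => ?_)
  have := H41.Isolated.zstar h1 x
  rw [X.oddCore_bot, mem_bot] at this
  exact mul_inv_eq_one.1 this
theorem syl_L {S : Subgroup G} (h : Syl S ⊤) : Syl (S ⊓ X.L) X.L :=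
  haveI := X.nrm
  syl_iff.2 ((syl_iff.1 h).inf_normal le_top (normalizer_eq_top X.L).ge)

end Hyp

end H25.L2
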