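import Cfsg.Agent.Lib.L2S.Crd1

/-! Coordinates on `Y` in the double case and the action of `N(Y)`. -/

set_option autoImplicit false
set_option linter.unusedSectionVars false

namespace H25.L2

open Subgroup H4.YM H4.TL MatrixGroups CrdA

variable {G : Type*} [Group G] [Finite G] {F : Type*} [Field F] [Finite F]

theorem Fr.Dbl.crd {X : Fr G F} {Y : Subgroup G} {b : G → F} {s : G} {τ : F ≃+* F}
    (D : X.Dbl Y b s τ) (h : ∀ y ∈ Y, y * y = 1) : ∃ y, X.Crd Y b s τ y := by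
  obtain ⟨y, P⟩ := exists_pre D.toTow D.Yc h
  obtain ⟨l, hl⟩ := P.form (f0_N1 D) (k := 1) (ψ := τ) fun a => by
    rw [f0_v D, Units.val_one, one_mul]
  simp only [Units.val_one, one_mul] at hl
  have e : τ l = l := by
    have h1 := congrArg (cj (X.t * s)) (hl 1)
    rw [← mul_cj, f0_sq D, one_cj, cj_mul, f0_v D, hl, map_one, map_one, mul_one, ← mul_assoc,
      ← X.v_add] at h1
    have h2 := X.v_eq_one.1 (mul_eq_right.1 h1.symm)
    linear_combination h2 - l * X.char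
  obtain ⟨m, hm⟩ := fix_trace X.char D.τ1 D.ττ e
  refine ⟨fun c => X.v (m * c) * y c, D, fun c => mul_mem (vY P.T _) (P.yY c),
    fun c d => by rw [mul_add, P.el_add], fun c => P.b_el _ c, fun w hw => ?_, fun k c => ?_,
    fun c => ?_, fun c => ?_⟩
  · obtain ⟨a, ha⟩ := P.memY hw
    refine ⟨a + m * b w, b w, ?_⟩
    rw [← mul_assoc, X.v_add, mul_assoc (X.v a), X.v_sq, mul_one, ← ha]
  · rw [cj_mul, X.h_v, P.h_y, mul_left_comm]
  · rw [t_cj P.T (mul_mem (vY P.T _) (P.yY c)), P.b_el]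
  · rw [cj_mul, f0_v D, hl, ← mul_assoc, ← X.v_add, map_mul, hm]
    congr 2
    linear_combination τ m * τ c * X.char

/-- the action of `N(Y)` in coordinates -/
structure Fr.Act (X : Fr G F) (Y : Subgroup G) (y : F → G)
    (π : normalizer (Y : Set G) →* Equiv.Perm (F × F)) : Prop where
  act : ∀ (n : normalizer (Y : Set G)) a c,
    cj (n : G) (X.v a * y c) = X.v (π n (a, c)).1 * y (π n (a, c)).2

namespace Fr.Crd

variable {X : Fr G F} {Y : Subgroup G} {b : G → F} {s : G} {τ : F ≃+* F} {y : F → G}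
  (D : X.Crd Y b s τ y)
include D

theorem pre : Pre X Y b y := ⟨D.toTow, D.Yc, D.yY, D.y_add, D.b_y, D.h_y⟩

theorem el_mem (a c : F) : X.v a * y c ∈ Y := mul_mem (vY D.toTow a) (D.yY c)

theorem sq {w : G} (hw : w ∈ Y) : w * w = 1 := by
  obtain ⟨a, c, rfl⟩ := D.memY w hw
  rw [← D.pre.el_add, ← two_mul, ← two_mul, X.char, zero_mul, zero_mul, X.v_zero, D.pre.y_zero,
    mul_one]

theorem inj {a c a' c' : F} (h : X.v a * y c = X.v a' * y c') : a = a' ∧ c = c' := D.pre.inj h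

theorem bij : Function.Bijective fun p : F × F => (⟨X.v p.1 * y p.2, D.el_mem _ _⟩ : Y) :=
  ⟨fun _ _ e => Prod.ext_iff.2 (D.inj (congrArg Subtype.val e)), fun w =>
    let ⟨a, c, e⟩ := D.memY w w.2; ⟨(a, c), Subtype.ext e.symm⟩⟩

theorem cardY2 : Nat.card Y = Nat.card F ^ 2 := by
  rw [← Nat.card_congr (Equiv.ofBijective _ D.bij), Nat.card_prod, pow_two]

theorem N1_NY : X.N1 ≤ normalizer (Y : Set G) := fun n hn => mem_norm.2 (D.nY n hn)

theorem exists_act : ∃ π, X.Act Y y π := by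
  let e := Equiv.ofBijective _ D.bij
  refine ⟨e.symm.permCongrHom.toMonoidHom.comp ((MulAut.toPerm Y).comp Y.normalizerMonoidHom),
    ⟨fun n a c => ?_⟩⟩
  exact (congrArg Subtype.val (e.apply_symm_apply (Y.normalizerMonoidHom n (e (a, c))))).symm

theorem t_NY : X.t ∈ normalizer (Y : Set G) := D.N1_NY (X.E_le_N1 X.iE.mem)

theorem tY' : X.t ∉ Y := fun h => D.nΩ _ h X.Ω_t

theorem t_ncen (h : ∀ w ∈ Y, cj X.t w = w) : False := by
  have := D.t_y 1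
  rw [h _ (D.yY 1)] at this
  exact one_ne_zero (X.v_eq_one.1 (mul_eq_right.1 this.symm))

omit D in
theorem cen_NY {g : G} (h : ∀ w ∈ Y, cj g w = w) : g ∈ normalizer (Y : Set G) :=
  mem_norm.2 fun w hw => by rwa [h w hw]

omit D in
theorem mem_C {g : G} : g ∈ centralizer (Y : Set G) ↔ ∀ w ∈ Y, cj g w = w :=
  mem_centralizer_iff.trans (forall₂_congr fun _ _ => eq_comm.trans cj_eq_iff.symm)

omit D in
theorem cj_C {n g : G} (hn : n ∈ normalizer (Y : Set G)) (h : g ∈ centralizer (Y : Set G)) :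
    cj n g ∈ centralizer (Y : Set G) := mem_C.2 fun w hw => by
  rw [← cj_inv_cj n w, cj_cj, mem_C.1 h _ ((cj_mem_iff (inv_mem hn)).2 hw)]

/-- `Y` is a Sylow subgroup of its centraliser -/
theorem cen_two {g : G} (h : ∀ w ∈ Y, cj g w = w) {j : ℕ} (h2 : g ^ 2 ^ j = 1) : g ∈ Y := by
  haveI : Fact (Nat.Prime 2) := ⟨Nat.prime_two⟩
  have I : Idx Y (adj Y X.t) X.t :=
    idx_adj D.tY' (mem_norm.1 D.t_NY) (X.tt ▸ one_mem _)
  have YC : Y ≤ centralizer (Y : Set G) := fun w hw => mem_C.2 fun _ => D.pre.cjY hw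
  have J : Idx (centralizer (Y : Set G)) (adj (centralizer (Y : Set G)) X.t) X.t :=
    idx_adj (fun e => D.t_ncen (mem_C.1 e)) (fun _ => cj_C D.t_NY) (X.tt ▸ one_mem _)
  obtain ⟨P, h3, S⟩ := exists_syl (pg_idx I D.pgY) (adj_le (YC.trans J.le) J.mem)
  obtain ⟨c, hc, h4⟩ := S.conj (pg_zpowers h2) (zpowers_le.2 (J.le (mem_C.2 h)))
  have cN : c⁻¹ ∈ normalizer (Y : Set G) :=
    inv_mem (adj_le (fun _ e => cen_NY (mem_C.1 e)) D.t_NY hc)
  by_contra hg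
  have h5 : adj Y X.t < P := lt_of_le_of_ne h3 fun e => by
    have := mem_cm.1 (h4 (mem_zpowers g))
    rw [← e] at this
    rcases I.dich _ this with e1 | e1
    · exact hg ((cj_mem_iff cN).1 e1)
    · exact J.nmem (inv_mem_iff.1 ((mul_mem_cancel_right (cj_C cN (mem_C.2 h))).1 (YC e1)))
  obtain ⟨u, ⟨u1, u2⟩, u3⟩ := SetLike.exists_of_lt (H69.lt_inf_normalizer_of_lt S.pg h5)
  have key : ∀ w ∈ P, w ∈ normalizer (adj Y X.t : Set G) → w ∈ centralizer (Y : Set G) →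
      w ∈ adj Y X.t := fun w w1 w2 w3 => by
    obtain ⟨k, hk⟩ := pg_pow S.pg w1
    have wv : ∀ a, cj w (X.v a) = X.v a := fun a => mem_C.1 w3 _ (vY D.toTow a)
    have wt : cj w X.t ∈ X.E := by
      rcases I.cases (mem_norm.1 w2 _ I.mem) with e | ⟨z, hz, e⟩
      · exact absurd ((X.Ω_cj w).2 X.Ω_t) (D.nΩ _ e)
      · exact e ▸ mul_mem X.iE.mem (X.iE.le (D.ΩA z hz (e ▸ (X.Ω_cj w).2 X.Ω_t)))
    rcases D.toTow.NQ_two (mem_norm.2 (adj_le_comap (fun x hx => by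
      obtain ⟨a, rfl⟩ := X.mem_V.1 hx
      rw [wv]; exact X.iE.le hx) wt)) wv hk with e | e
    · exact I.le e
    · exact (mul_mem_cancel_left I.mem).1 (I.le e)
  rcases J.dich u (S.le u1) with e | e
  · exact u3 (key u u1 u2 e)
  · exact u3 ((mul_mem_cancel_left (inv_mem I.mem)).1 (key _ (mul_mem (inv_mem (h3 I.mem)) u1)
      (mul_mem (inv_mem (le_normalizer I.mem)) u2) e))

/-- two involutions inducing the same automorphism on `Y` -/
theorem lift0 {z w : G} (zz : z * z = 1) (ww : w * w = 1) (h : ∀ x ∈ Y, cj (z * w) x = x) :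
    ∃ u ∈ Y, z * u * (z * u) = 1 ∧ ∃ n, (∀ x ∈ Y, cj n x = x) ∧ cj n (z * u) = w := by
  obtain ⟨u, d, hu, hd, ⟨j, hj⟩, ho, e⟩ := two_odd (z * w)
  have hC := zpowers_le.2 (mem_C.2 h)
  have hi : cj z (z * w) = (z * w)⁻¹ := cj_eq_inv_of_sq zz (by rw [← mul_assoc z z, zz, one_mul, ww])
  have uY := D.cen_two (mem_C.1 (hC hu)) hj
  obtain ⟨m, hm⟩ := cj_odd (inv_zpowers hi hd) ho
  have hm' := mem_C.1 (pow_mem (hC hd) m)
  refine ⟨u, uY, ?_, d ^ m, hm', ?_⟩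
  · have := inv_zpowers hi hu
    rw [cj, inv_eq_of_mul_eq_one_right zz] at this
    rw [← mul_assoc, this, inv_mul_cancel]
  · rw [cj_mul, hm, hm' u uY, mul_assoc, cj_eq_iff.1 (mem_C.1 (hC hd) u uY), ← e, ← mul_assoc, zz,
      one_mul]

theorem lift_t0 {w : G} (ww : w * w = 1) (h : ∀ x ∈ Y, cj (X.t * w) x = x) :
    ∃ n, (∀ x ∈ Y, cj n x = x) ∧ cj n X.t = w := by
  obtain ⟨u, hu, h1, n, h2, h3⟩ := D.lift0 X.tt ww h
  have := cj_eq_inv_of_sq X.tt h1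
  rw [inv_eq_of_mul_eq_one_right (D.sq hu)] at this
  obtain ⟨z, hz, e⟩ := D.tr u (D.cenY u hu (cj_comm.1 this))
  exact ⟨n * z, fun x hx => by rw [mul_cj, D.pre.cjY hz hx, h2 x hx], by rw [mul_cj, e, h3]⟩

variable {π : normalizer (Y : Set G) →* Equiv.Perm (F × F)} (hπ : X.Act Y y π)
include hπ

theorem π_ext {n : normalizer (Y : Set G)} {a c : F} {p : F × F}
    (h : cj (n : G) (X.v a * y c) = X.v p.1 * y p.2) : π n (a, c) = p :=
  Prod.ext_iff.2 (D.inj ((hπ.act n a c).symm.trans h))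

theorem π_add (n : normalizer (Y : Set G)) (p p' : F × F) : π n (p + p') = π n p + π n p' :=
  D.π_ext hπ (a := p.1 + p'.1) (c := p.2 + p'.2) (by
    rw [D.pre.el_add, cj_mul, hπ.act, hπ.act, ← D.pre.el_add]; rfl)

theorem π_eq_one {n : normalizer (Y : Set G)} : π n = 1 ↔ ∀ w ∈ Y, cj (n : G) w = w := by
  refine ⟨fun h w hw => ?_, fun h => Equiv.ext fun p => D.π_ext hπ (h _ (D.el_mem _ _))⟩
  obtain ⟨a, c, rfl⟩ := D.memY w hw
  rw [hπ.act, h]; rfl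

theorem π_t {n : normalizer (Y : Set G)} (h : (n : G) = X.t) : π n = tb X.char :=
  Equiv.ext fun p => D.π_ext hπ (by
    rw [h, cj_mul, X.t_v, D.t_y, ← mul_assoc, ← X.v_add]; rfl)

theorem π_h {n : normalizer (Y : Set G)} {k : Fˣ} (h : (n : G) = X.h k) : π n = hb k :=
  Equiv.ext fun p => D.π_ext hπ (by rw [h, cj_mul, X.h_v, D.h_y]; rfl)

theorem π_f {n : normalizer (Y : Set G)} (h : (n : G) = X.t * s) : π n = fb τ :=
  Equiv.ext fun p => D.π_ext hπ (by rw [h, cj_mul, f0_v D.toDbl, D.f_y]; rfl)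

theorem card_fix (n : normalizer (Y : Set G)) :
    Nat.card (Y ⊓ centralizer {(n : G)} : Subgroup G) = (fix (π n)).ncard := by
  rw [← Set.ncard_image_of_injective _ (f := fun p : F × F => X.v p.1 * y p.2)
    fun _ _ e => Prod.ext_iff.2 (D.inj e), ← Nat.card_coe_set_eq]
  refine Nat.card_congr (Equiv.subtypeEquivRight fun w => ⟨fun ⟨h1, h2⟩ => ?_, ?_⟩)
  · obtain ⟨a, c, rfl⟩ := D.memY w h1
    exact ⟨(a, c), D.π_ext hπ (cj_comm.1 (mem_cen.1 h2)), rfl⟩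
  · rintro ⟨⟨a, c⟩, h1, rfl⟩
    refine ⟨D.el_mem _ _, mem_cen.2 (cj_comm.1 ?_)⟩
    rw [hπ.act, show π n (a, c) = (a, c) from h1]

theorem same {z w x : normalizer (Y : Set G)} (zz : (z : G) * z = 1) (h : π w = cj (π x) (π z)) :
    ∀ u ∈ Y, cj (z * cj (x : G)⁻¹ w) u = u :=
  (D.π_eq_one hπ (n := z * (x⁻¹ * w * x⁻¹⁻¹))).1 (by
    have : π z * π z = 1 := by rw [← map_mul, show z * z = 1 from Subtype.ext zz, map_one]
    simp only [map_mul, map_inv, h, cj, inv_inv, mul_assoc, inv_mul_cancel_left, inv_mul_cancel,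
      mul_one, this])

/-- an involution over a conjugate of `tb` is conjugate to `t` -/
theorem lift_t {w x : normalizer (Y : Set G)} (ww : (w : G) * w = 1) (h : π w = cj (π x) (tb X.char)) :
    ∃ n ∈ normalizer (Y : Set G), cj n X.t = w := by
  rw [← D.π_t hπ (n := ⟨_, D.t_NY⟩) rfl] at h
  obtain ⟨n, h1, h2⟩ := D.lift_t0 (cj_sq ww) (D.same hπ X.tt h)
  exact ⟨x * n, mul_mem x.2 (cen_NY h1), by rw [mul_cj, h2, cj_inv_cj]⟩

theorem lift_f {w x : normalizer (Y : Set G)} (ww : (w : G) * w = 1) (h : π w = cj (π x) (fb τ)) :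
    ∃ n ∈ normalizer (Y : Set G), cj n (X.t * s) = w := by
  rw [← D.π_f hπ (n := ⟨_, D.N1_NY (f0_N1 D.toDbl)⟩) rfl] at h
  obtain ⟨u, hu, h1, n, h2, h3⟩ := D.lift0 (f0_sq D.toDbl) (cj_sq ww) (D.same hπ (f0_sq D.toDbl) h)
  obtain ⟨z, hz, e⟩ := D.free _ (f0_T1 D.toDbl) (f0_φ D.toDbl) u hu h1
  exact ⟨x * (n * z), mul_mem x.2 (mul_mem (cen_NY h2) (le_normalizer hz)), by
    rw [mul_cj, mul_cj, e, h3, cj_inv_cj]⟩

/-- the centraliser of `tb` is the image of `N1` -/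
theorem cen_tb {n : normalizer (Y : Set G)} (h : cj (π n) (tb X.char) = tb X.char) :
    ∃ m : normalizer (Y : Set G), (m : G) ∈ X.N1 ∧ π m = π n := by
  rw [← D.π_t hπ (n := ⟨_, D.t_NY⟩) rfl] at h
  have h0 := D.same hπ (z := ⟨_, D.t_NY⟩) (w := ⟨_, D.t_NY⟩) (x := n⁻¹) X.tt (by
    rw [map_inv]; exact (inv_cj_eq.2 h).symm)
  obtain ⟨c, h1, h2⟩ := D.lift_t0 (cj_sq X.tt) h0
  rw [InvMemClass.coe_inv, inv_inv] at h2
  have e : cj (c⁻¹ * n) X.t = X.t := by rw [mul_cj, inv_cj_eq, h2]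
  have hN := mul_mem (inv_mem (cen_NY h1)) n.2
  refine ⟨(⟨c, cen_NY h1⟩ : normalizer (Y : Set G))⁻¹ * n, X.mem_N1.2 ⟨e, fun a => D.cenY _
    (mem_norm.1 hN _ (vY D.toTow a)) ?_⟩, ?_⟩
  · show cj (cj (c⁻¹ * n) (X.v a)) X.t = X.t
    nth_rewrite 1 [← e]
    rw [cj_cj, X.v_t, e]
  · rw [map_mul, map_inv, (D.π_eq_one hπ (n := ⟨c, cen_NY h1⟩)).2 h1, inv_one, one_mul]

theorem cen_form {n : normalizer (Y : Set G)} (h : (n : G) ∈ X.N1) :
    ∃ (k : Fˣ) (ψ : F ≃+* F) (l : F), (∀ a c, π n (a, c) = (k * ψ a + l * (k * ψ c), k * ψ c)) ∧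
      (ψ = 1 → l = 0 ∨ l = 1) := by
  obtain ⟨k, ψ, h1⟩ := X.N1_act h
  obtain ⟨l, hl⟩ := D.pre.form h h1
  refine ⟨k, ψ, l, fun a c => D.π_ext hπ (by rw [cj_mul, h1, hl, ← mul_assoc, ← X.v_add]), ?_⟩
  rintro rfl
  obtain ⟨a, κ, hκ, e⟩ := X.scal (X.mem_N1.1 h).1 (k := k) h1
  have h2 := hl 1
  rw [map_one, mul_one, e, mul_cj, mul_cj] at h2
  rcases D.toPure.K_split hκ with o | o
  · rw [D.toTow.O0_Y o (D.yY 1), D.h_y, mul_one, D.pre.cjY (vY D.toTow a) (D.yY _)] at h2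
    exact Or.inl ((mul_eq_zero.1 (X.v_eq_one.1 (mul_eq_right.1 h2.symm))).resolve_right k.ne_zero)
  · rw [← X.ttu κ, mul_cj, D.toTow.O0_Y o (D.yY 1), D.t_y, cj_mul, X.h_v, D.h_y, mul_one,
      D.pre.cjY (vY D.toTow a) (D.el_mem _ _)] at h2
    exact Or.inr ((mul_eq_right₀ k.ne_zero).1 (D.inj h2).1.symm)

end Fr.Crd

end H25.L2
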