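import Cfsg.Agent.Lib.L2S.GenA
import Cfsg.Agent.Lib.GMSz.Gen

/-! Coordinates on `Y` in the double case: preliminaries. -/

set_option autoImplicit false
set_option linter.unusedSectionVars false

namespace H25.L2.CrdA

open Subgroup H4.YM H4.TL MatrixGroups

variable {G : Type*} [Group G] [Finite G] {F : Type*} [Field F] [Finite F]

theorem two_odd (c : G) : ∃ u d : G, u ∈ zpowers c ∧ d ∈ zpowers c ∧ (∃ j : ℕ, u ^ 2 ^ j = 1) ∧
    Odd (orderOf d) ∧ c = u * d := by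
  obtain ⟨j, m, hm, e⟩ := Nat.exists_eq_two_pow_mul_odd (orderOf_pos c).ne'
  obtain ⟨a, b, hab⟩ : IsCoprime ((2 ^ j : ℕ) : ℤ) (m : ℤ) :=
    Nat.isCoprime_iff_coprime.2 (Nat.Coprime.pow_left j ((Nat.coprime_two_left).2 hm))
  have z : ∀ k : ℤ, c ^ (k * ((2 ^ j * m : ℕ) : ℤ)) = 1 := fun k => by
    rw [mul_comm, zpow_mul, ← e, zpow_natCast, pow_orderOf_eq_one, one_zpow]
  refine ⟨c ^ (b * m), c ^ (a * (2 ^ j : ℕ)), zpow_mem (mem_zpowers c) _, zpow_mem (mem_zpowers c) _,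
    ⟨j, ?_⟩, hm.of_dvd_nat (orderOf_dvd_of_pow_eq_one ?_), ?_⟩
  · rw [← zpow_natCast, ← zpow_mul, ← z b]; congr 1; push_cast; ring
  · rw [← zpow_natCast, ← zpow_mul, ← z a]; congr 1; push_cast; ring
  · rw [← zpow_add, add_comm, hab, zpow_one]

theorem inv_zpowers {z c d : G} (h : cj z c = c⁻¹) (hd : d ∈ zpowers c) : cj z d = d⁻¹ := by
  obtain ⟨k, rfl⟩ := hd
  have := map_zpow (MulAut.conj z) c k
  rw [MulAut.conj_apply, MulAut.conj_apply] at this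
  rw [cj, this, ← cj, h, inv_zpow]

theorem cj_odd {z d : G} (h : cj z d = d⁻¹) (ho : Odd (orderOf d)) :
    ∃ m : ℕ, cj (d ^ m) z = z * d := by
  obtain ⟨m, hm⟩ := ho
  have h1 : cj z (d ^ m)⁻¹ = d ^ m := by rw [cj_inv, cj_pow, h, inv_pow, inv_inv]
  have h2 : d ^ m * d ^ m * d = 1 := by
    rw [← pow_add, ← pow_succ, ← two_mul, ← hm, pow_orderOf_eq_one]
  refine ⟨m, ?_⟩
  rw [cj, mul_inv_eq_iff_eq_mul] at h1
  rw [cj, ← h1, mul_assoc, ← mul_inv_rev, inv_eq_of_mul_eq_one_right h2]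

variable {X : Fr G F} {Y : Subgroup G} {b : G → F}

theorem b_V (D : X.Tow X.V Y b) (a : F) : b (X.v a) = 0 :=
  (D.b_ker _ (D.AY (X.v_mem_V a))).2 (X.v_mem_V a)

theorem vY (D : X.Tow X.V Y b) (a : F) : X.v a ∈ Y := D.AY (X.v_mem_V a)

theorem cj_t (D : X.Tow X.V Y b) {w : G} (hw : w ∈ Y) : cj w X.t = X.t * X.v (b w) := by
  obtain ⟨e, -, h1, -, h2⟩ := D.b_pow
  have sq : ∀ a ∈ X.V, a ^ 2 = 1 := fun a ha => by rw [pow_two]; exact X.E_sq (X.iE.le ha)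
  rcases Nat.even_or_odd' e with ⟨m, rfl | rfl⟩
  · obtain ⟨a, ha, e1⟩ := h1 _ (X.v_mem_V 1)
    rw [pow_mul, sq a ha, one_pow] at e1
    exact absurd (X.v_eq_one.1 e1.symm) one_ne_zero
  · rw [h2 w hw, pow_succ, pow_mul, sq _ (D.tY w hw), one_pow, one_mul, X.ttu]

theorem t_cj (D : X.Tow X.V Y b) {w : G} (hw : w ∈ Y) : cj X.t w = X.v (b w) * w := by
  rw [← X.ttu (X.v (b w)), ← cj_t D hw, cj, cj, X.tinv, mul_assoc X.t (_ * _), inv_mul_cancel_right,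
    mul_assoc]

theorem b_act (D : X.Tow X.V Y b) {n : G} (hn : n ∈ X.N1) {α : F → F}
    (h : ∀ a, cj n (X.v a) = X.v (α a)) {w : G} (hw : w ∈ Y) : b (cj n w) = α (b w) :=
  X.v_inj (by rw [D.b_cj n hn w hw, h])

/-- an `H`-equivariant section of `b` -/
structure Pre (X : Fr G F) (Y : Subgroup G) (b : G → F) (y : F → G) : Prop where
  T : X.Tow X.V Y b
  Yc : ∀ x ∈ Y, ∀ y ∈ Y, x * y = y * x
  yY : ∀ c, y c ∈ Y
  y_add : ∀ c d, y (c + d) = y c * y d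
  b_y : ∀ c, b (y c) = c
  h_y : ∀ (k : Fˣ) c, cj (X.h k) (y c) = y (k * c)

theorem exists_pre (D : X.Tow X.V Y b) (hc : ∀ x ∈ Y, ∀ y ∈ Y, x * y = y * x)
    (h : ∀ y ∈ Y, y * y = 1) : ∃ y, Pre X Y b y := by
  have hH : X.h.range ≤ X.N1 := by rintro _ ⟨k, rfl⟩; exact X.h_N1 k
  obtain ⟨W, -, h1, h2, h3, h4⟩ := H25.Sz.rel_maschke (S := Y) (K := X.V) (Y := ⊥) (A := X.h.range)
    bot_le D.AY (fun s hs => h s hs) (fun n hn => mem_norm.2 (D.nY n (hH hn)))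
    (fun n hn => (hH hn).2) (fun n _ => mem_norm.2 fun x hx => cj_eq_one.2 hx) (by
      obtain ⟨n, h1, h2⟩ := X.cardF
      refine Odd.of_dvd_nat ?_ (card_range_dvd X.h)
      rw [Nat.card_units, h2]
      exact Nat.Even.sub_odd Nat.one_le_two_pow ((Nat.even_pow' (by omega)).2 even_two) odd_one)
  have ex : ∀ c, ∃ w ∈ W, b w = c := fun c => by
    obtain ⟨w, hw, rfl⟩ := D.b_surj c
    obtain ⟨k, hk, w', hw', rfl⟩ := h4 w hw
    exact ⟨w', hw', by rw [D.b_mul _ (D.AY hk) _ (h1 hw'), (D.b_ker _ (D.AY hk)).2 hk, zero_add]⟩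
  have un : ∀ w ∈ W, ∀ w' ∈ W, b w = b w' → w = w' := fun w hw w' hw' e => by
    have := h3 _ (mul_mem hw hw') ((D.b_ker _ (h1 (mul_mem hw hw'))).1 (by
      rw [D.b_mul _ (h1 hw) _ (h1 hw'), e, ← two_mul, X.char, zero_mul]))
    exact mul_right_cancel ((mem_bot.1 this).trans (h _ (h1 hw')).symm)
  choose y hy hb using ex
  refine ⟨y, D, hc, fun c => h1 (hy c), fun c d => un _ (hy _) _ (mul_mem (hy _) (hy _)) ?_, hb,
    fun k c => un _ (mem_norm.1 (h2 ⟨k, rfl⟩) _ (hy _)) _ (hy _) ?_⟩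
  · rw [D.b_mul _ (h1 (hy _)) _ (h1 (hy _)), hb, hb, hb]
  · rw [b_act D (X.h_N1 k) (X.h_v k) (h1 (hy _)), hb, hb]

namespace Pre

variable {y : F → G} (P : Pre X Y b y)
include P

theorem y_zero : y 0 = 1 := by simpa using P.y_add 0 0

theorem y_sq (c : F) : y c * y c = 1 := by rw [← P.y_add, ← two_mul, X.char, zero_mul, P.y_zero]

theorem cjY {w w' : G} (hw : w ∈ Y) (hw' : w' ∈ Y) : cj w w' = w' := cj_eq_iff.2 (P.Yc _ hw _ hw')

theorem b_el (a c : F) : b (X.v a * y c) = c := by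
  rw [P.T.b_mul _ (vY P.T a) _ (P.yY c), b_V P.T, P.b_y, zero_add]

theorem memY {w : G} (hw : w ∈ Y) : ∃ a, w = X.v a * y (b w) := by
  obtain ⟨a, e⟩ := X.mem_V.1 ((P.T.b_ker _ (mul_mem hw (P.yY (b w)))).1 (by
    rw [P.T.b_mul _ hw _ (P.yY _), P.b_y, ← two_mul, X.char, zero_mul]))
  exact ⟨a, by rw [← e, mul_assoc, P.y_sq, mul_one]⟩

theorem inj {a c a' c' : F} (h : X.v a * y c = X.v a' * y c') : a = a' ∧ c = c' := by
  obtain rfl : c = c' := by rw [← P.b_el a c, h, P.b_el]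
  exact ⟨X.v_inj (mul_right_cancel h), rfl⟩

theorem el_add (a c a' c' : F) :
    X.v (a + a') * y (c + c') = X.v a * y c * (X.v a' * y c') := by
  rw [X.v_add, P.y_add, mul_assoc, mul_assoc, ← mul_assoc (y c), P.Yc _ (P.yY c) _ (vY P.T a'),
    mul_assoc]

/-- the action of `N1` in coordinates -/
theorem form {n : G} (hn : n ∈ X.N1) {k : Fˣ} {ψ : F ≃+* F}
    (h : ∀ a, cj n (X.v a) = X.v (k * ψ a)) :
    ∃ l : F, ∀ c, cj n (y c) = X.v (l * (k * ψ c)) * y (k * ψ c) := by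
  have nt := (X.mem_N1.1 hn).1
  obtain ⟨μ, hμ⟩ := P.memY (P.T.nY n hn _ (P.yY 1))
  rw [b_act P.T hn h (P.yY 1), P.b_y, map_one, mul_one] at hμ
  refine ⟨μ / k, fun c => ?_⟩
  by_cases hc : c = 0
  · rw [hc, map_zero, mul_zero, mul_zero, P.y_zero, X.v_zero, cj_one, mul_one]
  obtain ⟨a, κ, hκ, e⟩ := X.scal (n := cj n (X.h (Units.mk0 c hc)))
    (by nth_rewrite 1 [← nt]; rw [cj_cj, X.h_t, nt])
    (k := Units.mk0 (ψ c) ((map_ne_zero ψ).2 hc)) fun a => by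
      have : X.v a = cj n (X.v (ψ.symm (a / k))) := by
        rw [h, ψ.apply_symm_apply, mul_div_cancel₀ _ k.ne_zero]
      rw [this, cj_cj, X.h_v, h, map_mul, ψ.apply_symm_apply]
      congr 1
      simp only [Units.val_mk0]
      field_simp
  obtain rfl : κ = 1 := by
    have h1 := X.C_A0 nt (X.h_mem (Units.mk0 c hc))
    rw [e] at h1
    obtain ⟨M, rfl⟩ := (mul_mem_cancel_left (mul_mem (X.V_le_A0 (X.v_mem_V a)) (X.h_mem _))).1 h1
    exact X.cen_φ (X.mem_K.1 hκ).2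
  have e1 := P.h_y (Units.mk0 c hc) 1
  rw [Units.val_mk0, mul_one] at e1
  rw [← e1, ← cj_cj, e, mul_one, hμ, mul_cj, cj_mul (X.h _), X.h_v, P.h_y,
    P.cjY (vY P.T a) (mul_mem (vY P.T _) (P.yY _)), Units.val_mk0, mul_comm (ψ c) k]
  congr 2
  field_simp

end Pre

variable {s : G} {τ : F ≃+* F}

theorem T1_le : adj (zpowers X.f) X.t ≤ X.T :=
  adj_le (zpowers_le.2 X.f_mem_T) (X.R_le_T X.tR)

theorem f0_T1 (D : X.Dbl Y b s τ) : X.t * s ∈ adj (zpowers X.f) X.t := mul_mem self_mem_adj D.sT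

theorem f0_φ (D : X.Dbl Y b s τ) (M : SL(2, F)) : cj (X.t * s) (X.φ M) = X.φ (fa τ M) := by
  rw [mul_cj, D.sφ, X.tφ]

theorem f0_v (D : X.Dbl Y b s τ) (a : F) : cj (X.t * s) (X.v a) = X.v (τ a) := by
  rw [Hyp.v, f0_φ D, fa_uu]; rfl

theorem f0_N1 (D : X.Dbl Y b s τ) : X.t * s ∈ X.N1 := X.T_le_N1 (T1_le (f0_T1 D))

theorem f0_sq (D : X.Dbl Y b s τ) : X.t * s * (X.t * s) = 1 := by
  rw [mul_assoc, ← mul_assoc s, cj_eq_iff.1 (X.T_t (T1_le D.sT)), mul_assoc, X.ttu, X.sqΩ D.sΩ]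

end H25.L2.CrdA
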