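import Cfsg.Agent.Lib.H4.TL5
import Cfsg.Prelude.Def_ClassificationK
import Cfsg.Prelude.Def_LieTypeChar
import Cfsg.Prelude.Def_Spor_Mathieu
import Cfsg.Prelude.Def_Spor_J1
import Cfsg.Prelude.Def_Spor_J2
import Cfsg.Prelude.Def_LieTwisted

/-!
Standard subgroups of type `SL₂(q)`, `q` even: the set-up.
-/

set_option autoImplicit false

namespace H25.L2

open Subgroup H4.YM H4.TL Matrix MatrixGroups

section mats

variable {F : Type*} [Field F]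

/-- the upper unitriangular matrix -/
def uu (x : F) : SL(2, F) := ⟨!![1, x; 0, 1], by simp [det_fin_two]⟩

/-- the diagonal matrix -/
def dd (k : Fˣ) : SL(2, F) := ⟨!![(k : F), 0; 0, ((k⁻¹ : Fˣ) : F)], by simp [det_fin_two]⟩

/-- the entrywise field automorphism -/
def fa (τ : F ≃+* F) : SL(2, F) →* SL(2, F) := SpecialLinearGroup.map (τ : F →+* F)

end mats

/-- The group `G = L⟨t⟩` with the component `φ(SL₂(F))` of `C(t)`. -/
structure Hyp (G : Type*) [Group G] (F : Type*) [Field F] where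
  t : G
  L : Subgroup G
  φ : SL(2, F) →* G
  char : (2 : F) = 0
  four : 4 ≤ Nat.card F
  tt : t * t = 1
  t1 : t ≠ 1
  inj : Function.Injective φ
  tφ : ∀ M, cj t (φ M) = φ M
  aut : ∀ c, cj c t = t → ∃ (M : SL(2, F)) (τ : F ≃+* F), ∀ X, cj c (φ X) = φ (cj M (fa τ X))
  cyc : ∀ P : Subgroup G, IsPGroup 2 P → (∀ x ∈ P, cj x t = t ∧ ∀ M, cj x (φ M) = φ M) → IsCyclic P
  nrm : L.Normal
  simple : IsSimpleGroup L
  φL : ∀ M, φ M ∈ L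
  top : ∀ g, g ∈ L ∨ t * g ∈ L
  cen : ∀ g, (∀ x ∈ L, cj g x = x) → g = 1
  hB : Cfsg.HasBProperty L

variable {G : Type*} [Group G] {F : Type*} [Field F]

namespace Hyp

variable (X : Hyp G F)

/-- the root elements -/
def v (x : F) : G := X.φ (uu x)

/-- the component -/
def A0 : Subgroup G := X.φ.range

/-- its Sylow subgroup -/
def V : Subgroup G := closure (Set.range X.v)

/-- `⟨t⟩ × V` -/
def E : Subgroup G := adj X.V X.t

/-- `C(t) ∩ C(A0)` -/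
def K : Subgroup G := centralizer {X.t} ⊓ centralizer (X.A0 : Set G)

/-- `C(t) ∩ N(V)` -/
def N1 : Subgroup G := centralizer {X.t} ⊓ normalizer (X.V : Set G)

/-- conjugate to `t` -/
def Ω (s : G) : Prop := IsConj X.t s

end Hyp

/-- The Sylow `2`-subgroup `T = (V × R)⟨f⟩` of `C(t)` and the torus `h`. -/
structure Fr (G : Type*) [Group G] (F : Type*) [Field F] extends Hyp G F where
  h : Fˣ →* G
  R : Subgroup G
  f : G
  σ : F ≃+* F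
  hdd : ∀ k, h (k * k) = φ (dd k)
  tR : t ∈ R
  Rsyl : Syl R toHyp.K
  ft : cj f t = t
  fφ : ∀ M, cj f (φ M) = φ (fa σ M)
  fR : ∀ ρ ∈ R, cj f ρ ∈ R
  fpow : ∀ i : ℕ, σ ^ i = 1 → f ^ i ∈ R
  syl : Syl (adj (toHyp.V ⊔ R) f) (centralizer {t})

namespace Fr

variable (X : Fr G F)

/-- the Sylow subgroup of `C(t)` -/
def T : Subgroup G := adj (X.V ⊔ X.R) X.f

/-- `T` has an involution acting non-trivially on `V` -/
def Out : Prop := ∃ x ∈ X.T, x * x = 1 ∧ ∃ a, cj x (X.v a) ≠ X.v a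

/-- the pure case -/
structure Pure : Prop where
  R2 : ∀ ρ ∈ X.R, ρ = 1 ∨ ρ = X.t
  nV : ∀ a, ¬ X.Ω (X.v a)
  tV : ∀ a, X.Ω (X.t * X.v a)
  wc : ∀ g, (∀ a, cj g (X.v a) ∈ X.T) → ∀ a, cj g (X.v a) ∈ X.V

/-- a good subgroup -/
structure Good (A : Subgroup G) : Prop extends X.Pure where
  pg : IsPGroup 2 A
  VA : X.V ≤ A
  Ω : ∀ a ∈ A, X.Ω (X.t * a)
  nA : ∀ n ∈ X.N1, ∀ a ∈ A, cj n a ∈ A

/-- the top of the tower when `N(A⟨t⟩)` induces translations -/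
structure Tow (A Y : Subgroup G) (b : G → F) : Prop extends X.Good A where
  pgY : IsPGroup 2 Y
  AY : A ≤ Y
  YV : ∀ y ∈ Y, ∀ a, cj y (X.v a) = X.v a
  YA : ∀ y ∈ Y, ∀ a ∈ A, cj y a ∈ A
  nY : ∀ n ∈ X.N1, ∀ y ∈ Y, cj n y ∈ Y
  YL : Y ≤ X.L
  cenY : ∀ y ∈ Y, cj y X.t = X.t → y ∈ X.V
  nΩ : ∀ y ∈ Y, ¬ X.Ω y
  ΩA : ∀ y ∈ Y, X.Ω (X.t * y) → y ∈ A
  tY : ∀ y ∈ Y, X.t * cj y X.t ∈ A
  tr : ∀ a ∈ A, ∃ y ∈ Y, cj y X.t = X.t * a
  NQ : ∀ g ∈ normalizer (adj A X.t : Set G), ∃ y ∈ Y, ∃ n ∈ X.N1, g = y * n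
  b_mul : ∀ x ∈ Y, ∀ y ∈ Y, b (x * y) = b x + b y
  b_ker : ∀ y ∈ Y, b y = 0 ↔ y ∈ A
  b_surj : ∀ a, ∃ y ∈ Y, b y = a
  b_cj : ∀ n ∈ X.N1, ∀ y ∈ Y, X.v (b (cj n y)) = cj n (X.v (b y))
  b_pow : ∃ e : ℕ, (∀ a ∈ A, a ^ e ∈ X.V) ∧ (∀ u ∈ X.V, ∃ a ∈ A, a ^ e = u) ∧
    (∀ a ∈ A, a ^ e = 1 → ∃ α ∈ A, α * α = a) ∧ ∀ y ∈ Y, X.v (b y) = (X.t * cj y X.t) ^ e

/-- the top of the tower when `N(A⟨t⟩)` induces no translation -/
structure NR (A : Subgroup G) : Prop extends X.Good A where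
  eight : Nat.card F = 8
  tr : ∀ a ∈ A, ∃ g ∈ normalizer (adj A X.t : Set G), cj g X.t = X.t * a
  notr : ∀ g ∈ normalizer (adj A X.t : Set G), (∀ a, cj g (X.v a) = X.v a) →
    ∃ α ∈ A, cj (α * g) X.t = X.t
  gl : ∀ α : F ≃+ F, ∃ g ∈ normalizer (adj A X.t : Set G), ∀ a, cj g (X.v a) = X.v (α a)

/-- the double case: `t` is conjugate to an involution `s` inducing a field automorphism -/
structure Dbl (Y : Subgroup G) (b : G → F) (s : G) (τ : F ≃+* F) : Prop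
    extends X.Tow X.V Y b where
  τ1 : τ ≠ 1
  ττ : τ * τ = 1
  sT : s ∈ adj (zpowers X.f) X.t
  sφ : ∀ M, cj s (X.φ M) = X.φ (fa τ M)
  sΩ : X.Ω s
  Yc : ∀ x ∈ Y, ∀ y ∈ Y, x * y = y * x
  free : ∀ x ∈ adj (zpowers X.f) X.t, (∀ M, cj x (X.φ M) = X.φ (fa τ M)) →
    ∀ y ∈ Y, x * y * (x * y) = 1 → ∃ w ∈ Y, cj w x = x * y
  el : Nat.card F ≠ 4 → ∀ y ∈ Y, y * y = 1

/-- coordinates in the double case with `Y` elementary abelian; `t * s` is the field involution -/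
structure Crd (Y : Subgroup G) (b : G → F) (s : G) (τ : F ≃+* F) (y : F → G) : Prop
    extends X.Dbl Y b s τ where
  yY : ∀ c, y c ∈ Y
  y_add : ∀ c d, y (c + d) = y c * y d
  b_y : ∀ c, b (y c) = c
  memY : ∀ w ∈ Y, ∃ a c, w = X.v a * y c
  h_y : ∀ (k : Fˣ) c, cj (X.h k) (y c) = y (k * c)
  t_y : ∀ c, cj X.t (y c) = X.v c * y c
  f_y : ∀ c, cj (X.t * s) (y c) = y (τ c)

end Fr

section lin

variable {F : Type*} [Field F]

/-- the transvection induced by `t` -/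
def tb (h : (2 : F) = 0) : Equiv.Perm (F × F) where
  toFun p := (p.1 + p.2, p.2)
  invFun p := (p.1 + p.2, p.2)
  left_inv p := by ext <;> simp [add_assoc, ← two_mul, h]
  right_inv p := by ext <;> simp [add_assoc, ← two_mul, h]

/-- scalars -/
def hb (k : Fˣ) : Equiv.Perm (F × F) where
  toFun p := (k * p.1, k * p.2)
  invFun p := ((k⁻¹ : Fˣ) * p.1, (k⁻¹ : Fˣ) * p.2)
  left_inv p := by ext <;> simp
  right_inv p := by ext <;> simp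

/-- field automorphisms -/
def fb (τ : F ≃+* F) : Equiv.Perm (F × F) where
  toFun p := (τ p.1, τ p.2)
  invFun p := (τ.symm p.1, τ.symm p.2)
  left_inv p := by ext <;> simp
  right_inv p := by ext <;> simp

/-- the automiser of `Y = F × F` in the double case -/
structure Lin (h : (2 : F) = 0) (τ : F ≃+* F) (N : Subgroup (Equiv.Perm (F × F))) : Prop where
  τ1 : τ ≠ 1
  ττ : τ * τ = 1
  add : ∀ n ∈ N, ∀ p p', n (p + p') = n p + n p'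
  tN : tb h ∈ N
  hN : ∀ k, hb k ∈ N
  fN : fb τ ∈ N
  cen : ∀ n ∈ N, cj n (tb h) = tb h → ∃ (k : Fˣ) (ψ : F ≃+* F) (l : F),
    (∀ a c, n (a, c) = (k * ψ a + l * (k * ψ c), k * ψ c)) ∧ (ψ = 1 → l = 0 ∨ l = 1)
  fus : ∃ x ∈ N, cj x (tb h) = tb h * fb τ

/-- the fixed vectors -/
def fix (n : Equiv.Perm (F × F)) : Set (F × F) := {p | n p = p}

/-- the wreath shadow -/
structure Wr (h : (2 : F) = 0) (τ : F ≃+* F) (N : Subgroup (Equiv.Perm (F × F))) : Prop where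
  idx : ∀ P, Syl P N → ∃ P0 ≤ P, Nat.card P = 2 * Nat.card P0 ∧ ∀ x ∈ N, cj x (tb h) ∉ P0
  four : ∀ u ∈ N, ∀ w ∈ N, H29.IsPair u w → ∃ x ∈ N, cj x (fb τ) = u ∨ cj x (fb τ) = w ∨
    cj x (fb τ) = u * w
  rank : ∀ U ≤ N, (∀ u ∈ U, u * u = 1) → Nat.card U ≤ 4
  small : ∀ w ∈ N, w * w = 1 → w ≠ 1 → (fix w).ncard ^ 2 ≤ Nat.card F ^ 3
  nest : ∀ u ∈ N, ∀ w ∈ N, H29.IsPair u w → fix w ⊆ fix u → ∃ x ∈ N, cj x (fb τ) = w

end lin

/-- the conclusion for `q = 4` -/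
def Four (L : Type*) [Group L] : Prop :=
  Cfsg.Spor.IsoM12 L ∨ Nonempty (L ≃* ↥(alternatingGroup (Fin 9))) ∨ Cfsg.Spor.IsoJ1 L ∨
    Cfsg.Spor.IsoJ2 L ∨ Nonempty (L ≃* ↥(alternatingGroup (Fin 7))) ∨
    (∃ (E : Type) (_ : Field E) (_ : Fintype E), Fintype.card E = 25 ∧
      (Nonempty (L ≃* Matrix.ProjectiveSpecialLinearGroup (Fin 2) E) ∨
        Nonempty (L ≃* Cfsg.PSU 3 E 5))) ∨
    (∃ (E : Type) (_ : Field E) (_ : Fintype E), Fintype.card E = 5 ∧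
      (Nonempty (L ≃* Matrix.ProjectiveSpecialLinearGroup (Fin 3) E) ∨
        Nonempty (L ≃* ↥(Cfsg.Lie.chevG2.group E)))) ∨
    (∃ (K : Type) (_ : Field K) (_ : Fintype K), Fintype.card K = 125 ∧
      Nonempty (L ≃* ↥(Cfsg.Lie.twistedD4 K 5)))

/-- the conclusion for `q = 8` -/
def Eight (L : Type*) [Group L] : Prop :=
  ∃ (E : Type) (_ : Field E) (_ : Fintype E), Fintype.card E = 3 ∧
    Nonempty (L ≃* ↥(Cfsg.Lie.chevG2.group E))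

/-- the generic conclusion -/
def Lie2 (L : Type*) [Group L] : Prop := Cfsg.IsLieTypeChar 2 L

theorem defs_auto : True := by
  have := @uu.eq_1.{0}; have := @dd.eq_1.{0}; have := @fa.eq_1.{0}
  have := @Hyp.v.eq_1.{0,0}; have := @Hyp.A0.eq_1.{0,0}; have := @Hyp.V.eq_1.{0,0}
  have := @Hyp.E.eq_1.{0,0}; have := @Hyp.K.eq_1.{0,0}; have := @Hyp.N1.eq_1.{0,0}
  have := @Hyp.Ω.eq_1.{0,0}; have := @Fr.T.eq_1.{0,0}; have := @Fr.Out.eq_1.{0,0}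
  have := @tb.eq_1.{0}; have := @hb.eq_1.{0}; have := @fb.eq_1.{0}; have := @fix.eq_1.{0}
  have := @Four.eq_1.{0}; have := @Eight.eq_1.{0}; have := @Lie2.eq_1.{0}
  trivial

end H25.L2
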