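import Cfsg.Agent.Lib.L2S.GenA
import Cfsg.Agent.Lib.L2S.Bool
import Cfsg.Agent.Lib.L2S.End
import Cfsg.Agent.Lib.L2S.Trp

set_option autoImplicit false
set_option linter.unusedSectionVars false

namespace H25.L2

open Subgroup H4.YM H4.TL Matrix MatrixGroups GA

variable {G : Type*} [Group G] [Finite G] {F : Type*} [Field F] [Finite F]

namespace GM

variable {X : Fr G F} {A Y : Subgroup G} {b : G → F}

theorem T1_inv (P : X.Pure) {u : G} (hu : u ∈ adj (zpowers X.f) X.t) (u1 : u ≠ 1) (ut : u ≠ X.t) :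
    ∃ τ : F ≃+* F, τ ≠ 1 ∧ (∀ M, cj u (X.φ M) = X.φ (fa τ M)) ∧ ∀ a, cj u (X.v a) = X.v (τ a) := by
  obtain ⟨i, h1, h2⟩ := P.T1_act hu
  exact ⟨_, fun e => (h2 e).elim u1 ut, h1, fun a => by rw [Hyp.v, h1, fa_uu, Hyp.v]⟩

theorem T1_same (P : X.Pure) {u w : G} (hu : u ∈ adj (zpowers X.f) X.t)
    (hw : w ∈ adj (zpowers X.f) X.t) (h : ∀ a, cj u (X.v a) = cj w (X.v a)) : u = w ∨ u = w * X.t :=
  (T1_triv P (mul_mem (inv_mem hw) hu) fun a => by rw [mul_cj, h, inv_cj_cj]).imp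
    (fun e => (inv_mul_eq_one.1 e).symm) inv_mul_eq_iff_eq_mul.1

theorem four (h2 : (2 : F) = 0) (h : Nat.card F = 4) :
    ∃ ω : Fˣ, (ω : F) ≠ 1 ∧ (ω : F) * ω = 1 + ω ∧ ∀ a : F, a = 0 ∨ a = 1 ∨ a = ω ∨ a = 1 + ω := by
  classical
  have := Fintype.ofFinite F
  rw [Nat.card_eq_fintype_card] at h
  obtain ⟨w, hw⟩ : ∃ w : F, w ∉ ({0, 1} : Finset F) := by
    by_contra! e
    have := (Finset.card_le_card fun w (_ : w ∈ Finset.univ) => e w).trans Finset.card_le_two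
    rw [Finset.card_univ] at this
    omega
  simp only [Finset.mem_insert, Finset.mem_singleton, not_or] at hw
  have k : ∀ a : F, a = 0 ∨ a = 1 ∨ a = w ∨ a = 1 + w := fun a => by
    have : ({0, 1, w, 1 + w} : Finset F) = Finset.univ := Finset.eq_univ_of_card _ (by
      rw [h, Finset.card_eq_four]
      exact ⟨0, 1, w, 1 + w, zero_ne_one, Ne.symm hw.1,
        fun e => hw.2 (by linear_combination -e - h2),
        Ne.symm hw.2, fun e => hw.1 (by linear_combination -e),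
        fun e => one_ne_zero (α := F) (by linear_combination -e), rfl⟩)
    simpa using this.ge (Finset.mem_univ a)
  refine ⟨Units.mk0 w hw.1, hw.2, ?_, k⟩
  rcases k (w * w) with e | e | e | e
  · exact absurd (mul_self_eq_zero.1 e) hw.1
  · exact absurd (sub_eq_zero.1 (mul_self_eq_zero.1 (show (w - 1) * (w - 1) = 0 by
      linear_combination e + (1 - w) * h2))) hw.2
  · exact absurd (mul_left_cancel₀ hw.1 (e.trans (mul_one w).symm)) hw.2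
  · exact e

variable (D : X.Tow A Y b)
include D

theorem T1Y {u y : G} (hu : u ∈ adj (zpowers X.f) X.t) (hy : y ∈ Y) : cj u y ∈ Y :=
  mem_norm.1 (D.T_nY (T1_le X hu)) y hy

theorem sq_u {u y : G} (hu : u ∈ adj (zpowers X.f) X.t) (hy : y ∈ Y) (h : y * u * (y * u) = 1) :
    u * u = 1 := D.Y_T1 (mul_mem hu hu) ((mul_mem_cancel_left (mul_mem hy (T1Y D hu hy))).1 (by
  rw [show y * cj u y * (u * u) = y * u * (y * u) by simp only [cj]; group, h]; exact one_mem _))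

theorem b_h (k : Fˣ) {y : G} (hy : y ∈ Y) : b (cj (X.h k) y) = k * b y :=
  X.v_inj (by rw [D.b_cj _ (X.h_N1 k) y hy, X.h_v])

theorem b_inv {y : G} (hy : y ∈ Y) : b y⁻¹ = b y := by
  have := D.b_mul _ (inv_mem hy) _ hy
  rw [inv_mul_cancel, (D.b_ker 1 (one_mem _)).2 (one_mem _)] at this
  linear_combination -this - b y * X.char

theorem b_eq {x y : G} (hx : x ∈ Y) (hy : y ∈ Y) (h : b x = b y) : x⁻¹ * y ∈ A :=
  (D.b_ker _ (mul_mem (inv_mem hx) hy)).1 (by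
    rw [D.b_mul _ (inv_mem hx) _ hy, b_inv D hx, h]; linear_combination b y * X.char)

theorem b_comm {x y : G} (hx : x ∈ Y) (hy : y ∈ Y) : x * y * x⁻¹ * y⁻¹ ∈ A :=
  (D.b_ker _ (mul_mem (mul_mem (mul_mem hx hy) (inv_mem hx)) (inv_mem hy))).1 (by
    rw [D.b_mul _ (mul_mem (mul_mem hx hy) (inv_mem hx)) _ (inv_mem hy),
      D.b_mul _ (mul_mem hx hy) _ (inv_mem hx), D.b_mul _ hx _ hy, b_inv D hx, b_inv D hy]
    linear_combination (b x + b y) * X.char)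

theorem Vc {x y : G} (hx : x ∈ X.V) (hy : y ∈ Y) : y * x = x * y := by
  obtain ⟨a, rfl⟩ := X.mem_V.1 hx
  exact cj_eq_iff.1 (D.YV y hy a)

theorem caseA (h : ∀ s ∈ Y ⊔ X.T, X.Ω s → s ∈ adj A X.t) : Lie2 X.L := by
  have QS : adj A X.t ≤ Y ⊔ X.T :=
    adj_le (D.AY.trans le_sup_left) (mem_sup_right (X.E_le_T self_mem_adj))
  have tS := QS self_mem_adj
  have hS : Syl (Y ⊔ X.T) ⊤ := by
    refine (D.sylS.mono le_normalizer fun g hg => mem_norm.2 ?_).top_of_norm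
    have k : ∀ s ∈ Y ⊔ X.T, X.Ω s → cj g s ∈ adj A X.t := fun s h1 h2 =>
      h _ (mem_norm.1 hg s h1) ((X.Ω_cj g).2 h2)
    refine adj_le_comap (fun a ha => ?_) (k _ tS X.Ω_t)
    rw [← X.ttu a, cj_mul]
    exact mul_mem (k _ tS X.Ω_t) (k _ (mul_mem tS (QS (le_adj ha))) (D.Ω a ha))
  have YS : Y ≤ (Y ⊔ X.T) ⊓ X.L := le_inf le_sup_left D.YL
  have trp := @Hyp.trp G _ _ F _ _ X.toHyp _ _ hS YS
    (fun s hs => mem_norm.1 (sup_le le_normalizer D.T_nY hs)) fun a ha b hb => D.S_comm ha.1 hb.1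
  have ΩS : ∀ g, cj g X.t ∈ Y ⊔ X.T → ∃ a ∈ A, cj g X.t = X.t * a := fun g hg =>
    D.memtA (h _ hg ((X.Ω_cj g).2 X.Ω_t)) ((X.Ω_cj g).2 X.Ω_t)
  by_cases tL : X.t ∈ X.L
  · obtain ⟨g, -, h1, -⟩ := trp ⟨tS, tL⟩ (fun e => D.nΩ _ e X.Ω_t) X.tt (y := 1) (j := 0) (by simp)
      (by simp) fun g _ hg => Or.inr (by
        obtain ⟨a, ha, e⟩ := ΩS g hg
        rw [e, X.ttu]; exact D.AY ha)
    exact absurd ((X.Ω_cj g).2 X.Ω_t) (D.nΩ _ h1)
  by_cases hf : ∃ u ∈ adj (zpowers X.f) X.t, u ∈ X.L ∧ u * u = 1 ∧ u ≠ 1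
  · obtain ⟨u, hu, uL, uu, u1⟩ := hf
    obtain ⟨τ, τ1, -, hτ⟩ := T1_inv D.toPure hu u1 fun e => tL (e ▸ uL)
    have ut := D.toPure.T1_comm hu self_mem_adj
    obtain ⟨g, -, h1, h2⟩ := trp ⟨mem_sup_right (T1_le X hu), uL⟩ (fun e => u1 (D.Y_T1 hu e)) uu
      (j := 1) (by simpa [pow_two] using X.tt) ut fun g gL hg => by
        obtain ⟨y, hy, w, hw, e⟩ := D.mem_S.1 hg
        have wL : w ∈ X.L := (mul_mem_cancel_left (D.YL hy)).1 (e ▸ cj_mem gL uL)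
        have ww := sq_u D hw hy (e ▸ cj_sq uu)
        rw [e]
        by_cases w1 : w = 1
        · exact Or.inl (by rwa [w1, mul_one])
        obtain ⟨τ', τ1', -, hτ'⟩ := T1_inv D.toPure hw w1 fun e => tL (e ▸ wL)
        rcases T1_same D.toPure hw hu fun a => by
          rw [hτ, hτ', aut_inv_uniq τ1 (Fr.Tow.sq_τ uu hτ) τ1' (Fr.Tow.sq_τ ww hτ')] with e | e
        · refine Or.inr ?_
          rw [e, show u * (y * u) = cj u y by rw [cj, inv_eq_of_mul_eq_one_left uu, mul_assoc]]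
          exact T1Y D hu hy
        · exact absurd ((mul_mem_cancel_left uL).1 (e ▸ wL)) tL
    obtain ⟨a, ha, e⟩ := ΩS g h2
    obtain ⟨y, hy, e'⟩ := D.tr a ha
    have c1 : cj (y⁻¹ * g) X.t = X.t := by rw [mul_cj, e, ← e', inv_cj_cj]
    have c2 := D.cenY (cj (y⁻¹ * g) u) (by rw [mul_cj]; exact cj_mem (inv_mem hy) h1) (by
      rw [← c1, cj_cj, cj_eq_iff.2 ut])
    have c3 := X.C_A0 (inv_cj_eq.2 c1) (X.V_le_A0 c2)
    rw [inv_cj_cj] at c3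
    exact absurd (D.Y_T1 hu (D.AY (D.VA (X.A0_T c3 (T1_le X hu))))) u1
  have e : (Y ⊔ X.T) ⊓ X.L = Y := le_antisymm (fun x hx => by
    obtain ⟨y, hy, w, hw, rfl⟩ := D.mem_S.1 hx.1
    by_contra e
    obtain ⟨z, hz, z1, z2, -⟩ := exists_central (pg_le X.pgT ((inf_le_left : _ ⊓ X.L ≤ _).trans
      (T1_le X))) fun e1 => e (by
        rwa [mem_bot.1 (e1.le ⟨hw, (mul_mem_cancel_left (D.YL hy)).1 hx.2⟩), mul_one])
    exact hf ⟨z, hz.1, hz.2, z1, z2⟩) YS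
  have sL := X.syl_L hS
  rw [e] at sL
  have c16 : 16 ≤ Nat.card Y := by
    have := card_le_of_le D.VA
    rw [X.card_V] at this
    rw [D.cardY]
    exact Nat.mul_le_mul X.four (X.four.trans this)
  have V0 : X.V ≠ ⊥ := fun e => one_ne_zero (X.v_eq_one.1 (e.le (X.v_mem_V 1)))
  have Vsq : ∀ a ∈ X.V, a * a = 1 := fun a ha => X.E_sq (le_adj ha)
  rcases D.bool with k | k
  · exact X.lie_of_elem sL c16 (D.VA.trans D.AY) V0 Vsq fun g _ w hw h1 =>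
      k _ h1 (cj_sq (Vsq w hw))
  refine X.lie_of_closed sL c16 le_rfl (ne_bot_of_le_ne_bot V0 (D.VA.trans D.AY))
    (fun a ha b hb c hc => cj_eq_iff.2 (Vc D ?_ hc)) fun _ _ _ _ h1 => h1
  rw [show a * b * a⁻¹ * b⁻¹ = a * b * (a * b) * (b⁻¹ * (a⁻¹ * a⁻¹)) * b⁻¹ by group,
    Vc D (k _ (inv_mem ha)) (inv_mem hb), ← mul_assoc, mul_assoc _ b⁻¹]
  exact mul_mem (mul_mem (k _ (mul_mem ha hb)) (k _ (inv_mem ha))) (k _ (inv_mem hb))

end GM

open GM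

theorem GM.el {X : Fr G F} {Y : Subgroup G} {b : G → F} (D : X.Tow X.V Y b) {s : G} {τ : F ≃+* F}
    (hs : s ∈ adj (zpowers X.f) X.t) (sΩ : X.Ω s) (τ1 : τ ≠ 1)
    (hφ : ∀ M, cj s (X.φ M) = X.φ (fa τ M)) (hτ : ∀ a, cj s (X.v a) = X.v (τ a))
    (h4 : Nat.card F ≠ 4) : ∀ y ∈ Y, y * y = 1 := by
  have ss := X.sqΩ sΩ
  obtain ⟨k, k1, k0, k2⟩ : ∃ k : F, τ k = k ∧ k ≠ 0 ∧ k ≠ 1 := by
    by_contra! e
    have := (Set.ncard_le_ncard (show {a | τ a = a} ⊆ {0, 1} from fun a ha =>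
      or_iff_not_imp_left.2 (e a ha))).trans ((Set.ncard_insert_le 0 {1}).trans_eq (by simp : _ = 2))
    have := fix_sq τ1 (Fr.Tow.sq_τ ss hτ)
    have := X.four
    have := Nat.pow_le_pow_left ‹_ ≤ 2› 2
    omega
  obtain ⟨y, hy, y1, y2⟩ := D.free_b (X.T_le_N1 (T1_le X hs)) ss hτ τ1 (map_one τ)
  obtain ⟨g, rfl⟩ := X.Ω_iff.1 sΩ
  set c := X.h (Units.mk0 k k0) with hc
  have c1 : cj (cj g X.t) c = c := by
    rw [hc, X.φ_h hφ]; congr 1; exact Units.ext k1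
  have z1 : y * cj c y⁻¹ ∈ Y := mul_mem hy (D.nY _ (X.h_N1 _) _ (inv_mem hy))
  have z2 : b (y * cj c y⁻¹) = 1 + k := by
    rw [D.b_mul _ hy _ (D.nY _ (X.h_N1 _) _ (inv_mem hy)), b_h D _ (inv_mem hy), b_inv D hy, y2,
      Units.val_mk0, mul_one]
  have z3 : y * cj c y⁻¹ * (y * cj c y⁻¹) = 1 := by
    obtain ⟨j, hj⟩ := pg_pow D.pgY z1
    have e : cj g⁻¹ y * cj g⁻¹ c * (cj g⁻¹ y)⁻¹ * (cj g⁻¹ c)⁻¹ = cj g⁻¹ (y * cj c y⁻¹) := by
      simp only [cj]; group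
    have k : ∀ x, cj (cj g X.t) x = x → cj (cj g⁻¹ x) X.t = X.t := fun x e => cj_inj g (by
      rw [← cj_cj, cj_inv_cj, cj_comm.1 e])
    have hj' : cj g⁻¹ (y * cj c y⁻¹) ^ 2 ^ j = 1 := by rw [← cj_pow, hj, cj_one]
    have := D.toPure.comm_two (k y y1) (k c c1) (e ▸ hj')
    rw [e] at this
    obtain ⟨n, -, hn⟩ := X.sylV.conj (pg_zpowers hj') (zpowers_le.2 this)
    have := X.E_sq (le_adj (mem_cm.1 (hn (mem_zpowers _))))
    rwa [← cj_mul, cj_eq_one, ← cj_mul, cj_eq_one] at this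
  have z0 : 1 + k ≠ 0 := fun e => k2 (by linear_combination e - X.char)
  intro w hw
  by_cases w0 : b w = 0
  · exact X.E_sq (le_adj ((D.b_ker w hw).1 w0))
  have z4 := D.nY _ (X.h_N1 (Units.mk0 _ (div_ne_zero w0 z0))) _ z1
  have := b_eq D z4 hw (by rw [b_h D _ z1, z2, Units.val_mk0, div_mul_cancel₀ _ z0])
  generalize hz : cj _ (y * cj c y⁻¹) = z at this z4
  rw [← mul_inv_cancel_left z w, mul_assoc, ← mul_assoc (z⁻¹ * w), ← Vc D this z4, mul_assoc z,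
    X.E_sq (le_adj this), mul_one, ← hz]
  exact cj_sq z3

theorem GM.ab4 {X : Fr G F} {Y : Subgroup G} {b : G → F} (D : X.Tow X.V Y b) (h4 : Nat.card F = 4) :
    ∀ x ∈ Y, ∀ y ∈ Y, x * y = y * x := by
  obtain ⟨ω, ω1, ω2, hω⟩ := four X.char h4
  obtain ⟨y, hy, y1⟩ := D.b_surj 1
  have hz := D.nY _ (X.h_N1 ω) y hy
  have z1 := b_h D ω hy
  rw [y1, mul_one] at z1
  have yz := D.b_mul _ hy _ hz
  rw [y1, z1] at yz
  have k := b_eq D (mul_mem hy hz) (D.nY _ (X.h_N1 ω) _ hz) (by rw [yz, b_h D ω hz, z1, ω2])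
  obtain ⟨a, ha⟩ := X.mem_V.1 (b_comm D hy hz)
  have c := X.h_v ω a
  rw [← ha, cj_mul, cj_mul, cj_mul, cj_inv, cj_inv] at c
  generalize cj (X.h ω) y = z at *
  have c1 : y * z = z * y := by
    rw [← mul_inv_cancel_left (y * z) (cj _ z)] at c
    generalize (y * z)⁻¹ * cj _ z = u at k c
    rw [show z * (y * z * u) * z⁻¹ * (y * z * u)⁻¹ = z * y * (z * u) * z⁻¹ * u⁻¹ * z⁻¹ * y⁻¹ by group,
      Vc D k hz, show z * y * (u * z) * z⁻¹ * u⁻¹ * z⁻¹ * y⁻¹ = (y * z * y⁻¹ * z⁻¹)⁻¹ by group, ha,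
      X.v_inv] at c
    have : a = 0 := (mul_eq_zero.1 (show (1 - ω) * a = 0 by
      linear_combination X.v_inj c)).resolve_left (sub_ne_zero.2 ω1.symm)
    rwa [this, X.v_zero, mul_inv_eq_one, mul_inv_eq_iff_eq_mul] at ha
  have gen : ∀ x ∈ Y, y * x = x * y → z * x = x * z → ∀ w ∈ Y, w * x = x * w := fun x hx a1 a2 w hw => by
    have k : ∀ u ∈ Y, u * x = x * u → b w = b u → w * x = x * w := fun u hu e1 e2 => by
      rw [← mul_inv_cancel_left u w, mul_assoc, ← Vc D (b_eq D hu hw e2.symm) hx, ← mul_assoc, e1,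
        mul_assoc]
    rcases hω (b w) with e | e | e | e
    · exact (Vc D ((D.b_ker w hw).1 e) hx).symm
    · exact k y hy a1 (e.trans y1.symm)
    · exact k z hz a2 (e.trans z1.symm)
    · exact k _ (mul_mem hy hz) (by rw [mul_assoc, a2, ← mul_assoc, a1, mul_assoc]) (e.trans yz.symm)
  exact fun x hx w hw => gen w hw (gen y hy rfl c1.symm w hw).symm (gen z hz c1 rfl w hw).symm x hx

theorem Fr.Tow.main {X : Fr G F} {A Y : Subgroup G} {b : G → F} (D : X.Tow A Y b) :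
    Lie2 X.L ∨ ∃ s τ, X.Dbl Y b s τ := by
  refine or_iff_not_imp_left.2 fun h => ?_
  obtain ⟨s', h1, h2, h3⟩ : ∃ s ∈ Y ⊔ X.T, X.Ω s ∧ s ∉ adj A X.t := by
    by_contra! e
    exact h (caseA D e)
  obtain ⟨y, hy, s, hs, rfl⟩ := D.mem_S.1 h1
  have ss := sq_u D hs hy (X.sqΩ h2)
  have e : y * s = s * cj s y := by
    rw [cj, inv_eq_of_mul_eq_one_left ss, ← mul_assoc, ← mul_assoc, ss, one_mul]
  obtain ⟨τ, τ1, hφ, hτ⟩ := T1_inv D.toPure hs (fun e => D.nΩ _ (by rwa [e, mul_one]) h2) fun e' => by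
    rw [e, e'] at h2 h3
    exact h3 (mul_mem self_mem_adj (le_adj (D.ΩA _ (T1Y D self_mem_adj hy) h2)))
  have sN := X.T_le_N1 (T1_le X hs)
  obtain ⟨w, -, hw⟩ := D.free sN ss hτ τ1 (T1Y D hs hy) (e ▸ X.sqΩ h2)
  have sΩ : X.Ω s := (X.Ω_cj w).1 (by rwa [hw, ← e])
  obtain rfl : A = X.V := by
    by_contra hA
    have c1 := D.free_card sN ss hτ τ1 hA
    have l : adj (zpowers X.f) X.t ≤ centralizer {s} := fun u hu =>
      mem_centralizer_singleton_iff.2 (D.toPure.T1_comm hu hs)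
    have c2 := X.cardΩ sΩ (pg_le D.sylS.pg (sup_le_sup (inf_le_left : Y ⊓ centralizer {s} ≤ Y)
      (T1_le X))) fun x hx => mem_cen.1 (sup_le inf_le_right l hx)
    have c3 := H24.card_sup_mul_card_inf' (A := Y ⊓ centralizer {s}) (H69.le_normalizer_inf
      ((T1_le X).trans D.T_nY) (l.trans le_normalizer))
    rw [show Y ⊓ centralizer {s} ⊓ adj (zpowers X.f) X.t = ⊥ from le_bot_iff.1 fun u hu =>
      D.Y_T1 hu.2 hu.1.1, card_bot, mul_one, D.toPure.card_T1] at c3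
    obtain ⟨j, hj⟩ := X.σ_two
    have c4 : Nat.card X.R ≤ 2 := (card_le_of_le (K := zpowers X.t) fun ρ hρ => (D.R2 ρ hρ).elim
      (fun e => e ▸ one_mem _) fun e => e ▸ mem_zpowers _).trans (by
      rw [Nat.card_zpowers]; exact orderOf_le_of_pow_eq_one two_pos ((pow_two _).trans X.tt))
    rw [c3, X.card_T, mul_assoc] at c2
    have c5 := Nat.le_of_mul_le_mul_right (c2.trans (Nat.mul_le_mul_left _
      (Nat.mul_le_mul_right _ c4))) (Nat.mul_pos two_pos (orderOf_pos_iff.2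
      (isOfFinOrder_iff_pow_eq_one.2 ⟨_, Nat.two_pow_pos j, hj⟩)))
    have := (Nat.pow_le_pow_iff_right (by have := X.four; omega)).1
      (c1.trans (Nat.pow_le_pow_left c5 2))
    omega
  have el := GM.el D hs sΩ τ1 hφ hτ
  refine ⟨s, τ, D, τ1, sq_τ ss hτ, hs, hφ, sΩ, fun x hx z hz => ?_, fun x hx h1 z hz => ?_, el⟩
  · by_cases h4 : Nat.card F = 4
    · exact ab4 D h4 x hx z hz
    · exact comm_of_sq (el h4 x hx) (el h4 z hz) (el h4 _ (mul_mem hx hz))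
  have h2 : ∀ a, cj x (X.v a) = X.v (τ a) := fun a => by rw [Hyp.v, h1, fa_uu, Hyp.v]
  refine D.free (X.T_le_N1 (T1_le X hx)) ?_ h2 τ1 hz
  rcases T1_same D.toPure hx hs fun a => (h2 a).trans (hτ a).symm with e | e
  · rwa [e]
  · rw [e, mul_assoc, ← mul_assoc X.t, ← D.toPure.T1_comm hs self_mem_adj, mul_assoc, X.tt, mul_one,
      ss]

end H25.L2
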