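import Cfsg.Agent.Lib.L2S.Nr2a
import Cfsg.Agent.Lib.L2S.End

set_option autoImplicit false

namespace H25.L2

open Subgroup H4.YM H4.TL Matrix MatrixGroups

variable {G : Type*} [Group G] [Finite G] {F : Type*} [Field F] [Finite F]

theorem Fr.NS.lie {X : Fr G F} {A S : Subgroup G} {e : ℕ} (D : X.NS A e S) (h : A ≠ X.V) :
    Lie2 X.L :=
  X.toHyp.lie_of_elem D.sylS D.sixteen (D.toGood.VA.trans D.AS) D.V_ne_bot
    (fun _ hu => NRC.V_sq _ hu) (D.closed h)

end H25.L2
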