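import Cfsg.Agent.Lib.L2S.Bas
import Cfsg.Agent.Lib.GL.Simple
import Cfsg.Agent.S0494
import Cfsg.Agent.S3239

/-!
The fusion of `t` in `⟨t⟩ × V`: the pure case or the first Janko group.
-/

set_option autoImplicit false

namespace H25.L2

open Subgroup H4.YM H4.TL Matrix MatrixGroups

namespace Pur

theorem exists_four {G : Type*} [Group G] {R : Subgroup G} (k : ℕ) :
    ∀ x ∈ R, x ^ 2 ^ k = 1 → x * x ≠ 1 → ∃ y ∈ R, y * y ≠ 1 ∧ y * y * (y * y) = 1 := by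
  induction k with
  | zero => intro x _ h h2; rw [pow_zero, pow_one] at h; exact absurd (by rw [h, mul_one]) h2
  | succ k ih =>
    intro x hx h h2
    by_cases h4 : x * x * (x * x) = 1
    · exact ⟨x, hx, h2, h4⟩
    · exact ih (x * x) (R.mul_mem hx hx) (by rw [← pow_two, ← pow_mul, ← pow_succ', h]) h4

theorem exists_inv {M : Type*} [Monoid M] {σ : M} (k : ℕ) :
    ∀ i : ℕ, (σ ^ i) ^ 2 ^ k = 1 → σ ^ i ≠ 1 → ∃ j : ℕ, σ ^ j ≠ 1 ∧ σ ^ j * σ ^ j = 1 := by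
  induction k with
  | zero => intro i h h1; rw [pow_zero, pow_one] at h; exact absurd h h1
  | succ k ih =>
    intro i h h1
    by_cases h2 : σ ^ i * σ ^ i = 1
    · exact ⟨i, h1, h2⟩
    · refine ih (i * 2) (by rw [pow_mul, ← pow_mul _ 2, ← pow_succ', h]) ?_
      rwa [pow_mul, pow_two]

theorem exists_third {F : Type*} [Zero F] [One F] [Finite F] {s : Set F} (h : 2 < s.ncard) :
    ∃ a ∈ s, a ≠ 0 ∧ a ≠ 1 := by
  by_contra hc
  push Not at hc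
  have h1 : s ⊆ {0, 1} := fun a ha => by
    by_cases e : a = 0
    · exact Or.inl e
    · exact Or.inr (hc a ha e)
  have h2 := Set.ncard_le_ncard h1
  have h3 := Set.ncard_insert_le (0 : F) {1}
  rw [Set.ncard_singleton] at h3
  omega

variable {G : Type*} [Group G] [Finite G] {F : Type*} [Field F] [Finite F] (X : Fr G F)

omit [Finite G] [Finite F] in
include X in
theorem add_self (a : F) : a + a = 0 := by rw [← two_mul, X.char, zero_mul]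

omit [Finite G] [Finite F] in
include X in
theorem add_ne {a b : F} (h : a ≠ b) : a + b ≠ 0 := fun e =>
  h (by rw [← add_zero a, ← add_self X b, ← add_assoc, e, zero_add])

omit [Finite G] [Finite F] in
theorem t_E : X.t ∈ X.E := self_mem_adj

omit [Finite G] [Finite F] in
theorem v_E (a : F) : X.v a ∈ X.E := le_adj (X.v_mem_V a)

omit [Finite G] in
include X in
theorem exa : ∃ a : F, a ≠ 0 ∧ a ≠ 1 := by
  obtain ⟨a, -, h⟩ := exists_third (s := (Set.univ : Set F))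
    (by rw [Set.ncard_univ]; have := X.four; omega)
  exact ⟨a, h⟩

theorem mv {s : G} (hs : X.Ω s) {P : Subgroup G} (hP : IsPGroup 2 P) (h : ∀ x ∈ P, cj x s = s) :
    ∃ g, cj g s = X.t ∧ ∀ x ∈ P, cj g x ∈ X.T := by
  obtain ⟨c, hc, e⟩ := X.sylΩ hs hP h
  exact ⟨c⁻¹, inv_cj_eq.2 hc, fun x hx => mem_cm.1 (e hx)⟩

omit [Finite G] [Finite F] in
theorem act_sq {x : G} (xx : x * x = 1) {τ : F ≃+* F} (h : ∀ a, cj x (X.v a) = X.v (τ a)) :
    τ * τ = 1 := by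
  ext a
  apply X.v_inj
  show X.v (τ (τ a)) = X.v a
  rw [← h, ← h, ← mul_cj, xx, one_cj]

/-- a conjugate of `t` in `E` -/
theorem exE (h : Nat.card F ≠ 4 ∨ ¬ X.Out) : ∃ s ∈ X.E, X.Ω s ∧ s ≠ X.t := by
  obtain ⟨s, hT, hs, st⟩ := X.zstT
  have ss := X.sqΩ hs
  by_cases h0 : ∀ a, cj s (X.v a) = X.v a
  · exact ⟨s, X.VR_inv (X.cen_T hT h0) ss, hs, st⟩
  obtain ⟨i, hi⟩ := X.T_act hT
  generalize X.σ ^ i = τ at hi
  have τ1 : τ ≠ 1 := fun e => h0 fun a => by rw [hi, e]; rfl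
  have ττ := act_sq X ss hi
  have h4 : Nat.card F ≠ 4 := h.resolve_right fun e => e ⟨s, hT, ss, not_forall.1 h0⟩
  obtain ⟨a, ha, a0, a1⟩ := exists_third (s := {a | τ a = a}) (by
    have h1 := fix_sq τ1 ττ
    have h2 := X.four
    by_contra h3
    have : {a | τ a = a}.ncard ^ 2 ≤ 2 ^ 2 := Nat.pow_le_pow_left (not_lt.1 h3) 2
    omega)
  have ha : τ a = a := ha
  have sinv : s⁻¹ = s := inv_eq_of_mul_eq_one_right ss
  have hΩ : ∀ b, τ b = b → X.Ω (s * X.v b) := fun b hb => by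
    obtain ⟨c, rfl⟩ := fix_trace X.char τ1 ττ hb
    have : s * X.v (c + τ c) = cj (X.v c) s := by
      rw [add_comm, X.v_add, ← hi, cj, cj, sinv, X.v_inv, ← mul_assoc, ← mul_assoc, ← mul_assoc, ss,
        one_mul]
    rw [this, X.Ω_cj]
    exact hs
  obtain ⟨g, hg, e⟩ := mv X hs (P := X.T ⊓ centralizer {s}) (pg_le X.pgT inf_le_left)
    fun x hx => mem_cen.1 hx.2
  have hv : ∀ b, τ b = b → cj g (X.v b) ∈ X.T := fun b hb =>
    e _ ⟨X.E_le_T (v_E X b), mem_cen.2 (cj_comm.1 (by rw [hi, hb]))⟩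
  have fin : ∀ b, τ b = b → b ≠ 0 → (∀ c, cj (cj g (X.v b)) (X.v c) = X.v c) →
      ∃ s ∈ X.E, X.Ω s ∧ s ≠ X.t := fun b hb b0 hc => by
    have h1 := X.VR_inv (X.cen_T (hv b hb) hc) (cj_sq (X.v_sq b))
    refine ⟨X.t * cj g (X.v b), mul_mem (t_E X) h1, ?_, fun e => b0 ?_⟩
    · rw [← hg, ← cj_mul, X.Ω_cj]; exact hΩ b hb
    · exact X.v_eq_one.1 (cj_eq_one.1 (mul_eq_left.1 e))
  obtain ⟨j, hj⟩ := X.T_act (hv a ha)
  obtain ⟨k, hk⟩ := X.T_act (hv 1 (map_one τ))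
  generalize X.σ ^ j = τa at hj
  generalize X.σ ^ k = τb at hk
  by_cases e1 : τa = 1
  · exact fin a ha a0 fun c => by rw [hj, e1]; rfl
  by_cases e2 : τb = 1
  · exact fin 1 (map_one τ) one_ne_zero fun c => by rw [hk, e2]; rfl
  have h2 := act_sq X (cj_sq (X.v_sq 1)) hk
  have h3 := aut_inv_uniq e1 (act_sq X (cj_sq (X.v_sq a)) hj) e2 h2
  refine fin (a + 1) (by rw [map_add, ha, map_one]) (add_ne X a1) fun c => ?_
  rw [X.v_add, cj_mul, mul_cj, hk, hj, h3]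
  exact congrArg X.v (RingEquiv.congr_fun h2 c)

theorem mvE (h : Nat.card F ≠ 4 ∨ ¬ X.Out) {s : G} (hs : X.Ω s) {P : Subgroup G} (hP : IsPGroup 2 P)
    (hE : X.E ≤ P) (hc : ∀ x ∈ P, cj x s = s) :
    ∃ g, cj g s = X.t ∧ (∀ x ∈ P, cj g x ∈ X.T) ∧ cm g X.E = X.E := by
  obtain ⟨g, hg, e⟩ := mv X hs hP hc
  refine ⟨g, hg, e, X.uniqE h (fun x hx => ?_) (fun x hx => ?_) ?_⟩
  · have := e _ (hE (mem_cm.1 hx)); rwa [cj_inv_cj] at this
  · have := cj_sq (g := g) (X.E_sq (mem_cm.1 hx)); rwa [cj_inv_cj] at this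
  · rw [card_cm, X.card_E]

theorem fusE (h : Nat.card F ≠ 4 ∨ ¬ X.Out) {s : G} (hs : X.Ω s) (hE : s ∈ X.E) :
    ∃ g, cj g s = X.t ∧ cm g X.E = X.E := by
  obtain ⟨g, h1, -, h2⟩ := mvE X h hs (pg_le X.pgT X.E_le_T) le_rfl fun x hx => X.E_comm hx hE
  exact ⟨g, h1, h2⟩

theorem R2 (h : Nat.card F ≠ 4 ∨ ¬ X.Out) {ρ : G} (hρ : ρ ∈ X.R) : ρ = 1 ∨ ρ = X.t := by
  obtain ⟨s, hE, hs, st⟩ := exE X h
  by_contra hc
  have hVT : X.V ⊔ X.R ≤ X.T := le_adj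
  have hEP : X.E ≤ X.V ⊔ X.R := adj_le le_sup_left (mem_sup_right X.tR)
  have Rv : ∀ x ∈ X.R, ∀ a, cj x (X.v a) = X.v a := fun x hx a =>
    (X.mem_K.1 (X.R_le_K hx)).2 _
  have PE : ∀ x ∈ X.V ⊔ X.R, ∀ y ∈ X.E, cj x y = y := fun x hx y hy => by
    obtain ⟨r, hr, a, rfl⟩ := X.mem_VR.1 hx
    rw [mul_cj, X.E_comm (v_E X a) hy]
    obtain ⟨b, rfl | rfl⟩ := X.mem_E.1 hy
    · exact Rv r hr b
    · rw [cj_mul, Rv r hr b, (X.mem_K.1 (X.R_le_K hr)).1]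
  obtain ⟨g, hg, e, eE⟩ := mvE X h hs (pg_le X.pgT hVT) hEP fun x hx => PE x hx s hE
  obtain ⟨k, hk⟩ := pg_pow X.Rsyl.pg hρ
  obtain ⟨y, hy, y2, y4⟩ := exists_four k ρ hρ hk fun e => hc (X.R_inv hρ e)
  have yt : y * y = X.t := (X.R_inv (mul_mem hy hy) y4).resolve_left y2
  have h1 : cj g y ∈ X.V ⊔ X.R := X.cen_T (e y (mem_sup_right hy)) fun a => by
    have h2 : cj g⁻¹ (X.v a) ∈ X.E := mem_cm.1 (eE.symm ▸ v_E X a)
    have := congrArg (cj g) (PE y (mem_sup_right hy) _ h2)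
    rwa [← cj_cj, cj_inv_cj] at this
  obtain ⟨r, hr, a, e1⟩ := X.mem_VR.1 h1
  have h3 : cj g X.t = r * r := by
    rw [← yt, cj_mul, e1, mul_assoc, ← mul_assoc (X.v a), ← cj_eq_iff.1 (Rv r hr a), mul_assoc,
      X.v_sq, mul_one]
  have h4 := X.R_inv (mul_mem hr hr) (by rw [← h3]; exact cj_sq X.tt)
  rw [← h3] at h4
  rcases h4 with h4 | h4
  · exact X.t1 (cj_eq_one.1 h4)
  · exact st (cj_inj g (hg.trans h4.symm))

omit [Finite F] in
theorem tr {a b : F} (ha : a ≠ 0) (hb : b ≠ 0) : ∃ k : Fˣ, (k : F) * a = b :=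
  ⟨Units.mk0 (b * a⁻¹) (mul_ne_zero hb (inv_ne_zero ha)), by simp [ha]⟩

theorem Ωv {a b : F} (ha : a ≠ 0) (hb : b ≠ 0) (h : X.Ω (X.v a)) : X.Ω (X.v b) := by
  obtain ⟨k, rfl⟩ := tr ha hb
  rwa [← X.h_v, X.Ω_cj]

theorem Ωtv {a b : F} (ha : a ≠ 0) (hb : b ≠ 0) (h : X.Ω (X.t * X.v a)) : X.Ω (X.t * X.v b) := by
  obtain ⟨k, rfl⟩ := tr ha hb
  rwa [← X.h_v, ← X.h_t k, ← cj_mul, X.Ω_cj]

theorem pure (h : Nat.card F ≠ 4 ∨ ¬ X.Out) (h1 : ¬ X.Ω (X.v 1)) : X.Pure := by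
  have nV : ∀ a, ¬ X.Ω (X.v a) := fun a => by
    by_cases a0 : a = 0
    · rw [a0, X.v_zero]; exact X.nΩ1
    · exact fun e => h1 (Ωv X a0 one_ne_zero e)
  obtain ⟨s, hE, hs, st⟩ := exE X h
  refine ⟨fun ρ => R2 X h, nV, fun b => ?_, fun g hg a => ?_⟩
  · obtain ⟨a, rfl | rfl⟩ := X.mem_E.1 hE
    · exact absurd hs (nV a)
    by_cases b0 : b = 0
    · rw [b0, X.v_zero, mul_one]; exact X.Ω_t
    · exact Ωtv X (fun e => st (by rw [e, X.v_zero, mul_one])) b0 hs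
  · have hW : ∀ w ∈ cm g X.V, ∃ b, w = cj g (X.v b) := fun w hw => by
      obtain ⟨b, hb⟩ := X.mem_V.1 (mem_cm.1 hw)
      exact ⟨b, (inv_cj_eq.1 hb).symm⟩
    have hWT : cm g X.V ≤ X.T := fun w hw => by
      obtain ⟨b, rfl⟩ := hW w hw
      exact hg b
    have I : Idx (cm g X.V) (adj (cm g X.V) X.t) X.t := idx_adj
      (fun e => by
        obtain ⟨b, hb⟩ := hW _ e
        exact nV b ((X.Ω_cj g).1 (hb ▸ X.Ω_t)))
      (fun w hw => by rwa [cj_comm.1 (X.T_t (hWT hw))]) (X.tt ▸ one_mem _)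
    have hB := X.uniqE h (B := adj (cm g X.V) X.t) (adj_le hWT (X.E_le_T (t_E X)))
      (fun x hx => by
        rcases I.cases hx with e | ⟨w, hw, rfl⟩
        · obtain ⟨b, rfl⟩ := hW x e
          exact cj_sq (X.v_sq b)
        · rw [mul_assoc, ← mul_assoc w, cj_eq_iff.1 (X.T_t (hWT hw)), mul_assoc, ← mul_assoc, X.tt,
            one_mul]
          obtain ⟨b, rfl⟩ := hW w hw
          exact cj_sq (X.v_sq b))
      (by rw [I.card, card_cm, X.card_V])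
    have h2 : cj g (X.v a) ∈ X.E := hB ▸ le_adj (cj_mem_cm.2 (X.v_mem_V a))
    obtain ⟨b, e | e⟩ := X.mem_E.1 h2
    · rw [e]; exact X.v_mem_V b
    · refine absurd ((X.Ω_cj g).1 ?_) (nV a)
      rw [e]
      obtain ⟨c, rfl | rfl⟩ := X.mem_E.1 hE
      · exact absurd hs (nV c)
      by_cases b0 : b = 0
      · rw [b0, X.v_zero, mul_one]; exact X.Ω_t
      · exact Ωtv X (fun e => st (by rw [e, X.v_zero, mul_one])) b0 hs

theorem case2 (h : Nat.card F ≠ 4 ∨ ¬ X.Out) (h1 : X.Ω (X.v 1)) : X.Ω (X.t * X.v 1) := by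
  by_contra h2
  obtain ⟨g, hg, e⟩ := fusE X h h1 (v_E X 1)
  obtain ⟨a, a0, a1⟩ := exa X
  have h3 := (X.Ω_cj g).2 (Ωv X one_ne_zero (add_ne X a1.symm) h1)
  rw [X.v_add, cj_mul, hg] at h3
  have h4 : cj g (X.v a) ∈ X.E := e ▸ cj_mem_cm.2 (v_E X a)
  obtain ⟨b, hb | hb⟩ := X.mem_E.1 h4
  · rw [hb] at h3
    refine h2 (Ωtv X (fun b0 => a0 ?_) one_ne_zero h3)
    rw [b0, X.v_zero] at hb
    exact X.v_eq_one.1 (cj_eq_one.1 hb)
  · refine h2 (Ωtv X (a := b) (fun b0 => a1 ?_) one_ne_zero ?_)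
    · rw [b0, X.v_zero, mul_one, ← hg] at hb
      exact X.v_inj (cj_inj g hb)
    · rw [← hb, X.Ω_cj]
      exact Ωv X one_ne_zero a0 h1

theorem σ_one (h : Nat.card F ≠ 4 ∨ ¬ X.Out) (h1 : X.Ω (X.v 1)) : X.σ = 1 := by
  by_contra hσ
  obtain ⟨j, hj⟩ := X.σ_two
  obtain ⟨i, τ1, ττ⟩ := exists_inv (σ := X.σ) j 1 (by rwa [pow_one]) (by rwa [pow_one])
  have hi := X.fpow_v i
  have hT : X.f ^ i ∈ X.T := pow_mem X.f_mem_T i
  generalize X.σ ^ i = τ at τ1 ττ hi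
  generalize X.f ^ i = x at hi hT
  obtain ⟨c, hc⟩ : ∃ c, c ≠ τ c := by
    by_contra hc
    push Not at hc
    exact τ1 (RingEquiv.ext fun c => (hc c).symm)
  have ha : τ (c + τ c) = c + τ c := by
    rw [map_add, add_comm]
    exact congrArg (· + τ c) (RingEquiv.congr_fun ττ c)
  obtain ⟨g, hg, e⟩ := fusE X h (Ωv X one_ne_zero (add_ne X hc) h1) (v_E X _)
  have xt : cj (cj g x) X.t = X.t := by rw [← hg, cj_cj, hi, ha]
  have xE : ∀ y ∈ X.E, cj (cj g x) y ∈ X.E := fun y hy => by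
    have h2 : cj g⁻¹ y ∈ X.E := mem_cm.1 (e.symm ▸ hy)
    have h3 : cj x (cj g⁻¹ y) ∈ X.E := by
      obtain ⟨b, hb | hb⟩ := X.mem_E.1 h2
      · rw [hb, hi]; exact v_E X _
      · rw [hb, cj_mul, hi, X.T_t hT]; exact mul_mem (t_E X) (v_E X _)
    have h4 : cj g (cj x (cj g⁻¹ y)) ∈ X.E := e ▸ cj_mem_cm.2 h3
    rwa [← cj_cj, cj_inv_cj] at h4
  have xV : ∀ b, cj (cj g x) (X.v b) ∈ X.V := fun b =>
    X.A0_T (X.C_A0 xt (X.V_le_A0 (X.v_mem_V b))) (X.E_le_T (xE _ (v_E X b)))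
  have h5 : cj g (X.v c) * cj (cj g x) (cj g (X.v c)) = X.t := by
    rw [cj_cj, hi, ← cj_mul, ← X.v_add, hg]
  have h6 : cj g (X.v c) ∈ X.E := e ▸ cj_mem_cm.2 (v_E X c)
  apply X.t_A0
  apply X.V_le_A0
  rw [← h5]
  obtain ⟨b, hb | hb⟩ := X.mem_E.1 h6
  · rw [hb]; exact mul_mem (X.v_mem_V b) (xV b)
  · rw [hb, cj_mul, xt, mul_assoc, ← mul_assoc (X.v b), cj_eq_iff.1 (X.v_t b), mul_assoc, X.ttu]
    exact mul_mem (X.v_mem_V b) (xV b)

omit [Finite G] in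
include X in
theorem simple_sl : IsSimpleGroup SL(2, F) := by
  have := H10.isSimpleGroup_PSL_fin (F := F) 2 le_rfl fun _ => X.four
  refine (H10.quotCenterEquivOfBot (card_eq_one.1 ?_)).symm.isSimpleGroup
  rw [H10.card_center_SL, Fintype.card_fin]
  have : CharP F 2 := CharTwo.of_one_ne_zero_of_two_eq_zero one_ne_zero X.char
  have := Fintype.ofFinite F
  obtain ⟨n, -, hn⟩ := FiniteField.card F 2
  rw [Nat.card_eq_fintype_card, hn]
  refine (Nat.coprime_two_left.2 ?_)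
  exact Nat.Even.sub_odd (Nat.one_le_two_pow) (Nat.even_pow.2 ⟨even_two, n.ne_zero⟩) odd_one

/-- the elementary abelian case -/
theorem ce (hT : X.T = X.E) : ∃ B, CE X.t X.V B := by
  let B : Subgroup G :=
    { carrier := {n | cj n X.t = X.t ∧ ∃ k : Fˣ, ∀ a, cj n (X.v a) = X.v (k * a)}
      mul_mem' := by
        rintro a b ⟨h1, k, hk⟩ ⟨h2, l, hl⟩
        exact ⟨by rw [mul_cj, h2, h1], k * l, fun c => by
          rw [mul_cj, hl, hk, Units.val_mul, mul_assoc]⟩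
      one_mem' := ⟨one_cj _, 1, fun a => by rw [one_cj, Units.val_one, one_mul]⟩
      inv_mem' := by
        rintro a ⟨h1, k, hk⟩
        exact ⟨inv_cj_eq.2 h1, k⁻¹, fun c => inv_cj_eq.2 (by
          rw [hk, ← mul_assoc, Units.mul_inv, one_mul])⟩ }
  refine ⟨B, X.tt, fun e => X.t_A0 (X.V_le_A0 e), fun u hu => ?_, fun u hu => ?_, ?_, ?_,
    fun β hβ => hβ.1, fun β hβ u hu => ?_, fun u hu w hw u1 w1 => ?_, fun a ha b hb u hu => ?_,
    fun g h1 h2 β hβ => ?_, fun g h1 h2 => ?_⟩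
  · obtain ⟨a, rfl⟩ := X.mem_V.1 hu; exact X.v_sq a
  · obtain ⟨a, rfl⟩ := X.mem_V.1 hu; exact X.v_t a
  · rw [X.card_V]; exact X.four
  · have := X.syl
    rwa [show adj (X.V ⊔ X.R) X.f = adj X.V X.t from hT] at this
  · obtain ⟨a, rfl⟩ := X.mem_V.1 hu
    obtain ⟨-, k, hk⟩ := hβ
    rw [hk]; exact X.v_mem_V _
  · obtain ⟨a, rfl⟩ := X.mem_V.1 hu
    obtain ⟨b, rfl⟩ := X.mem_V.1 hw
    obtain ⟨k, rfl⟩ := tr (mt X.v_eq_one.2 u1) (mt X.v_eq_one.2 w1)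
    exact ⟨X.h k, ⟨X.h_t k, k, X.h_v k⟩, X.h_v k a⟩
  · obtain ⟨c, rfl⟩ := X.mem_V.1 hu
    obtain ⟨-, k, hk⟩ := ha
    obtain ⟨-, l, hl⟩ := hb
    rw [mul_cj, mul_cj, hl, hk, hk, hl, mul_left_comm]
  · obtain ⟨k, τ, hk⟩ := X.N1_act (X.mem_N1.2 ⟨h1, fun a => h2 _ (X.v_mem_V a)⟩)
    obtain ⟨h3, l, hl⟩ := hβ
    refine ⟨by rw [← h1, cj_cj, h3, h1], Units.map (τ : F →* F) l, fun a => ?_⟩
    obtain ⟨b, rfl⟩ : ∃ b, a = k * τ b := ⟨τ.symm ((k⁻¹ : Fˣ) * a), by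
      rw [RingEquiv.apply_symm_apply, ← mul_assoc, Units.mul_inv, one_mul]⟩
    rw [← hk, cj_cj, hl, hk, map_mul, mul_left_comm]
    rfl
  · exact ⟨h1, 1, fun a => by rw [h2 _ (X.v_mem_V a), Units.val_one, one_mul]⟩

/-- the weak closure of `t` in its centraliser -/
theorem wcl (hT : X.T = X.E) :
    closure {x : G | ∃ g : G, x = g * X.t * g⁻¹ ∧ x * X.t = X.t * x} = zpowers X.t ⊔ X.A0 := by
  have hn : ∀ c, cj c X.t = X.t → ∀ x ∈ adj X.A0 X.t, cj c x ∈ adj X.A0 X.t := fun c hc =>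
    adj_le_comap (fun k hk => le_adj (X.C_A0 hc hk)) (by rw [hc]; exact self_mem_adj)
  rw [sup_comm]
  apply le_antisymm
  · rw [closure_le]
    rintro x ⟨g, hg, hx⟩
    have xx : x ^ 2 ^ 1 = 1 := by rw [pow_one, pow_two, hg]; exact cj_sq X.tt
    obtain ⟨c, hc, e⟩ := X.syl.conj (pg_zpowers xx)
      (zpowers_le.2 (mem_cen.2 (cj_eq_iff.2 hx)))
    have h1 : cj c⁻¹ x ∈ X.E := hT ▸ mem_cm.1 (e (mem_zpowers x))
    have h2 := hn c (mem_cen.1 hc) _ (adj_le (X.V_le_A0.trans le_adj) self_mem_adj h1)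
    rwa [cj_inv_cj] at h2
  · set W := closure {x : G | ∃ g : G, x = g * X.t * g⁻¹ ∧ x * X.t = X.t * x} with hW
    have tW : X.t ∈ W := subset_closure ⟨1, by simp, rfl⟩
    have nW : ∀ c, cj c X.t = X.t → ∀ x ∈ W, cj c x ∈ W := fun c hc =>
      (closure_le (W.comap (MulAut.conj c).toMonoidHom)).2 (by
        rintro x ⟨g, hg, hx⟩
        refine subset_closure ⟨c * g, ?_, ?_⟩
        · rw [hg]; exact (mul_cj c g X.t).symm
        · have := congrArg (cj c) hx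
          rwa [cj_mul, cj_mul, hc] at this)
    obtain ⟨s, hs, hΩ, st⟩ := X.zstT
    have sW : s ∈ W := by
      obtain ⟨g, hg⟩ := X.Ω_iff.1 hΩ
      exact subset_closure ⟨g, hg.symm, cj_eq_iff.1 (X.T_t hs)⟩
    obtain ⟨a, a0, ha⟩ : ∃ a, a ≠ 0 ∧ X.v a ∈ W := by
      obtain ⟨a, rfl | rfl⟩ := X.mem_E.1 (hT ▸ hs)
      · exact ⟨a, fun e => X.nΩ1 (by rwa [e, X.v_zero] at hΩ), sW⟩
      · exact ⟨a, fun e => st (by rw [e, X.v_zero, mul_one]), (W.mul_mem_cancel_left tW).1 sW⟩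
    have := simple_sl X
    have hN : (W.comap X.φ).Normal := ⟨fun n hn M => by
      rw [mem_comap, map_mul, map_mul, map_inv]
      exact nW _ (cj_comm.1 (X.tφ M)) _ hn⟩
    rcases hN.eq_bot_or_eq_top with h | h
    · have : uu a ∈ W.comap X.φ := ha
      rw [h, mem_bot] at this
      exact absurd (uu_inj (this.trans uu_zero.symm)) a0
    · refine sup_le ?_ (zpowers_le.2 tW)
      rintro _ ⟨M, rfl⟩
      have : M ∈ W.comap X.φ := h ▸ mem_top M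
      exact this

theorem iso (h4 : Nat.card F = 4) : Nonempty (↥(zpowers X.t ⊔ X.A0) ≃*
    (Multiplicative (ZMod 2) × ↥(alternatingGroup (Fin 5)))) := by
  have ho : orderOf X.t = 2 := orderOf_eq_prime (by rw [pow_two, X.tt]) X.t1
  have hc : ∀ (m : zpowers X.t) (n : SL(2, F)), Commute ((zpowers X.t).subtype m) (X.φ n) := by
    rintro ⟨_, k, rfl⟩ n
    exact (show Commute X.t (X.φ n) from cj_eq_iff.1 (X.tφ n)).zpow_left k
  have hinj := (MonoidHom.noncommCoprod_injective _ _ hc).2 ⟨subtype_injective _, X.inj, by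
    rw [range_subtype, disjoint_iff_inf_le]
    rintro x ⟨h1, h2⟩
    have h3 : x = 1 ∨ x = X.t := by
      classical
      have h1 : x ∈ zpowers X.t := h1
      rw [mem_zpowers_iff_mem_range_orderOf, ho] at h1
      obtain ⟨k, hk, rfl⟩ := Finset.mem_image.1 h1
      have : k = 0 ∨ k = 1 := by have := Finset.mem_range.1 hk; omega
      rcases this with rfl | rfl <;> simp
    rcases h3 with rfl | rfl
    · exact one_mem _
    · exact absurd h2 X.t_A0⟩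
  have e1 := MonoidHom.ofInjective hinj
  rw [MonoidHom.noncommCoprod_range, range_subtype] at e1
  have := simple_sl X
  obtain ⟨e2⟩ := Cfsg.Agent.S0494.result (G := SL(2, F)) (by
    have := X.card_A0
    rw [h4] at this
    exact (Nat.card_congr (MonoidHom.ofInjective X.inj).toEquiv).trans this)
  have e3 : zpowers X.t ≃* Multiplicative (ZMod 2) :=
    mulEquivOfPrimeCardEq (p := 2) (by rw [Nat.card_zpowers, ho]) (by simp)
  exact ⟨e1.symm.trans (e3.prodCongr e2)⟩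

end Pur

variable {G : Type*} [Group G] [Finite G] {F : Type*} [Field F] [Finite F]

theorem Fr.pure_or (X : Fr G F) (h : Nat.card F ≠ 4 ∨ ¬ X.Out) :
    X.Pure ∨ ((∀ ρ ∈ X.R, ρ = 1 ∨ ρ = X.t) ∧ X.σ = 1 ∧ X.t ∈ X.L) := by
  by_cases h1 : X.Ω (X.v 1)
  · exact Or.inr ⟨fun ρ => Pur.R2 X h, Pur.σ_one X h h1,
      (X.Ω_L h1).1 (X.A0_le_L (X.V_le_A0 (X.v_mem_V 1)))⟩
  · exact Or.inl (Pur.pure X h h1)

theorem Fr.janko (X : Fr G F) (h1 : ∀ ρ ∈ X.R, ρ = 1 ∨ ρ = X.t) (h2 : X.σ = 1) (h3 : X.t ∈ X.L) :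
    Nat.card F = 4 ∧ Cfsg.Spor.IsoJ1 X.L := by
  have hT := X.T_eq_E h1 h2
  obtain ⟨B, C⟩ := Pur.ce X hT
  obtain ⟨S, h8⟩ := C.main (X.idx2 h3)
  have h4 : Nat.card F = 4 := by
    have := X.card_E
    rw [show Nat.card X.E = 8 from h8] at this
    omega
  refine ⟨h4, ?_⟩
  have hi : ¬ 2 ∣ (adj X.V X.t).index := fun h => S.not_dvd (by
    rw [← (adj X.V X.t).index_mul_card]; exact Nat.mul_dvd_mul_right h _)
  have J := Cfsg.Agent.S3239.result X.t (orderOf_eq_prime (by rw [pow_two, X.tt]) X.t1)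
    (S.pg.toSylow hi) self_mem_adj (fun s hs => cj_eq_iff.1 (X.E_comm hs self_mem_adj))
    (by rw [Pur.wcl X hT]; exact Pur.iso X h4)
  have hL := X.L_top h3
  have hs : IsSimpleGroup G := by
    have := X.simple
    rw [hL] at this
    exact topEquiv.symm.isSimpleGroup
  have hN : normalClosure ({X.t} : Set G) = X.L := by
    rw [hL]
    refine (normalClosure_normal.eq_bot_or_eq_top).resolve_left fun e => X.t1 ?_
    rw [← mem_bot, ← e]
    exact subset_normalClosure rfl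
  rwa [hN] at J

end H25.L2
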