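import Cfsg.Agent.Lib.L2S.Au2
import Cfsg.Agent.Lib.L2S.Trp

/-! The case `q = 4` with `T` a Sylow subgroup of `G`. -/

set_option autoImplicit false
set_option linter.unusedSectionVars false

namespace H25.L2

open Subgroup H4.YM H4.TL Matrix MatrixGroups

variable {G : Type*} [Group G] [Finite G] {F : Type*} [Field F] [Finite F]

namespace QS

theorem Rc (X : Fr G F) {x y : G} (hx : x ∈ X.R) (hy : y ∈ X.R) : x * y = y * x := by
  have := X.R_cyc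
  exact congrArg Subtype.val (mul_comm' (⟨x, hx⟩ : X.R) ⟨y, hy⟩)

theorem VRc (X : Fr G F) {x y : G} (hx : x ∈ X.V ⊔ X.R) (hy : y ∈ X.V ⊔ X.R) : cj x y = y := by
  obtain ⟨ρ, hρ, a, rfl⟩ := X.mem_VR.1 hx
  obtain ⟨ρ', hρ', b, rfl⟩ := X.mem_VR.1 hy
  rw [mul_cj, cj_mul, cj_comm.1 (X.R_v hρ' a), X.v_comm, cj_mul, cj_eq_iff.2 (Rc X hρ hρ'),
    X.R_v hρ]

theorem vVR (X : Fr G F) (a : F) : X.v a ∈ X.V ⊔ X.R := mem_sup_left (X.v_mem_V a)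

theorem tVR (X : Fr G F) : X.t ∈ X.V ⊔ X.R := mem_sup_right X.tR

theorem vT (X : Fr G F) (a : F) : X.v a ∈ X.T := X.VR_le_T (vVR X a)

theorem tT (X : Fr G F) : X.t ∈ X.T := X.VR_le_T (tVR X)

theorem z1 (X : Fr G F) : X.v 1 ≠ 1 := fun h => one_ne_zero (X.v_eq_one.1 h)

theorem tv (X : Fr G F) (a : F) : X.t ≠ X.v a := fun h => X.t_A0 (h ▸ X.V_le_A0 (X.v_mem_V a))

theorem tz1 (X : Fr G F) : X.t * X.v 1 ≠ 1 := fun h =>
  tv X 1 (by rw [eq_inv_of_mul_eq_one_left h, X.v_inv])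

theorem tzz (X : Fr G F) : X.t * X.v 1 * X.v 1 = X.t := by rw [mul_assoc, X.v_sq, mul_one]

theorem vL (X : Fr G F) (a : F) : X.v a ∈ X.L := X.A0_le_L (X.V_le_A0 (X.v_mem_V a))

theorem pgR (X : Fr G F) : IsPGroup 2 X.R := X.Rsyl.pg

/-- an involution which is a square in `VR` -/
theorem sqt (X : Fr G F) {y : G} (hy : y ∈ X.V ⊔ X.R) (h : y * y * (y * y) = 1) (h1 : y * y ≠ 1) :
    y * y = X.t := by
  obtain ⟨ρ, hρ, a, rfl⟩ := X.mem_VR.1 hy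
  have e1 : ρ * X.v a * (ρ * X.v a) = ρ * ρ := by
    rw [mul_assoc, ← mul_assoc (X.v a), ← cj_eq_iff.1 (X.R_v hρ a), mul_assoc, X.v_sq, mul_one]
  rw [e1] at h h1 ⊢
  exact (X.R_inv (X.R.mul_mem hρ hρ) h).resolve_left h1

theorem ord4 (X : Fr G F) (h : ¬ ∀ ρ ∈ X.R, ρ = 1 ∨ ρ = X.t) : ∃ ρ ∈ X.R, ρ * ρ = X.t := by
  have key : ∀ k : ℕ, ∀ ρ ∈ X.R, ρ ^ 2 ^ k = 1 → (ρ = 1 ∨ ρ = X.t) ∨ ∃ ρ ∈ X.R, ρ * ρ = X.t := by
    intro k
    induction k with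
    | zero => exact fun ρ _ h => Or.inl (Or.inl (by simpa using h))
    | succ k ih =>
      intro ρ hρ h
      rcases ih (ρ * ρ) (X.R.mul_mem hρ hρ) (by rw [← pow_two, ← pow_mul, ← pow_succ', h]) with
        (h1 | h1) | h1
      · exact Or.inl (X.R_inv hρ h1)
      · exact Or.inr ⟨ρ, hρ, h1⟩
      · exact Or.inr h1
  by_contra hn
  exact h fun ρ hρ => let ⟨k, hk⟩ := pg_pow (pgR X) hρ; (key k ρ hρ hk).resolve_right hn

theorem memVR (X : Fr G F) (h : ∀ ρ ∈ X.R, ρ = 1 ∨ ρ = X.t) {x : G} (hx : x ∈ X.V ⊔ X.R) :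
    ∃ a, x = X.v a ∨ x = X.t * X.v a := by
  obtain ⟨ρ, hρ, a, rfl⟩ := X.mem_VR.1 hx
  rcases h ρ hρ with rfl | rfl
  · exact ⟨a, Or.inl (one_mul _)⟩
  · exact ⟨a, Or.inr rfl⟩

theorem cardR (X : Fr G F) (h : ∀ ρ ∈ X.R, ρ = 1 ∨ ρ = X.t) : Nat.card X.R = 2 := by
  have : X.R = zpowers X.t := le_antisymm (fun ρ hρ => by
    rcases h ρ hρ with rfl | rfl
    exacts [one_mem _, mem_zpowers _]) (zpowers_le.2 X.tR)
  rw [this, Nat.card_zpowers]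
  exact orderOf_eq_prime (by rw [pow_two, X.tt]) X.t1

theorem v_cj (X : Fr G F) {a : F} (ha : a ≠ 0) :
    ∃ g, cj g X.t = X.t ∧ cj g (X.v 1) = X.v a :=
  ⟨X.h (Units.mk0 a ha), X.h_t _, by rw [X.h_v, Units.val_mk0, mul_one]⟩

/-- an odd power of an element normalising a Sylow subgroup lies in it -/
theorem oddpow {S : Subgroup G} (h : Syl S ⊤) {k : G} (hk : k ∈ normalizer (S : Set G)) :
    ∃ m, Odd m ∧ k ^ m ∈ S := by
  obtain ⟨j, m, hm, e⟩ := Nat.exists_eq_two_pow_mul_odd (orderOf_pos k).ne'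
  obtain ⟨g, hg, hle⟩ := (h.mono le_normalizer le_top).conj
    (pg_zpowers (x := k ^ m) (k := j) (by rw [← pow_mul, mul_comm, ← e, pow_orderOf_eq_one]))
    (zpowers_le.2 (pow_mem hk m))
  exact ⟨m, hm, (cj_mem_iff (inv_mem hg)).1 (mem_cm.1 (hle (mem_zpowers _)))⟩

theorem idem {a : F} (h : a * a = a) : a = 0 ∨ a = 1 :=
  (mul_eq_zero.1 (show a * (a - 1) = 0 by linear_combination h)).imp_right sub_eq_zero.1

theorem four3 {α : Type*} {a b c d p q r : α} (ha : a = p ∨ a = q ∨ a = r)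
    (hb : b = p ∨ b = q ∨ b = r) (hc : c = p ∨ c = q ∨ c = r) (hd : d = p ∨ d = q ∨ d = r) :
    a = b ∨ a = c ∨ a = d ∨ b = c ∨ b = d ∨ c = d := by
  grind

variable {X : Fr G F} {τ : F ≃+* F} {e : G} (D : X.Q4 τ e)
include D

theorem out_cj {x y : G} (hy : y ∈ X.T) (hy' : y ∉ X.V ⊔ X.R) (hx : x ∈ X.V ⊔ X.R) :
    cj y x = cj e x := by
  obtain ⟨k, hk, rfl⟩ := (D.iT.cases hy).resolve_left hy'
  rw [mul_cj, VRc X hk hx]

theorem sqVR {y : G} (hy : y ∈ X.T) : y * y ∈ X.V ⊔ X.R := (Idx.mul_iff D.iT hy hy).2 Iff.rfl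

theorem outmul {x y : G} (hx : x ∈ X.T) (hy : y ∈ X.T) (hx' : x ∉ X.V ⊔ X.R)
    (hy' : y ∉ X.V ⊔ X.R) : x * y ∈ X.V ⊔ X.R := (Idx.mul_iff D.iT hx hy).2 (iff_of_false hx' hy')

theorem cenV {a : F} (h : cj e (X.v a) = X.v a) : a = 0 ∨ a = 1 := by
  rw [D.e_v] at h
  exact idem (X.v_inj h)

theorem cenE {x : G} (hx : x ∈ X.V ⊔ X.R) (xx : x * x = 1) (x1 : x ≠ 1) (h : cj e x = x) :
    x = X.t ∨ x = X.v 1 ∨ x = X.t * X.v 1 := by
  obtain ⟨a, rfl | rfl⟩ := X.mem_E.1 (X.VR_inv hx xx)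
  · rcases cenV D h with rfl | rfl
    · exact absurd X.v_zero x1
    · exact Or.inr (Or.inl rfl)
  · rw [cj_mul, D.e_t] at h
    rcases cenV D (mul_left_cancel h) with rfl | rfl
    · exact Or.inl (by rw [X.v_zero, mul_one])
    · exact Or.inr (Or.inr rfl)

theorem cenT {x : G} (hx : x ∈ X.T) (xx : x * x = 1) (x1 : x ≠ 1) (h : ∀ y ∈ X.T, cj y x = x) :
    x = X.t ∨ x = X.v 1 ∨ x = X.t * X.v 1 :=
  cenE D (X.cen_T hx fun a => cj_comm.1 (h _ (vT X a))) xx x1 (h e D.eT)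

theorem T_tz {x : G} (hx : x ∈ X.T) : cj x (X.t * X.v 1) = X.t * X.v 1 := by
  rw [cj_mul, X.T_t hx, D.T_z hx]

theorem fixt {ρ : G} (hρ : ρ ∈ X.R) (h : ρ * ρ = X.t) {g : G}
    (hg : g ∈ normalizer (X.T : Set G)) : cj g X.t = X.t := by
  have key : ∀ y ∈ X.V ⊔ X.R, y * y = cj g X.t → cj g X.t = X.t := fun y hy e1 => by
    rw [← e1]
    exact sqt X hy (by rw [e1]; exact cj_sq X.tt) (by rw [e1]; exact mt cj_eq_one.1 X.t1)
  have hT : ∀ x ∈ X.T, cj g x ∈ X.T := mem_norm.1 hg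
  have hρT := hT ρ (X.R_le_T hρ)
  by_cases h1 : cj g ρ ∈ X.V ⊔ X.R
  · exact key _ h1 (by rw [← cj_mul, h])
  by_cases h2 : ∀ a, cj g (X.v a) ∈ X.V ⊔ X.R
  · exfalso
    obtain ⟨ω, -, ω0, ω1, -⟩ := exists_omega D.four
    have k1 : ∀ x, cj g x ∈ X.V ⊔ X.R → x * x = 1 → x ≠ 1 → cj ρ x = x →
        cj g x = X.t ∨ cj g x = X.v 1 ∨ cj g x = X.t * X.v 1 := fun x hx xx x1 hc =>
      cenE D hx (cj_sq xx) (mt cj_eq_one.1 x1) (by rw [← out_cj D hρT h1 hx, cj_cj, hc])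
    have k2 := fun (a : F) (ha : a ≠ 0) =>
      k1 _ (h2 a) (X.v_sq a) (mt X.v_eq_one.1 ha) (X.R_v hρ a)
    have ω2 : ω + 1 ≠ 0 := fun h0 => ω1 (by linear_combination h0 - X.char)
    rcases four3 (k2 1 one_ne_zero) (k2 ω ω0) (k2 _ ω2) (k1 X.t
      (by rw [← h, cj_mul]; exact sqVR D hρT) X.tt X.t1 (X.T_t (X.R_le_T hρ))) with
      h | h | h | h | h | h
    · exact ω1 (X.v_inj (cj_inj g h)).symm
    · exact ω0 (by linear_combination (X.v_inj (cj_inj g h)).symm)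
    · exact tv X _ (cj_inj g h).symm
    · exact one_ne_zero (α := F) (by linear_combination (X.v_inj (cj_inj g h)).symm)
    · exact tv X _ (cj_inj g h).symm
    · exact tv X _ (cj_inj g h).symm
  · obtain ⟨a, ha⟩ := not_forall.1 h2
    refine key _ (outmul D hρT (hT _ (vT X a)) h1 ha) ?_
    rw [← cj_mul, ← cj_mul, mul_assoc, ← mul_assoc (X.v a), ← cj_eq_iff.1 (X.R_v hρ a), mul_assoc,
      X.v_sq, mul_one, h]

theorem ev_sq (a : F) : e * X.v a * (e * X.v a) = X.v (a * a + a) := by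
  rw [X.v_add, ← D.e_v, cj, inv_eq_of_mul_eq_one_right D.ee]
  simp only [mul_assoc]

theorem sqT (h : ∀ ρ ∈ X.R, ρ = 1 ∨ ρ = X.t) {y : G} (hy : y ∈ X.T) :
    y * y = 1 ∨ y * y = X.v 1 := by
  obtain ⟨ω, hω, -, -, hF⟩ := exists_omega D.four
  have key : ∀ a : F, X.v (a * a + a) = 1 ∨ X.v (a * a + a) = X.v 1 := fun a => by
    have c := X.char
    rcases hF a with rfl | rfl | rfl | rfl
    · exact Or.inl (by rw [X.v_eq_one]; ring)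
    · exact Or.inl (by rw [X.v_eq_one]; linear_combination c)
    · exact Or.inr (congrArg _ (by linear_combination hω + a * c))
    · exact Or.inr (congrArg _ (by linear_combination hω + (2 * ω + 1) * c))
  rcases D.iT.cases hy with h1 | ⟨k, hk, rfl⟩
  · obtain ⟨a, h2⟩ := memVR X h h1
    exact Or.inl (X.E_sq (X.mem_E.2 ⟨a, h2⟩))
  · obtain ⟨a, rfl | rfl⟩ := memVR X h hk
    · rw [ev_sq D]; exact key a
    · rw [← mul_assoc e, cj_eq_iff.1 D.e_t, ev_sq D.tmul]; exact key a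

theorem fixz (h : ∀ ρ ∈ X.R, ρ = 1 ∨ ρ = X.t) {g : G} (hg : g ∈ normalizer (X.T : Set G)) :
    cj g (X.v 1) = X.v 1 := by
  obtain ⟨ω, hω, -, -, -⟩ := exists_omega D.four
  have e1 : e * X.v ω * (e * X.v ω) = X.v 1 := by
    rw [ev_sq D]; exact congrArg _ (by linear_combination hω + ω * X.char)
  have := sqT D h (mem_norm.1 hg _ (X.T.mul_mem D.eT (vT X ω)))
  rw [← cj_mul, e1] at this
  exact this.resolve_left (mt cj_eq_one.1 (z1 X))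

theorem Ncen {g x : G} (hg : g ∈ normalizer (X.T : Set G)) (hx : x ∈ X.T) (xx : x * x = 1)
    (x1 : x ≠ 1) (h : ∀ y ∈ X.T, cj y x = x) :
    cj g x = X.t ∨ cj g x = X.v 1 ∨ cj g x = X.t * X.v 1 :=
  cenT D (mem_norm.1 hg x hx) (cj_sq xx) (mt cj_eq_one.1 x1) fun y hy => by
    rw [← cj_inv_cj g y, cj_cj, h _ (mem_norm.1 (inv_mem hg) y hy)]

theorem Nfix (h : Syl X.T ⊤) {k : G} (hk : k ∈ normalizer (X.T : Set G)) :
    cj k X.t = X.t ∧ cj k (X.v 1) = X.v 1 := by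
  obtain ⟨m, hm, hT⟩ := oddpow h hk
  by_cases hR : ∀ ρ ∈ X.R, ρ = 1 ∨ ρ = X.t
  · have h1 := fixz D hR hk
    refine ⟨?_, h1⟩
    rcases Ncen D hk (tT X) X.tt X.t1 fun y => X.T_t with h2 | h2 | h2
    · exact h2
    · exact absurd (cj_inj k (h2.trans h1.symm)) (tv X 1)
    · have := cj_pow_swap h2 (by rw [cj_mul, h1, h2, tzz]) hm
      rw [X.T_t hT, left_eq_mul] at this
      exact absurd this (z1 X)
  · obtain ⟨ρ, hρ, e1⟩ := ord4 X hR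
    have h1 := fixt D hρ e1 hk
    refine ⟨h1, ?_⟩
    rcases Ncen D hk (vT X 1) (X.v_sq 1) (z1 X) fun y => D.T_z with h2 | h2 | h2
    · exact absurd (cj_inj k (h1.trans h2.symm)) (tv X 1)
    · exact h2
    · have := cj_pow_swap h2 (by rw [cj_mul, h1, h2, X.ttu]) hm
      rw [D.T_z hT, right_eq_mul] at this
      exact absurd this X.t1

theorem nfus (h : Syl X.T ⊤) {g x y : G} (hx : x = X.t ∨ x = X.v 1 ∨ x = X.t * X.v 1)
    (hy : y = X.t ∨ y = X.v 1 ∨ y = X.t * X.v 1) (e1 : cj g x = y) : x = y := by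
  have key : ∀ x, x = X.t ∨ x = X.v 1 ∨ x = X.t * X.v 1 → ∀ s ∈ X.T, cj s x = x := by
    rintro x (rfl | rfl | rfl) s hs
    exacts [X.T_t hs, D.T_z hs, T_tz D hs]
  obtain ⟨k, -, hk, e2⟩ := burn h (mem_top g) (key x hx) (by rw [e1]; exact key y hy)
  obtain ⟨h1, h2⟩ := Nfix D h hk
  rw [← e1, ← e2]
  rcases hx with rfl | rfl | rfl
  · exact h1.symm
  · exact h2.symm
  · rw [cj_mul, h1, h2]

theorem ΩVR (h : Syl X.T ⊤) {x : G} (hx : x ∈ X.V ⊔ X.R) (hΩ : X.Ω x) : x = X.t := by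
  obtain ⟨a, h1⟩ := X.mem_E.1 (X.VR_inv hx (X.sqΩ hΩ))
  by_cases ha : a = 0
  · rw [ha, X.v_zero, mul_one] at h1
    exact h1.resolve_left fun h => X.nΩ1 (h ▸ hΩ)
  obtain ⟨g, g1, g2⟩ := v_cj X ha
  exfalso
  rcases h1 with rfl | rfl
  · obtain ⟨c, hc⟩ := X.Ω_iff.1 ((X.Ω_cj g).1 (g2 ▸ hΩ))
    exact tv X 1 (nfus D h (Or.inl rfl) (Or.inr (Or.inl rfl)) hc)
  · obtain ⟨c, hc⟩ := X.Ω_iff.1 ((X.Ω_cj (s := X.t * X.v 1) g).1 (by rwa [cj_mul, g1, g2]))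
    exact z1 X (left_eq_mul.1 (nfus D h (Or.inl rfl) (Or.inr (Or.inr rfl)) hc))

theorem Ωez : X.Ω (e * X.v 1) ↔ X.Ω e := by
  obtain ⟨a, ha⟩ := D.ez
  rw [← ha, X.Ω_cj]

theorem et : e ≠ X.t := fun h => D.iT.nmem (h ▸ tVR X)

theorem nΩte (h : Syl X.T ⊤) (he : X.Ω e) : ¬ X.Ω (X.t * e) := fun hte => by
  have hB : closure {X.t, X.v 1, e} ≤ X.T ⊓ centralizer {e} := (closure_le _).2 (by
    rintro x (rfl | rfl | rfl)
    · exact ⟨tT X, mem_cen.2 (cj_comm.1 D.e_t)⟩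
    · exact ⟨vT X 1, mem_cen.2 (cj_comm.1 (D.T_z D.eT))⟩
    · exact ⟨D.eT, mem_cen.2 (cj_eq_iff.2 rfl)⟩)
  obtain ⟨c, hc, hle⟩ := X.sylΩ he (pg_le X.pgT (hB.trans inf_le_left))
    fun x hx => mem_cen.1 (hB hx).2
  have hc' : cj c⁻¹ e = X.t := inv_cj_eq.2 hc
  have key : ∀ x ∈ closure {X.t, X.v 1, e}, X.Ω x → cj c⁻¹ x ∈ X.V ⊔ X.R → x = e :=
    fun x _ h1 h2 => cj_inj _ ((ΩVR D h h2 ((X.Ω_cj _).2 h1)).trans hc'.symm)
  have m1 : X.t ∈ closure {X.t, X.v 1, e} := subset_closure (by simp)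
  have m2 : e * X.v 1 ∈ closure {X.t, X.v 1, e} :=
    mul_mem (subset_closure (by simp)) (subset_closure (by simp))
  have := key _ (mul_mem m1 m2) (by rw [← mul_assoc, Ωez D.tmul]; exact hte) (by
    rw [cj_mul]
    exact outmul D (mem_cm.1 (hle m1)) (mem_cm.1 (hle m2))
      (fun h1 => et D (key _ m1 X.Ω_t h1).symm)
      fun h1 => z1 X (mul_eq_left.1 (key _ m2 ((Ωez D).2 he) h1)))
  rw [cj_eq_iff.1 (D.T_z D.eT), ← mul_assoc, mul_eq_right] at this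
  exact tz1 X this

theorem R2 (h : Syl X.T ⊤) (he : X.Ω e) : ∀ ρ ∈ X.R, ρ = 1 ∨ ρ = X.t := by
  by_contra hR
  obtain ⟨ρ, hρ, e1⟩ := ord4 X hR
  have h1 := D.e_R hρ
  have e2 : cj e ρ * cj e ρ = X.t := by rw [← cj_mul, e1, D.e_t]
  rcases X.R_inv (X.R.mul_mem (X.R.inv_mem hρ) h1) (by
    rw [mul_assoc, ← mul_assoc (cj e ρ), Rc X h1 (X.R.inv_mem hρ), mul_assoc, e2, ← e1]
    simp) with h2 | h2
  · rw [inv_mul_eq_one] at h2
    obtain ⟨c, hc, hle⟩ := X.sylΩ he (pg_le (pgR X) (zpowers_le.2 hρ)) fun x hx =>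
      mem_cen.1 (zpowers_le.2 (mem_cen.2 (cj_comm.1 h2.symm)) hx)
    have := ΩVR D h (sqVR D (mem_cm.1 (hle (mem_zpowers ρ))))
      (by rw [← cj_mul, e1, X.Ω_cj]; exact X.Ω_t)
    rw [← cj_mul, e1, inv_cj_eq, hc] at this
    exact et D this
  · refine nΩte D h he ?_
    have e3 : cj ρ⁻¹ e = X.t * e := by
      rw [← h2, cj, cj, inv_eq_of_mul_eq_one_right D.ee, inv_inv, mul_assoc, mul_assoc, mul_assoc,
        mul_assoc, D.ee, mul_one]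
    rw [← e3, X.Ω_cj]; exact he

theorem iD : Idx X.V (adj X.V e) e :=
  idx_adj (fun h => D.iT.nmem (mem_sup_left h)) (fun k hk => by
    obtain ⟨a, rfl⟩ := X.mem_V.1 hk
    rw [D.e_v]; exact X.v_mem_V _) (by rw [D.ee]; exact one_mem _)

theorem cardD : Nat.card (adj X.V e) = 8 := by rw [(iD D).card, X.card_V, D.four]

theorem ev_inv {a : F} (h : e * X.v a * (e * X.v a) = 1) : a = 0 ∨ a = 1 := by
  rw [ev_sq D, X.v_eq_one] at h
  exact idem (by linear_combination h - a * X.char)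

theorem main (h : Syl X.T ⊤) (he : X.Ω e) : Four X.L := by
  have hR := R2 D h he
  by_cases ht : X.t ∈ X.L
  · exfalso
    have tzz : X.t * X.v 1 * (X.t * X.v 1) = 1 := X.E_sq (X.mem_E.2 ⟨1, Or.inr rfl⟩)
    obtain ⟨g, -, hg⟩ := X.thL (S := X.T) (by rwa [X.L_top ht]) (adj_le X.V_le_T D.eT)
      (by rw [D.card_T, cardR X hR, cardD D]) (mul_mem ht (vL X 1)) tzz
    have k : ¬ X.Ω (cj g (X.t * X.v 1)) := fun h1 => z1 X (mul_eq_left.1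
      (ΩVR D h (mul_mem (tVR X) (vVR X 1)) ((X.Ω_cj g).1 h1)))
    rcases (iD D).cases hg with h1 | ⟨u, hu, h1⟩
    · obtain ⟨a, h1⟩ := X.mem_V.1 h1
      obtain ⟨c, -, hc⟩ := v_cj X (a := a) fun ha => tz1 X (by
        rwa [ha, X.v_zero, cj_eq_one] at h1)
      exact X.t1 (mul_eq_right.1 (nfus D h (g := c⁻¹ * g) (Or.inr (Or.inr rfl))
        (Or.inr (Or.inl rfl)) (by rw [mul_cj, h1, ← hc, inv_cj_cj])))
    · obtain ⟨a, rfl⟩ := X.mem_V.1 hu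
      rcases ev_inv D (h1 ▸ cj_sq tzz) with rfl | rfl
      · exact k (by rwa [h1, X.v_zero, mul_one])
      · exact k (by rwa [h1, Ωez D])
  · have e0 : e ∉ X.L := mt (X.Ω_L he).1 ht
    have e1 : X.t * e ∈ X.L := (X.mul_mem_L ht).2 (iff_of_false ht e0)
    have hS : X.T ⊓ X.L = adj X.V (X.t * e) := by
      refine le_antisymm (fun x hx => ?_) (adj_le (le_inf X.V_le_T (X.V_le_A0.trans X.A0_le_L))
        ⟨D.tmul.eT, e1⟩)
      have k : ∀ u ∈ X.V ⊔ X.R, u ∈ X.L → u ∈ X.V := fun u hu hL => by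
        obtain ⟨a, rfl | rfl⟩ := memVR X hR hu
        · exact X.v_mem_V a
        · exact absurd (((X.mul_mem_L ht).1 hL).2 (vL X a)) ht
      rcases D.tmul.iT.cases hx.1 with h1 | ⟨u, hu, rfl⟩
      · exact le_adj (k x h1 hx.2)
      · exact mul_mem self_mem_adj (le_adj (k u hu (((X.mul_mem_L ht).1 hx.2).1 e1)))
    exact D.tmul.four_of_dih ht e1 (hS ▸ X.syl_L h) (by norm_num) D.tmul.dih

end QS

theorem Fr.Q4.syl_or {X : Fr G F} {τ : F ≃+* F} {e : G} (D : X.Q4 τ e) :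
    Syl X.T ⊤ ∨ ∀ ρ ∈ X.R, ρ = 1 ∨ ρ = X.t := by
  by_contra hn
  obtain ⟨h1, h2⟩ := not_or.1 hn
  obtain ⟨ρ, hρ, e1⟩ := QS.ord4 X h2
  obtain ⟨x, -, x1, x2, x3⟩ := exists_grow X.pgT le_top h1
  exact x2 (X.infT (pg_idx (idx_adj x2 (mem_norm.1 x1) x3) X.pgT) le_adj self_mem_adj
    (QS.fixt D hρ e1 x1))

theorem Fr.Q4.of_syl {X : Fr G F} {τ : F ≃+* F} {e : G} (D : X.Q4 τ e) (h : Syl X.T ⊤) :
    Four X.L := by
  obtain ⟨s, hs, hΩ, s1⟩ := X.zstT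
  rcases D.invol hs (X.sqΩ hΩ) with h1 | h1 | h1
  · obtain ⟨a, h2⟩ := X.mem_E.1 h1
    refine absurd (QS.ΩVR D h ?_ hΩ) s1
    rcases h2 with rfl | rfl
    exacts [QS.vVR X a, mul_mem (QS.tVR X) (QS.vVR X a)]
  · exact QS.main h1 h hΩ
  · refine QS.main h1 h ((QS.Ωez h1).1 ?_)
    rwa [← cj_eq_iff.1 (D.T_z hs), mul_assoc, X.v_sq, mul_one]

end H25.L2
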