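import Cfsg.Agent.Lib.L2S.Au2
import Cfsg.Agent.Lib.L2S.Au3
import Cfsg.Agent.Lib.L2S.Trp
import Cfsg.Agent.Lib.L2S.Q4S
import Cfsg.Agent.Lib.SL2.Cases

/-! The case `q = 4` when the two elementary subgroups of order `8` of `T` are interchanged. -/

set_option autoImplicit false
set_option linter.unusedSectionVars false

namespace H25.L2

open Subgroup H4.YM H4.TL

variable {G : Type*} [Group G] [Finite G] {F : Type*} [Field F] [Finite F]

namespace QW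

open QS

theorem cj_zpow (g x : G) (i : ℤ) : cj g (x ^ i) = cj g x ^ i := conj_zpow.symm

theorem ord8 {y : G} (h : y ^ 4 * y ^ 4 = 1) (h1 : y ^ 4 ≠ 1) : orderOf y = 8 :=
  orderOf_eq_prime_pow (p := 2) (n := 2) h1 (by rw [← h, ← pow_add]; rfl)

theorem idxz {y w : G} {k : ℤ} (ww : w * w = 1) (h : cj w y = y ^ k) (h1 : cj w y ≠ y) :
    Idx (zpowers y) (adj (zpowers y) w) w :=
  idx_adj (fun ⟨n, hn⟩ => h1 (cj_eq_iff.2 (hn ▸ ((Commute.refl y).zpow_left n).eq)))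
    (fun _ ⟨n, hn⟩ => by
      rw [← hn, cj_zpow, h]; exact zpow_mem (zpow_mem (mem_zpowers y) k) n)
    (by rw [ww]; exact one_mem _)

/-- generators of a quasi-dihedral group of order `16` -/
structure SD (y w : G) : Prop where
  o : orderOf y = 8
  ww : w * w = 1
  wy : cj w y = y ^ 3

namespace SD

variable {y w : G} (S : SD y w)
include S

theorem pw {i : ℤ} : y ^ i = 1 ↔ 8 ∣ i := by
  rw [← orderOf_dvd_iff_zpow_eq_one, S.o]; rfl

theorem wy' : cj w y = y ^ (3 : ℤ) := by rw [S.wy]; norm_cast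

theorem idx : Idx (zpowers y) (adj (zpowers y) w) w :=
  idxz S.ww S.wy' fun h => by
    rw [S.wy', ← mul_inv_eq_one, ← zpow_sub_one, S.pw] at h
    omega

theorem card : Nat.card (adj (zpowers y) w) = 16 := by rw [S.idx.card, Nat.card_zpowers, S.o]

theorem sq (i : ℤ) : w * y ^ i * (w * y ^ i) = y ^ (4 * i) := by
  rw [show 4 * i = 3 * i + i by ring, zpow_add, zpow_mul, ← S.wy', ← cj_zpow, cj,
    inv_eq_of_mul_eq_one_right S.ww]
  simp only [mul_assoc]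

theorem invol {s : G} (hs : s ∈ adj (zpowers y) w) (ss : s * s = 1) :
    s ∈ adj (zpowers (y * y)) w := by
  have k : ∀ i : ℤ, 2 ∣ i → y ^ i ∈ adj (zpowers (y * y)) w := by
    rintro _ ⟨j, rfl⟩
    exact le_adj ⟨j, by simp only [zpow_mul, zpow_two]⟩
  rcases S.idx.cases hs with ⟨i, rfl⟩ | ⟨_, ⟨i, rfl⟩, rfl⟩
  · rw [← zpow_add, S.pw] at ss
    exact k i (by omega)
  · rw [S.sq, S.pw] at ss
    exact mul_mem self_mem_adj (k i (by omega))

theorem qd : Cfsg.IsQuasiDihedral (adj (zpowers y) w) :=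
  ⟨3, le_rfl, S.card, ⟨y, le_adj (mem_zpowers y)⟩, ⟨w, self_mem_adj⟩,
    by rw [← orderOf_coe]; exact S.o,
    orderOf_eq_prime (Subtype.ext (by rw [pow_two]; exact S.ww))
      fun h => S.idx.nmem (by rw [show w = 1 from congrArg Subtype.val h]; exact one_mem _),
    Subtype.ext S.wy⟩

theorem quat {Q : Subgroup G} (hQ : Q ≤ adj (zpowers y) w)
    (h1 : ∀ x ∈ Q, x * x = 1 → x = 1 ∨ x = y ^ 4) (h2 : ∃ a ∈ Q, ∃ b ∈ Q, a * b ≠ b * a) :
    y * y ∈ Q ∧ Nat.card Q = 8 := by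
  have k1 : ∀ i : ℤ, w * y ^ i ∈ Q → ¬ 2 ∣ i := fun i hi h => S.idx.nmem (by
    have : w * y ^ i ∈ zpowers y := by
      rcases h1 _ hi (by rw [S.sq, S.pw]; omega) with h | h <;> rw [h]
      exacts [one_mem _, pow_mem (mem_zpowers y) 4]
    exact (mul_mem_cancel_right (zpow_mem (mem_zpowers y) i)).1 this)
  obtain ⟨i, hi⟩ : ∃ i : ℤ, w * y ^ i ∈ Q := by
    by_contra hn
    obtain ⟨a, ha, b, hb, h⟩ := h2
    rcases S.idx.cases (hQ ha) with ⟨i, rfl⟩ | ⟨_, ⟨i, rfl⟩, rfl⟩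
    · rcases S.idx.cases (hQ hb) with ⟨j, rfl⟩ | ⟨_, ⟨j, rfl⟩, rfl⟩
      · exact h (zpow_mul_comm y i j)
      · exact hn ⟨j, hb⟩
    · exact hn ⟨i, ha⟩
  have k2 : ∀ j : ℤ, y ^ j ∈ Q → 2 ∣ j := fun j hj => by
    have := k1 (i + j) (by rw [zpow_add, ← mul_assoc]; exact mul_mem hi hj)
    have := k1 i hi
    omega
  have I : Idx (Q ⊓ zpowers y) Q (w * y ^ i) := ⟨inf_le_left, hi,
    fun h => S.idx.nmem ((mul_mem_cancel_right (zpow_mem (mem_zpowers y) i)).1 h.2),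
    fun x hx => by
      rcases S.idx.cases (hQ hx) with h | ⟨k, hk, rfl⟩
      · exact Or.inl ⟨hx, h⟩
      · refine Or.inr (mem_inf.2 ⟨mul_mem (inv_mem hi) hx, ?_⟩)
        rw [mul_inv_rev, mul_assoc, inv_mul_cancel_left]
        exact mul_mem (inv_mem (zpow_mem (mem_zpowers y) i)) hk⟩
  have k3 : y * y ∈ Q := by
    by_contra hn
    have k4 : ∀ u ∈ Q ⊓ zpowers y, Commute u w ∧ Commute u y := by
      rintro _ ⟨hu, j, rfl⟩
      refine ⟨(cj_eq_iff.1 ?_).symm, (Commute.refl y).zpow_left j⟩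
      obtain ⟨l, rfl⟩ := k2 j hu
      rw [cj_zpow, S.wy', ← zpow_mul, ← mul_inv_eq_one, ← zpow_sub, S.pw]
      by_contra h8
      refine hn ?_
      have : y * y = (y ^ (2 * l)) ^ l := by
        rw [← zpow_mul, ← zpow_two, ← mul_inv_eq_one, ← zpow_sub, S.pw]
        obtain ⟨m, rfl⟩ : ∃ m, l = 2 * m + 1 := ⟨l / 2, by omega⟩
        exact ⟨-(m * m + m), by ring⟩
      rw [this]; exact Q.zpow_mem hu l
    have k5 : ∀ u ∈ Q ⊓ zpowers y, ∀ b ∈ Q, Commute u b := fun u hu b hb => by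
      rcases S.idx.cases (hQ hb) with ⟨j, rfl⟩ | ⟨_, ⟨j, rfl⟩, rfl⟩
      · exact (k4 u hu).2.zpow_right j
      · exact (k4 u hu).1.mul_right ((k4 u hu).2.zpow_right j)
    obtain ⟨a, ha, b, hb, h⟩ := h2
    rcases I.cases ha with h3 | ⟨u, hu, rfl⟩
    · exact h (k5 a h3 b hb)
    · rcases I.cases hb with h3 | ⟨u', hu', rfl⟩
      · exact h (k5 b h3 _ ha).symm
      · exact h (((Commute.refl _).mul_right (k5 u' hu' _ hi).symm).mul_left (k5 u hu _ hb))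
  refine ⟨k3, ?_⟩
  have : Q ⊓ zpowers y = zpowers (y * y) := le_antisymm (by
    rintro _ ⟨hu, j, rfl⟩
    obtain ⟨l, rfl⟩ := k2 j hu
    exact ⟨l, by simp only [zpow_mul, zpow_two]⟩)
    (zpowers_le.2 ⟨k3, mul_mem (mem_zpowers y) (mem_zpowers y)⟩)
  rw [I.card, this, Nat.card_zpowers, ← pow_two, orderOf_pow' y two_ne_zero, S.o]
  rfl

end SD

/-- the hypotheses on `x` -/
structure Sw (X : Fr G F) (x : G) : Prop where
  R2 : ∀ ρ ∈ X.R, ρ = 1 ∨ ρ = X.t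
  h1 : x ∈ normalizer (X.T : Set G)
  h2 : x ∉ X.T
  h3 : x * x ∈ X.T
  h4 : x ∉ normalizer (X.E : Set G)

theorem TE (X : Fr G F) {u : G} (hu : u ∈ X.T) : u ∈ normalizer (X.E : Set G) :=
  mem_norm.2 fun y hy => by
    obtain ⟨i, hi⟩ := X.T_act hu
    obtain ⟨a, rfl | rfl⟩ := X.mem_E.1 hy
    · exact X.mem_E.2 ⟨_, Or.inl (hi a)⟩
    · exact X.mem_E.2 ⟨_, Or.inr (by rw [cj_mul, X.T_t hu, hi])⟩

theorem EVR (X : Fr G F) {u : G} (hu : u ∈ X.E) : u ∈ X.V ⊔ X.R := by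
  obtain ⟨a, rfl | rfl⟩ := X.mem_E.1 hu
  exacts [vVR X a, mul_mem (tVR X) (vVR X a)]

theorem sq_mul (u x : G) : u * x * (u * x) = u * cj x u * (x * x) := by simp [cj, mul_assoc]

theorem cj_swap {s w z : G} (ss : s * s = 1) (h : cj w s = s * z) : cj s w = z * w := by
  rw [eq_inv_mul_iff_mul_eq.2 h.symm, cj, cj, inv_eq_of_mul_eq_one_right ss]
  simp only [mul_assoc, inv_mul_cancel, mul_one]

namespace Sw

variable {X : Fr G F} {τ : F ≃+* F} {e x : G} (S : Sw X x)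
include S

theorem mul {u : G} (hu : u ∈ X.T) : Sw X (u * x) :=
  ⟨S.R2, mul_mem (le_normalizer hu) S.h1, fun h => S.h2 ((mul_mem_cancel_left hu).1 h),
    by rw [sq_mul]; exact mul_mem (mul_mem hu (mem_norm.1 S.h1 u hu)) S.h3,
    fun h => S.h4 ((mul_mem_cancel_left (TE X hu)).1 h)⟩

theorem iP : Idx X.T (adj X.T x) x := idx_adj S.h2 (mem_norm.1 S.h1) S.h3

theorem pgP : IsPGroup 2 (adj X.T x) := pg_idx S.iP X.pgT

variable (D : X.Q4 τ e)
include D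

theorem xz : cj x (X.v 1) = X.v 1 := fixz D S.R2 S.h1

theorem xt : cj x X.t = X.t * X.v 1 := by
  rcases Ncen D S.h1 (tT X) X.tt X.t1 fun y => X.T_t with h | h | h
  · exact absurd (X.infT S.pgP le_adj self_mem_adj h) S.h2
  · exact absurd (cj_inj x (h.trans (S.xz D).symm)) (tv X 1)
  · exact h

theorem Pz {p : G} (hp : p ∈ adj X.T x) : cj p (X.v 1) = X.v 1 := by
  rcases S.iP.cases hp with h | ⟨k, hk, rfl⟩
  · exact D.T_z h
  · rw [mul_cj, D.T_z hk, S.xz D]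

theorem cardT : Nat.card X.T = 16 := by rw [D.card_T, cardR X S.R2]

theorem cardP : Nat.card (adj X.T x) = 32 := by rw [S.iP.card, S.cardT D]

theorem nΩv (a : F) : ¬ X.Ω (X.v a) := fun h => by
  by_cases ha : a = 0
  · exact X.nΩ1 (by rwa [ha, X.v_zero] at h)
  obtain ⟨g, -, g2⟩ := v_cj X ha
  have := X.cardΩ ((X.Ω_cj g).1 (g2 ▸ h)) S.pgP fun p => S.Pz D
  rw [S.cardP D, S.cardT D] at this
  omega

theorem Ωtz : X.Ω (X.t * X.v 1) := by rw [← S.xt D, X.Ω_cj]; exact X.Ω_t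

theorem EB {u : G} (hu : u ∈ X.E) : cj x u ∈ closure {X.t, X.v 1, e} := by
  rcases D.eight S.R2 (B := cm x X.E) (fun y hy => by
      rw [← cj_inv_cj x y]; exact mem_norm.1 S.h1 _ (X.E_le_T (mem_cm.1 hy)))
    (fun y hy => by rw [← cj_inv_cj x y]; exact cj_sq (X.E_sq (mem_cm.1 hy)))
    (by rw [card_cm, X.card_E, D.four]) with h | h
  · exact absurd (mem_norm.2 fun y hy => h ▸ cj_mem_cm.2 hy) S.h4
  · exact h ▸ cj_mem_cm.2 hu

variable {ω : F} (hω : ω * ω = ω + 1)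
include hω

omit S D in
theorem ω0 : ω ≠ 0 := fun h => one_ne_zero (α := F) (by rw [h] at hω; linear_combination -hω)

omit S D in
theorem ω1 : ω ≠ 1 := fun h => one_ne_zero (α := F) (by rw [h] at hω; linear_combination -hω)

omit S in
theorem ew : e * X.v ω * (e * X.v ω) = X.v 1 := by
  rw [ev_sq D]; exact congrArg _ (by linear_combination hω + ω * X.char)

omit S in
theorem we : cj (X.v ω) e = e * X.v 1 := by
  rw [← ew D hω, cj, X.v_inv, ← mul_assoc, ← mul_assoc, ← mul_assoc, D.ee, one_mul]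

theorem nf0 (h : cj x (X.v ω) = e * X.v 1) : cj (X.v ω * x) (X.v ω) = e := by
  rw [mul_cj, h, cj_mul, we D hω, X.v_comm, mul_assoc, X.v_sq, mul_one]

theorem nf1 : ∃ e' x', X.Q4 τ e' ∧ Sw X x' ∧ cj x' (X.v ω) = e' := by
  have k : ¬ X.Ω (cj x (X.v ω)) := by rw [X.Ω_cj]; exact S.nΩv D ω
  rcases D.mem_B.1 (S.EB D (X.mem_E.2 ⟨ω, Or.inl rfl⟩)) with h | h | h | h | h | h | h | h
  · exact absurd (X.v_eq_one.1 (cj_eq_one.1 h)) (ω0 hω)
  · exact absurd (h ▸ X.Ω_t) k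
  · exact absurd (X.v_inj (cj_inj x (h.trans (S.xz D).symm))) (ω1 hω)
  · exact absurd (h ▸ S.Ωtz D) k
  · exact ⟨_, x, D, S, h⟩
  · exact ⟨_, x, D.tmul, S, h⟩
  · exact ⟨_, _, D, S.mul (vT X ω), S.nf0 D hω h⟩
  · exact ⟨_, _, D.tmul, S.mul (vT X ω), S.nf0 D.tmul hω (by rw [h, mul_assoc])⟩

theorem nf2 (h : cj x (X.v ω) = e) : ∃ x', Sw X x' ∧ cj x' (X.v ω) = e ∧ cj x' e = X.v ω := by
  by_cases h1 : x * x ∈ X.V ⊔ X.R
  · exact ⟨x, S, h, by rw [← h, ← mul_cj, VRc X h1 (vVR X ω)]⟩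
  · refine ⟨e * x, S.mul D.eT, by rw [mul_cj, h, cj_eq_iff], ?_⟩
    have : cj x e = cj e (X.v ω) := by rw [← out_cj D S.h3 h1 (vVR X ω), mul_cj, h]
    rw [mul_cj, this, ← mul_cj, D.ee, one_cj]

theorem nf3 (h : cj x (X.v ω) = e) (h' : cj x e = X.v ω) :
    ∃ x', Sw X x' ∧ cj x' (X.v ω) = e ∧ x' * x' = 1 := by
  by_cases h0 : x * x = 1
  · exact ⟨x, S, h, h0⟩
  have h1 : x * x ∈ X.V ⊔ X.R := by
    by_contra h1
    exact (cenV D (by rw [← out_cj D S.h3 h1 (vVR X ω), mul_cj, h, h'])).elim (ω0 hω) (ω1 hω)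
  obtain ⟨a, ha⟩ := memVR X S.R2 h1
  have h2 : cj x (x * x) = x * x := cj_eq_iff.2 (mul_assoc _ _ _).symm
  rcases cenE D h1 (X.E_sq (X.mem_E.2 ⟨a, ha⟩)) h0 (cj_comm.1 (by rw [mul_cj, h', h])) with
    h3 | h3 | h3
  · rw [h3, S.xt D, mul_eq_left] at h2
    exact absurd h2 (z1 X)
  · exact ⟨X.t * x, S.mul (tT X), by rw [mul_cj, h, cj_comm.1 D.e_t],
      by rw [sq_mul, S.xt D, X.ttu, h3, X.v_sq]⟩
  · rw [h3, cj_mul, S.xt D, S.xz D, mul_left_inj, mul_eq_left] at h2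
    exact absurd h2 (z1 X)

omit hω in
theorem cenP {y : G} (hy : y ∈ adj X.T x) (yy : y * y = 1) (y1 : y ≠ 1)
    (h : ∀ p ∈ adj X.T x, cj p y = y) : y = X.v 1 := by
  have hx := h x self_mem_adj
  rcases cenT D (X.infT S.pgP le_adj hy (cj_comm.1 (h _ (le_adj (tT X))))) yy y1
    fun p hp => h p (le_adj hp) with rfl | rfl | rfl
  · exact absurd (mul_eq_left.1 ((S.xt D).symm.trans hx)) (z1 X)
  · rfl
  · rw [cj_mul, S.xt D, S.xz D, mul_left_inj, mul_eq_left] at hx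
    exact absurd hx (z1 X)

omit hω in
theorem Pt {p : G} (hp : p ∈ adj X.T x) : cj p X.t = X.t ∨ cj p X.t = X.t * X.v 1 := by
  rcases S.iP.cases hp with h | ⟨k, hk, rfl⟩
  · exact Or.inl (X.T_t h)
  · exact Or.inr (by rw [mul_cj, X.T_t hk, S.xt D])

variable (xx : x * x = 1) (xw : cj x (X.v ω) = e)
include xx xw

omit S D hω in
theorem xe : cj x e = X.v ω := by rw [← xw, ← mul_cj, xx, one_cj]

omit xx in
theorem xv {a : F} (h : cj x (X.v a) ∈ X.V ⊔ X.R) : a = 0 ∨ a = 1 := by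
  by_contra hn
  obtain ⟨h0, h1⟩ := not_or.1 hn
  obtain ⟨η, -, -, -, hF⟩ := exists_omega D.four
  have c := X.char
  have : a = ω ∨ a = ω + 1 := by
    rcases hF ω with h2 | h2 | h2 | h2
    · exact absurd h2 (ω0 hω)
    · exact absurd h2 (ω1 hω)
    · rw [h2]; exact ((hF a).resolve_left h0).resolve_left h1
    · rw [h2, or_comm, add_assoc, one_add_one_eq_two, c, add_zero]
      exact ((hF a).resolve_left h0).resolve_left h1
  rcases this with rfl | rfl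
  · exact D.iT.nmem (xw ▸ h)
  · rw [X.v_add, cj_mul, xw, S.xz D, mul_mem_cancel_right (vVR X 1)] at h
    exact D.iT.nmem h

theorem cls {s : G} (hs : s ∈ adj X.T x) (hΩ : X.Ω s)
    (h : ∀ p ∈ adj X.T x, cj p s = s ∨ cj p s = s * X.v 1) : s = X.t ∨ s = X.t * X.v 1 := by
  have ss := X.sqΩ hΩ
  have k : ∀ u ∈ X.T, cj x u ∈ X.T := mem_norm.1 S.h1
  rcases S.iP.cases hs with h1 | ⟨u, hu, rfl⟩
  · have h2 : cj x s ∈ X.V ⊔ X.R ↔ s ∈ X.V ⊔ X.R := by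
      rcases h x self_mem_adj with h2 | h2 <;> rw [h2]
      exact mul_mem_cancel_right (vVR X 1)
    have xt : cj x X.t ∈ X.V ⊔ X.R := S.xt D ▸ mul_mem (tVR X) (vVR X 1)
    have h3 : s ∈ X.V ⊔ X.R := by
      rcases D.iT.cases h1 with h3 | ⟨u, hu, rfl⟩
      · exact h3
      refine h2.1 ?_
      have k2 : ∀ a : F, a = 0 ∨ a = 1 → cj x (X.v a) ∈ X.V ⊔ X.R := by
        rintro _ (rfl | rfl)
        · rw [X.v_zero, cj_one]; exact one_mem _
        · rw [S.xz D]; exact vVR X 1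
      rw [cj_mul, xe xx xw]
      refine mul_mem (vVR X ω) ?_
      obtain ⟨a, rfl | rfl⟩ := memVR X S.R2 hu
      · exact k2 a (ev_inv D ss)
      · rw [← mul_assoc e, cj_eq_iff.1 D.e_t] at ss
        rw [cj_mul]
        exact mul_mem xt (k2 a (ev_inv D.tmul ss))
    obtain ⟨a, rfl | rfl⟩ := memVR X S.R2 h3
    · exact absurd hΩ (S.nΩv D a)
    · have h4 := h2.2 h3
      rw [cj_mul, mul_mem_cancel_left xt] at h4
      rcases S.xv D hω xw h4 with rfl | rfl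
      · exact Or.inl (by rw [X.v_zero, mul_one])
      · exact Or.inr rfl
  · exfalso
    have h2 : cj (x * u) (X.v ω) ∈ X.V ⊔ X.R := by
      rcases h _ (le_adj (vT X ω)) with h2 | h2
      · rw [cj_comm.1 h2]; exact vVR X ω
      · rw [cj_swap ss h2]; exact mul_mem (vVR X 1) (vVR X ω)
    obtain ⟨i, hi⟩ := X.T_act hu
    rw [mul_cj, hi] at h2
    rcases S.xv D hω xw h2 with h3 | h3
    · exact ω0 hω ((map_eq_zero _).1 h3)
    · exact ω1 hω ((X.σ ^ i).injective (h3.trans (map_one _).symm))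

theorem syl : Syl (adj X.T x) ⊤ := by
  by_contra hn
  obtain ⟨g, -, g1, g2, g3⟩ := exists_grow S.pgP le_top hn
  have k : ∀ p ∈ adj X.T x, cj g⁻¹ p ∈ adj X.T x := mem_norm.1 (inv_mem g1)
  have gz : cj g (X.v 1) = X.v 1 := S.cenP D (mem_norm.1 g1 _ (le_adj (vT X 1)))
    (cj_sq (X.v_sq 1)) (mt cj_eq_one.1 (z1 X)) fun p hp => by
      rw [← cj_inv_cj g p, cj_cj, S.Pz D (k p hp)]
  have I := idx_adj g2 (mem_norm.1 g1) g3
  have inf : ∀ r ∈ adj (adj X.T x) g, cj r X.t = X.t → r ∈ adj X.T x := fun r hr h =>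
    le_adj (X.infT (pg_idx I S.pgP) (le_adj.trans le_adj) hr h)
  rcases S.cls D hω xx xw (mem_norm.1 g1 _ (le_adj (tT X))) ((X.Ω_cj g).2 X.Ω_t) fun p hp => by
      rw [← cj_inv_cj g p, cj_cj]
      exact (S.Pt D (k p hp)).imp (congrArg _) fun h => by rw [h, cj_mul, gz] with h | h
  · exact g2 (inf g self_mem_adj h)
  · exact g2 ((mul_mem_cancel_left self_mem_adj).1 (inf (x * g)
      (mul_mem (le_adj self_mem_adj) self_mem_adj)
      (by rw [mul_cj, h, cj_mul, S.xt D, S.xz D, tzz])))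

omit S D hω in
theorem r2 : X.v ω * x * (X.v ω * x) = X.v ω * e := by
  rw [mul_assoc, ← xw, cj, inv_eq_of_mul_eq_one_right xx, mul_assoc]

omit S xx xw in
theorem c2 : X.v ω * e * (X.v ω * e) = X.v 1 := by
  rw [← mul_assoc, show X.v ω * e * X.v ω = e * X.v 1 by rw [← we D hω, cj, X.v_inv],
    cj_eq_iff.1 (D.T_z D.eT), mul_assoc, D.ee, mul_one]

omit S in
theorem r4 : (X.v ω * x) ^ 4 = X.v 1 := by
  rw [show 4 = 2 * 2 from rfl, pow_mul, pow_two, pow_two, r2 xx xw, c2 D hω]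

theorem y2 : X.t * (X.v ω * x) * (X.t * (X.v ω * x)) = (X.v ω * e)⁻¹ := by
  rw [sq_mul, r2 xx xw, mul_cj, S.xt D, cj_mul, X.v_t, X.v_comm, X.ttu, eq_inv_iff_mul_eq_one,
    mul_assoc, c2 D hω, X.v_sq]

theorem y4 : (X.t * (X.v ω * x)) ^ 4 = X.v 1 := by
  rw [show 4 = 2 * 2 from rfl, pow_mul, pow_two, pow_two, S.y2 D hω xx xw, ← mul_inv_rev, c2 D hω,
    X.v_inv]

omit S D hω xw in
theorem wr : cj (X.v ω) (X.v ω * x) = (X.v ω * x)⁻¹ :=
  cj_eq_inv_of_sq (X.v_sq ω) (by rw [← mul_assoc (X.v ω), X.v_sq, one_mul, xx])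

theorem sd : SD (X.t * (X.v ω * x)) (X.v ω) :=
  ⟨ord8 (by rw [S.y4 D hω xx xw, X.v_sq]) (by rw [S.y4 D hω xx xw]; exact z1 X), X.v_sq ω, by
    rw [cj_mul, X.v_t, wr xx, pow_succ', pow_two, S.y2 D hω xx xw, ← r2 xx xw,
      mul_inv_rev (X.v ω * x), mul_assoc, mul_inv_cancel_left]⟩

theorem main : Four X.L := by
  have P := S.syl D hω xx xw
  have Q := S.sd D hω xx xw
  have wP : X.v ω ∈ adj X.T x := le_adj (vT X ω)
  have rP : X.v ω * x ∈ adj X.T x := mul_mem wP self_mem_adj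
  have yP : X.t * (X.v ω * x) ∈ adj X.T x := mul_mem (le_adj (tT X)) rP
  by_cases ht : X.t ∈ X.L
  · exfalso
    obtain ⟨s, hs, hΩ⟩ := X.thG ht P ((S.cardP D).trans (by rw [Q.card]))
    have ss := X.sqΩ hΩ
    have : s ∈ adj X.V e := adj_le (zpowers_le.2 (by
      rw [S.y2 D hω xx xw]; exact inv_mem (mul_mem (le_adj (X.v_mem_V ω)) self_mem_adj)))
      (le_adj (X.v_mem_V ω)) (Q.invol hs ss)
    have k : ¬ X.Ω e := by rw [← xw, X.Ω_cj]; exact S.nΩv D ω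
    rcases (iD D).cases this with h | ⟨u, h, rfl⟩ <;> obtain ⟨a, rfl⟩ := X.mem_V.1 h
    · exact S.nΩv D a hΩ
    · rcases ev_inv D ss with rfl | rfl
      · exact k (by rwa [X.v_zero, mul_one] at hΩ)
      · exact k ((Ωez D).1 hΩ)
  have eL : e ∈ X.L := by rw [← xw, X.L_cj]; exact vL X ω
  have I : Idx (adj X.T x ⊓ X.L) (adj X.T x) X.t := ⟨inf_le_left, le_adj (tT X), fun h => ht h.2,
    fun g hg => (X.top g).imp (fun h => ⟨hg, h⟩) fun h => by
      rw [X.tinv]; exact ⟨mul_mem (le_adj (tT X)) hg, h⟩⟩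
  have key : ∀ y ∈ adj X.T x, y ∈ X.L → Nat.card (adj (zpowers y) (X.v ω)) = 16 →
      Syl (adj (zpowers y) (X.v ω)) X.L := fun y h1 h2 h3 => by
    have := I.card
    rw [S.cardP D] at this
    rw [eq_of_le_of_card_ge (adj_le (zpowers_le.2 (mem_inf.2 ⟨h1, h2⟩)) (mem_inf.2 ⟨wP, vL X ω⟩))
      (by omega)]
    exact X.syl_L P
  rcases X.top (X.v ω * x) with h | h
  · have o : orderOf (X.v ω * x) = 8 :=
      ord8 (by rw [r4 D hω xx xw, X.v_sq]) (by rw [r4 D hω xx xw]; exact z1 X)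
    have J := idxz (k := -1) (X.v_sq ω) (by rw [wr xx, zpow_neg_one]) (y := X.v ω * x) fun h => by
      rw [wr xx, inv_eq_iff_mul_eq_one, ← pow_two, ← orderOf_dvd_iff_pow_eq_one, o] at h
      omega
    have c : Nat.card (adj (zpowers (X.v ω * x)) (X.v ω)) = 16 := by
      rw [J.card, Nat.card_zpowers, o]
    have o' : orderOf (⟨_, J.le (mem_zpowers _)⟩ : adj (zpowers (X.v ω * x)) (X.v ω)) = 8 := by
      rw [← orderOf_coe]; exact o
    refine D.four_of_dih ht eL (key _ rP h c) (n := 8) (by norm_num) ?_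
    rw [← o']
    refine H29.dihedral_of_inverted (s := ⟨_, J.mem⟩) (fun d => by simp [d] at o')
      (fun ⟨n, d⟩ => J.nmem ⟨n, congrArg Subtype.val d⟩) (Subtype.ext (X.v_sq ω)) (Subtype.ext ?_)
      (by rw [c, o'])
    change X.v ω * (X.v ω * x) * (X.v ω * (X.v ω * x)) = 1
    rw [← mul_assoc (X.v ω), X.v_sq, one_mul, xx]
  · refine D.aut3 ht eL (key _ yP h Q.card) (fun s hs => S.Pz D (adj_le (zpowers_le.2 yP) wP hs))
      (Or.inl Q.qd) (a := ω) (fun h => (idem h).elim (ω0 hω) (ω1 hω)) fun U hU h1 h2 => ?_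
    have := Q.quat hU (by rwa [S.y4 D hω xx xw]) h2
    rwa [S.y2 D hω xx xw, inv_mem_iff] at this

end Sw

end QW

open Matrix MatrixGroups

theorem Fr.Q4.swap {X : Fr G F} {τ : F ≃+* F} {e : G} (D : X.Q4 τ e)
    (h : ∀ ρ ∈ X.R, ρ = 1 ∨ ρ = X.t) {x : G} (h1 : x ∈ normalizer (X.T : Set G)) (h2 : x ∉ X.T)
    (h3 : x * x ∈ X.T) (h4 : x ∉ normalizer (X.E : Set G)) : Four X.L := by
  obtain ⟨ω, hω, -⟩ := exists_omega D.four
  obtain ⟨e, x, D, S, h⟩ := QW.Sw.nf1 ⟨h, h1, h2, h3, h4⟩ D hω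
  obtain ⟨x, S, h, h'⟩ := S.nf2 D hω h
  obtain ⟨x, S, h, xx⟩ := S.nf3 D hω h h'
  exact S.main D hω xx h

end H25.L2
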