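import Cfsg.Agent.Lib.L2S.WrA

/-!
The swap element of the double case: a norm-one scalar commutes with its conjugate.
-/

set_option autoImplicit false

namespace H25.L2

open Subgroup H4.YM H4.TL Matrix MatrixGroups

namespace WrB

variable {F : Type*} [Field F]

theorem exists_p0 (h : (2 : F) = 0) {τ : F ≃+* F} (h1 : τ ≠ 1) (h2 : ∀ a, τ (τ a) = a) :
    ∃ p : F, τ p = p + 1 := by
  obtain ⟨c, hc⟩ : ∃ c, τ c ≠ c := by
    by_contra hn
    push Not at hn
    exact h1 (RingEquiv.ext hn)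
  have hs : c + τ c ≠ 0 := by
    intro h0
    apply hc
    linear_combination h0 - c * h
  refine ⟨c / (c + τ c), ?_⟩
  rw [map_div₀, map_add, h2, add_comm (τ c) c]
  field_simp
  linear_combination (-c) * h

theorem as_root [Finite F] (h : (2 : F) = 0) {τ : F ≃+* F} {p0 : F}
    (hp : τ p0 = p0 + 1) {w : F} (hw : τ w = w) :
    ∃ y, y * y + y = w ∧ (τ y = y ∨ τ y = y + 1) := by
  classical
  have := Fintype.ofFinite F
  set S : Finset F := Finset.univ.filter (fun a => τ a = a) with hS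
  have mS : ∀ a, a ∈ S ↔ τ a = a := fun a => by simp [hS]
  set T : Finset F := S ∪ S.image (· + p0) with hT
  have mT : ∀ a ∈ T, τ a = a ∨ τ a = a + 1 := by
    intro a ha
    rcases Finset.mem_union.1 ha with ha | ha
    · exact Or.inl ((mS a).1 ha)
    · obtain ⟨b, hb, rfl⟩ := Finset.mem_image.1 ha
      right
      rw [map_add, (mS b).1 hb, hp, add_assoc]
  have cT : T.card = 2 * S.card := by
    rw [hT, Finset.card_union_of_disjoint, Finset.card_image_of_injective _ (add_left_injective p0),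
      two_mul]
    rw [Finset.disjoint_left]
    intro a ha hb
    obtain ⟨b, hb', rfl⟩ := Finset.mem_image.1 hb
    have h1 := (mS _).1 ha
    rw [map_add, (mS b).1 hb', hp] at h1
    exact one_ne_zero (by linear_combination h1 : (1 : F) = 0)
  have hle : T.card ≤ 2 * (T.image (fun y => y * y + y)).card := by
    refine Finset.card_le_mul_card_image T 2 ?_
    intro a ha
    obtain ⟨y, -, rfl⟩ := Finset.mem_image.1 ha
    refine le_trans (Finset.card_le_card ?_) (Finset.card_le_two (a := y) (b := y + 1))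
    intro z hz
    have hz' : z * z + z = y * y + y := (Finset.mem_filter.1 hz).2
    have : (z - y) * (z - (y + 1)) = 0 := by
      linear_combination hz' + (y * y + y - z * y - z) * h
    rcases mul_eq_zero.1 this with h1 | h1
    · simp [sub_eq_zero.1 h1]
    · simp [sub_eq_zero.1 h1]
  have hsub : T.image (fun y => y * y + y) ⊆ S := by
    intro a ha
    obtain ⟨y, hy, rfl⟩ := Finset.mem_image.1 ha
    rw [mS, map_add, map_mul]
    rcases mT y hy with h1 | h1 <;> rw [h1]
    linear_combination (y + 1) * h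
  have heq := Finset.eq_of_subset_of_card_le hsub (by omega)
  have hwS : w ∈ T.image (fun y => y * y + y) := by rw [heq]; exact (mS w).2 hw
  obtain ⟨y, hy, rfl⟩ := Finset.mem_image.1 hwS
  exact ⟨y, rfl, mT y hy⟩

/-- the operator `(a + b f) + (a' + b' f) P` with `P (u, v) = (r v, u + v)` -/
def el (τ : F ≃+* F) (r a b a' b' : F) (v : F × F) : F × F :=
  (a * v.1 + b * τ v.1 + (a' * (r * v.2) + b' * (r * τ v.2)),
    a * v.2 + b * τ v.2 + (a' * (v.1 + v.2) + b' * (τ v.1 + τ v.2)))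

/-- the operator lies in `N` -/
def In (τ : F ≃+* F) (N : Subgroup (Equiv.Perm (F × F))) (r a b a' b' : F) : Prop :=
  ∃ n ∈ N, ∀ v, n v = el τ r a b a' b' v

variable {h : (2 : F) = 0} {τ : F ≃+* F} {N : Subgroup (Equiv.Perm (F × F))} {r : F}

theorem In.of_eq {a b a' b' c d c' d' : F} (H : In τ N r a b a' b') (e1 : a = c) (e2 : b = d)
    (e3 : a' = c') (e4 : b' = d') : In τ N r c d c' d' := by
  subst e1 e2 e3 e4; exact H

theorem In.mul (h2 : ∀ a, τ (τ a) = a) (hr : τ r = r) {a b a' b' c d c' d' : F}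
    (H : In τ N r a b a' b') (H' : In τ N r c d c' d') :
    In τ N r (a * c + b * τ d + r * (a' * c' + b' * τ d'))
      (a * d + b * τ c + r * (a' * d' + b' * τ c'))
      (a * c' + b * τ d' + (a' * c + b' * τ d) + (a' * c' + b' * τ d'))
      (a * d' + b * τ c' + (a' * d + b' * τ c) + (a' * d' + b' * τ c')) := by
  obtain ⟨n, hn, e⟩ := H
  obtain ⟨m, hm, e'⟩ := H'
  refine ⟨n * m, N.mul_mem hn hm, fun v => ?_⟩
  rw [Equiv.Perm.mul_apply, e, e']
  simp only [el, map_add, map_mul, h2, hr, Prod.mk.injEq]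
  constructor <;> ring

theorem tb_app (v : F × F) : tb h v = (v.1 + v.2, v.2) := rfl

theorem In.conj (L : Lin h τ N) {a b a' b' : F} (H : In τ N r a b a' b') :
    In τ N r (a + a') (b + b') a' b' := by
  obtain ⟨n, hn, e⟩ := H
  refine ⟨tb h * n * tb h, N.mul_mem (N.mul_mem L.tN hn) L.tN, fun v => ?_⟩
  rw [Equiv.Perm.mul_apply, Equiv.Perm.mul_apply, e]
  simp only [el, tb_app, map_add, Prod.mk.injEq]
  constructor
  · linear_combination (a * v.2 + b * τ v.2 + a' * v.2 + b' * τ v.2) * h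
  · ring

theorem no_mix (L : Lin h τ N) {p0 : F} (hp : τ p0 = p0 + 1) {α β : F}
    (H : In τ N r α β 0 0) : (α = 0 ∧ β ≠ 0) ∨ (β = 0 ∧ α ≠ 0) := by
  obtain ⟨n, hn, e⟩ := H
  have hc : cj n (tb h) = tb h := by
    unfold cj
    rw [mul_inv_eq_iff_eq_mul]
    refine Equiv.ext fun v => ?_
    rw [Equiv.Perm.mul_apply, Equiv.Perm.mul_apply, e, e]
    simp only [el, tb_app, map_add, Prod.mk.injEq]
    constructor <;> ring
  obtain ⟨k, ψ, l, hk, -⟩ := L.cen n hn hc
  have h2 : ∀ c, α * c + β * τ c = k * ψ c := fun c => by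
    have h1 := congrArg Prod.snd ((e (0, c)).symm.trans (hk 0 c))
    simpa [el] using h1
  have hk1 : α + β = k := by simpa using h2 1
  have hk0 : (k : F) ≠ 0 := k.ne_zero
  have hfix : ψ (p0 * p0 + p0) = p0 * p0 + p0 := by
    have h1 := h2 (p0 * p0 + p0)
    have h3 : τ (p0 * p0 + p0) = p0 * p0 + p0 := by
      rw [map_add, map_mul, hp]; linear_combination (p0 + 1) * h
    rw [h3] at h1
    apply mul_left_cancel₀ hk0
    rw [← h1, ← hk1]; ring
  rw [map_add, map_mul] at hfix
  have h4 : (ψ p0 - p0) * (ψ p0 - (p0 + 1)) = 0 := by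
    linear_combination hfix + (p0 * p0 + p0 - ψ p0 * p0 - ψ p0) * h
  have h5 := h2 p0
  rw [hp, ← hk1] at h5
  rcases mul_eq_zero.1 h4 with h6 | h6
  · rw [sub_eq_zero.1 h6] at h5
    have hb : β = 0 := by linear_combination h5
    refine Or.inr ⟨hb, fun ha => hk0 ?_⟩
    rw [← hk1, ha, hb, add_zero]
  · rw [sub_eq_zero.1 h6] at h5
    have ha : α = 0 := by linear_combination -h5
    refine Or.inl ⟨ha, fun hb => hk0 ?_⟩
    rw [← hk1, ha, hb, add_zero]

theorem In.scal (L : Lin h τ N) {k : F} (hk : k ≠ 0) : In τ N r k 0 0 0 :=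
  ⟨hb (Units.mk0 k hk), L.hN _, fun v => by simp [el, hb]⟩

theorem In.scalf (L : Lin h τ N) {k : F} (hk : k ≠ 0) : In τ N r 0 k 0 0 :=
  ⟨hb (Units.mk0 k hk) * fb τ, N.mul_mem (L.hN _) L.fN, fun v => by simp [el, hb, fb]⟩

/-- the semilinear part of `J` vanishes -/
theorem gamma_zero [Finite F] (L : Lin h τ N) (big : 16 ≤ Nat.card F) (hr : τ r = r) {p γ : F}
    (hp : τ p = p + 1) (hγ : τ γ = γ) (hJ : ∀ μ, τ μ = μ → In τ N r (μ + p) γ 1 0) : γ = 0 := by
  by_contra hγ0
  have h2 : ∀ a, τ (τ a) = a := fun a => by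
    have := congrArg (fun σ : F ≃+* F => σ a) L.ττ
    simpa using this
  obtain ⟨z, hz, hz' | hz'⟩ := as_root h hp hr
  · have hd : p + z + 1 ≠ 0 := by
      intro h0
      have h1 := congrArg τ h0
      rw [map_add, map_add, hp, hz', map_one, map_zero] at h1
      exact one_ne_zero (by linear_combination h1 - h0 : (1 : F) = 0)
    have g := (In.scal (r := r) L hd).mul h2 hr (hJ 0 (map_zero τ))
    have g2 := g.mul h2 hr g
    have g3 := g2.mul h2 hr (g2.conj L)
    have g4 : In τ N r (((p + z) * (p + z + 1)) * ((p + z) * (p + z + 1) + γ * γ) *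
          (((p + z) * (p + z + 1)) * ((p + z) * (p + z + 1) + γ * γ) + (p + z + 1) * (p + z + 1)))
        (((p + z) * (p + z + 1)) * ((p + z) * (p + z + 1) + γ * γ) * (γ * (p + z + 1))) 0 0 := by
      refine g3.of_eq ?_ ?_ ?_ ?_ <;>
        simp only [map_add, map_mul, map_zero, map_one, hp, hz', hγ, ← hz] <;> grind
    rcases no_mix L hp g4 with ⟨h3, h4⟩ | ⟨h3, h4⟩
    · rcases mul_eq_zero.1 h3 with h5 | h5
      · exact h4 (by rw [h5, zero_mul])
      · have h6 := congrArg τ h5
        simp only [map_add, map_mul, map_zero, map_one, hp, hz', hγ] at h6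
        grind
    · rcases mul_eq_zero.1 h3 with h5 | h5
      · exact h4 (by rw [h5, zero_mul])
      · exact mul_ne_zero hγ0 hd h5
  · obtain ⟨y, hy, hy' | hy'⟩ := as_root h hp (w := γ * γ) (by rw [map_mul, hγ])
    · have f1 : τ (p + z + y) = p + z + y := by
        rw [map_add, map_add, hp, hz', hy']; linear_combination h
      have f2 : τ (p + z + y + 1) = p + z + y + 1 := by rw [map_add, f1, map_one]
      have g := (hJ _ f1).mul h2 hr (hJ _ f2)
      have g4 : In τ N r 0 0 0 0 := by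
        refine g.of_eq ?_ ?_ ?_ ?_ <;>
          simp only [map_add, map_zero, map_one, hp, hz', hy', hγ, ← hz] <;> grind
      rcases no_mix L hp g4 with ⟨-, h4⟩ | ⟨-, h4⟩ <;> exact h4 rfl
    · have hy0 : y ≠ 0 := by
        rintro rfl
        rw [map_zero, zero_add] at hy'
        exact zero_ne_one hy'
      have key : ∀ κ, τ κ = κ → κ * κ + κ + r = 1 := by
        intro κ hκ
        have f1 : τ (κ + p + y + 1) = κ + p + y + 1 := by
          rw [map_add, map_add, map_add, hp, hκ, hy', map_one]; linear_combination h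
        have f2 : τ (κ + p + y) = κ + p + y := by
          rw [map_add, map_add, hp, hκ, hy']; linear_combination h
        have g := (hJ _ f1).mul h2 hr ((In.scalf (r := r) L hy0).mul h2 hr (hJ _ f2))
        have g1 : In τ N r (γ * κ) ((κ * κ + r) * y) γ y := by
          refine g.of_eq ?_ ?_ ?_ ?_ <;>
            simp only [map_add, map_mul, map_zero, map_one, hp, hy', hγ, hκ, hr] <;> grind
        have g3 := g1.mul h2 hr (g1.conj L)
        have g4 : In τ N r (γ * γ * ((κ * κ + κ + r) * (κ * κ + κ + r + 1)))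
            (γ * y * (κ * κ + κ + r)) 0 0 := by
          refine g3.of_eq ?_ ?_ ?_ ?_ <;>
            simp only [map_add, map_mul, hy', hγ, hκ, hr] <;> grind
        rcases no_mix L hp g4 with ⟨h3, h4⟩ | ⟨h3, h4⟩
        · rcases mul_eq_zero.1 h3 with h5 | h5
          · exact absurd h5 (mul_ne_zero hγ0 hγ0)
          · rcases mul_eq_zero.1 h5 with h6 | h6
            · exact absurd (by rw [h6, mul_zero]) h4
            · linear_combination h6 - h
        · rcases mul_eq_zero.1 h3 with h5 | h5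
          · exact absurd h5 (mul_ne_zero hγ0 hy0)
          · exact absurd (by rw [h5, zero_mul, mul_zero]) h4
      have two : ∀ κ, τ κ = κ → κ = 0 ∨ κ = 1 := by
        intro κ hκ
        have h1 := key κ hκ
        have h0 := key 0 (map_zero τ)
        have : κ * (κ - 1) = 0 := by linear_combination h1 - h0 - κ * h
        rcases mul_eq_zero.1 this with h3 | h3
        · exact Or.inl h3
        · exact Or.inr (sub_eq_zero.1 h3)
      classical
      have hsub : (Set.univ : Set F) ⊆ (({0, 1, p, p + 1} : Finset F) : Set F) := by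
        intro a _
        have f1 : τ (a + τ a) = a + τ a := by rw [map_add, h2, add_comm]
        have f0 : τ (a + (a + τ a) * p) = a + (a + τ a) * p := by
          rw [map_add, map_mul, f1, hp]; linear_combination (τ a) * h
        simp only [Finset.coe_insert, Finset.coe_singleton, Set.mem_insert_iff,
          Set.mem_singleton_iff]
        rcases two _ f1 with h3 | h3 <;> rcases two _ f0 with h4 | h4 <;> rw [h3] at h4
        · left; linear_combination h4
        · right; left; linear_combination h4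
        · right; right; left; linear_combination h4 - p * h
        · right; right; right; linear_combination h4 - p * h
      have hle := Set.ncard_le_ncard hsub (Set.toFinite _)
      rw [Set.ncard_univ, Set.ncard_coe_finset] at hle
      have := Finset.card_le_four (a := (0 : F)) (b := 1) (c := p) (d := p + 1)
      omega

/-- the conjugate of the scalars -/
def ε (x : Equiv.Perm (F × F)) (k : F) (v : F × F) : F × F := x (k • x⁻¹ v)

variable {x : Equiv.Perm (F × F)}

theorem ε_cj (k : Fˣ) (v : F × F) : cj x (hb k) v = ε x k v := rfl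

theorem ε_mul (k l : F) (v : F × F) : ε x (k * l) v = ε x k (ε x l v) := by
  simp [ε, mul_smul]

theorem ε_one (v : F × F) : ε x 1 v = v := by simp [ε]

theorem ε_addk (H : Swp h τ N x) (k l : F) (v : F × F) : ε x (k + l) v = ε x k v + ε x l v := by
  simp only [ε, add_smul, H.add x H.xN]

theorem ε_addv (H : Swp h τ N x) (k : F) (v w : F × F) : ε x k (v + w) = ε x k v + ε x k w := by
  simp only [ε, H.add _ (N.inv_mem H.xN), smul_add, H.add x H.xN]

theorem ε_mem (H : Swp h τ N x) {k : F} (hk : k ≠ 0) : ∃ n ∈ N, ∀ v, n v = ε x k v :=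
  ⟨cj x (hb (Units.mk0 k hk)), N.mul_mem (N.mul_mem H.xN (H.hN _)) (N.inv_mem H.xN), fun _ => rfl⟩

theorem ε_sc (H : Swp h τ N x) {k : F} (hk : τ k = k) :
    ∃ k', τ k' = k' ∧ ∀ v, ε x k v = k' • v := by
  by_cases h0 : k = 0
  · refine ⟨0, map_zero τ, fun v => ?_⟩
    have h1 := H.add x H.xN 0 0
    rw [add_zero, left_eq_add] at h1
    simp [ε, h0, h1]
  · obtain ⟨k', h1, h2⟩ := H.xh (Units.mk0 k h0) hk
    refine ⟨k', h1, fun v => ?_⟩
    have := ε_cj (x := x) (Units.mk0 k h0) v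
    rw [h2] at this
    exact this.symm

theorem ε_sc' [Finite F] (H : Swp h τ N x) {μ : F} (hμ : τ μ = μ) :
    ∃ k, τ k = k ∧ ∀ v, ε x k v = μ • v := by
  choose g hg1 hg2 using fun k : {k : F // τ k = k} => ε_sc H k.2
  have inj : Function.Injective (fun k => (⟨g k, hg1 k⟩ : {k : F // τ k = k})) := by
    intro k l e
    have e' : g k = g l := congrArg Subtype.val e
    have h1 := (hg2 k (x (1, 0))).trans (e' ▸ (hg2 l (x (1, 0))).symm)
    simp only [ε, Equiv.Perm.coe_inv, Equiv.symm_apply_apply, EmbeddingLike.apply_eq_iff_eq] at h1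
    exact Subtype.ext (by simpa using h1)
  obtain ⟨k, hk⟩ := Finite.injective_iff_surjective.1 inj ⟨μ, hμ⟩
  exact ⟨k, k.2, fun v => by rw [hg2, show g k = μ from congrArg Subtype.val hk]⟩

theorem ε_lin [Finite F] (H : Swp h τ N x) (k : F) {μ : F} (hμ : τ μ = μ) (v : F × F) :
    ε x k (μ • v) = μ • ε x k v := by
  obtain ⟨l, -, e⟩ := ε_sc' H hμ
  rw [← e, ← e, ← ε_mul, ← ε_mul, mul_comm]

theorem ε_f (H : Swp h τ N x) (k : F) (v : F × F) :
    ε x k (fb τ v) = fb τ (ε x (τ k) v) := by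
  have h2 : ∀ a, τ (τ a) = a := fun a => by
    have := congrArg (fun σ : F ≃+* F => σ a) H.ττ
    simpa using this
  have e : x * fb τ = fb τ * x := mul_inv_eq_iff_eq_mul.1 H.xf
  have e1 : ∀ w, x (fb τ w) = fb τ (x w) := fun w => congrArg (fun σ : Equiv.Perm _ => σ w) e
  obtain ⟨w, rfl⟩ := x.surjective v
  rw [← e1]
  simp only [ε, Equiv.Perm.coe_inv, Equiv.symm_apply_apply]
  rw [← e1]
  congr 1
  simp [fb, h2]

theorem ε_t (H : Swp h τ N x) (k : F) (v : F × F) :
    ε x k (tb h v) = tb h (ε x (τ k) v) := by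
  have h2 : ∀ a, τ (τ a) = a := fun a => by
    have := congrArg (fun σ : F ≃+* F => σ a) H.ττ
    simpa using this
  have e : x * tb h = tb h * fb τ * x := mul_inv_eq_iff_eq_mul.1 H.xt
  have e1 : ∀ w, x (tb h w) = tb h (fb τ (x w)) :=
    fun w => congrArg (fun σ : Equiv.Perm _ => σ w) e
  have e2 : ∀ w, ε x k (tb h (fb τ w)) = tb h (fb τ (ε x k w)) := by
    intro v
    obtain ⟨w, rfl⟩ := x.surjective v
    rw [← e1]
    simp only [ε, Equiv.Perm.coe_inv, Equiv.symm_apply_apply]
    rw [← e1]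
    congr 1
    simp [tb_app, mul_add]
  have e3 : fb τ (fb τ v) = v := by simp [fb, h2]
  have e4 := e2 (fb τ v)
  rw [e3, ε_f H] at e4
  rw [e4]
  congr 1
  simp [fb, h2]

/-- the shape of `J` -/
theorem shape [Finite F] (H : Swp h τ N x) {p0 : F} (hp : τ p0 = p0 + 1) :
    ∃ r p γ : F, τ r = r ∧ τ p = p + 1 ∧ τ γ = γ ∧ ∀ v, ε x p0 v = el τ r p γ 1 0 v := by
  have h2 : ∀ a, τ (τ a) = a := fun a => by
    have := congrArg (fun σ : F ≃+* F => σ a) H.ττ
    simpa using this
  obtain ⟨⟨α, β⟩, hJ⟩ : ∃ w, ε x p0 (0, p0) = w := ⟨_, rfl⟩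
  have jf : ∀ v, ε x p0 (fb τ v) = fb τ (ε x p0 v + v) := fun v => by
    rw [ε_f H, hp, ε_addk H, ε_one]
  have jt : ∀ v, ε x p0 (tb h v) = tb h (ε x p0 v + v) := fun v => by
    rw [ε_t H, hp, ε_addk H, ε_one]
  have j01 : ε x p0 (0, 1) = (α + τ α, β + τ β + p0 + 1) := by
    have h1 := jf (0, p0)
    have h3 : fb τ ((0, p0) : F × F) = (0, p0) + (0, 1) := by simp [fb, hp]
    rw [h3, ε_addv H, hJ, ← eq_sub_iff_add_eq'] at h1
    rw [h1]
    simp only [fb, Equiv.coe_fn_mk, Prod.mk_add_mk, Prod.mk_sub_mk, map_add, hp, Prod.mk.injEq,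
      map_zero]
    constructor <;> grind
  have jp0 : ε x p0 (p0, 0) = (β + p0, p0) := by
    have h1 := jt (0, p0)
    have h3 : tb h ((0, p0) : F × F) = (0, p0) + (p0, 0) := by simp [tb_app]
    rw [h3, ε_addv H, hJ, ← eq_sub_iff_add_eq'] at h1
    rw [h1]
    simp only [tb_app, Prod.mk_add_mk, Prod.mk_sub_mk, Prod.mk.injEq]
    constructor <;> grind
  have j10 : ε x p0 (1, 0) = (β + τ β + p0, 1) := by
    have h1 := jt (0, 1)
    have h3 : tb h ((0, 1) : F × F) = (0, 1) + (1, 0) := by simp [tb_app]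
    rw [h3, ε_addv H, j01, ← eq_sub_iff_add_eq'] at h1
    rw [h1]
    simp only [tb_app, Prod.mk_add_mk, Prod.mk_sub_mk, Prod.mk.injEq]
    constructor <;> grind
  obtain ⟨γ, hγ⟩ : ∃ γ, γ = β + (β + τ β) * p0 + p0 * p0 + p0 := ⟨_, rfl⟩
  obtain ⟨δ, hδ⟩ : ∃ δ, δ = α + (α + τ α) * p0 := ⟨_, rfl⟩
  obtain ⟨p, hpp⟩ : ∃ p, p = p0 + (β + τ β) + γ := ⟨_, rfl⟩
  obtain ⟨r, hr⟩ : ∃ r, r = α + τ α + δ := ⟨_, rfl⟩
  have fγ : τ γ = γ := by rw [hγ]; simp only [map_add, map_mul, h2, hp]; grind
  have fδ : τ δ = δ := by rw [hδ]; simp only [map_add, map_mul, h2, hp]; grind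
  have fr : τ r = r := by rw [hr]; simp only [map_add, h2, fδ]; ring
  have fp : τ p = p + 1 := by rw [hpp]; simp only [map_add, h2, fγ, hp]; ring
  have gen : ∀ a c, ε x p0 (a, c) =
      (p * a + r * c + γ * τ a + δ * τ c, a + (p + 1) * c + γ * τ c) := by
    intro a c
    have f1 : ∀ a, τ (a + τ a) = a + τ a := fun a => by rw [map_add, h2, add_comm]
    have f0 : ∀ a, τ (a + (a + τ a) * p0) = a + (a + τ a) * p0 := fun a => by
      rw [map_add, map_mul, f1, hp]; linear_combination (τ a) * h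
    have dec : ((a, c) : F × F) = (a + (a + τ a) * p0) • ((1, 0) : F × F) +
        (a + τ a) • ((p0, 0) : F × F) + ((c + (c + τ c) * p0) • ((0, 1) : F × F) +
        (c + τ c) • ((0, p0) : F × F)) := by
      simp only [Prod.smul_mk, smul_eq_mul, Prod.mk_add_mk, Prod.mk.injEq]
      constructor <;> grind
    rw [dec, ε_addv H, ε_addv H, ε_addv H, ε_lin H _ (f0 a), ε_lin H _ (f0 c), ε_lin H _ (f1 a),
      ε_lin H _ (f1 c), j01, j10, jp0, hJ, hr, hpp, hδ, hγ]
    simp only [Prod.smul_mk, smul_eq_mul, Prod.mk_add_mk, Prod.mk.injEq]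
    constructor <;> grind
  obtain ⟨c', -, hc'⟩ := ε_sc H (k := p0 * p0 + p0)
    (by rw [map_add, map_mul, hp]; linear_combination (p0 + 1) * h)
  have hδ0 : δ = 0 := by
    have h1 := hc' (1, 0)
    have h3 := hc' (p, 0)
    rw [ε_addk H, ε_mul, gen, gen] at h1 h3
    have h4 := congrArg Prod.fst h1
    have h5 := congrArg Prod.fst h3
    simp only [map_add, map_mul, map_zero, map_one, fγ, fδ, fr, fp, Prod.fst_add, Prod.smul_mk,
      smul_eq_mul] at h4 h5
    clear hγ hδ hpp hr
    grind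
  refine ⟨r, p, γ, fr, fp, fγ, fun v => ?_⟩
  rw [show v = (v.1, v.2) from rfl, gen, hδ0]
  simp only [el, Prod.mk.injEq]
  constructor <;> ring

end WrB

variable {G : Type*} [Group G] [Finite G] {F : Type*} [Field F] [Finite F]

theorem Swp.comm {h : (2 : F) = 0} {τ : F ≃+* F} {N : Subgroup (Equiv.Perm (F × F))}
    {x : Equiv.Perm (F × F)} (H : Swp h τ N x) :
    ∃ k : Fˣ, k ≠ 1 ∧ (k : F) * τ k = 1 ∧ hb k * cj x (hb k) = cj x (hb k) * hb k := by
  have h2 : ∀ a, τ (τ a) = a := fun a => by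
    have := congrArg (fun σ : F ≃+* F => σ a) H.ττ
    simpa using this
  obtain ⟨p0, hp0⟩ := WrB.exists_p0 h H.τ1 h2
  obtain ⟨r, p, γ, hr, hp, hγ, hJ⟩ := WrB.shape H hp0
  have hne : ∀ k, τ k = k → k + p0 ≠ 0 := by
    intro k hk h0
    have h1 := congrArg τ h0
    rw [map_add, hk, hp0, map_zero] at h1
    exact one_ne_zero (by linear_combination h1 - h0 : (1 : F) = 0)
  have hγ0 : γ = 0 := by
    refine WrB.gamma_zero H.toLin H.big hr hp hγ fun μ hμ => ?_
    obtain ⟨k, hk, e⟩ := WrB.ε_sc' H hμ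
    obtain ⟨n, hn, e'⟩ := WrB.ε_mem H (hne k hk)
    refine ⟨n, hn, fun v => ?_⟩
    rw [e', WrB.ε_addk H, e, hJ]
    simp only [WrB.el, Prod.ext_iff, Prod.fst_add, Prod.snd_add, Prod.smul_fst, Prod.smul_snd,
      smul_eq_mul]
    constructor <;> ring
  have lin : ∀ k l : F, ∀ v, WrB.ε x k (l • v) = l • WrB.ε x k v := by
    intro k l v
    have f1 : τ (k + τ k) = k + τ k := by rw [map_add, h2, add_comm]
    have f0 : τ (k + (k + τ k) * p0) = k + (k + τ k) * p0 := by
      rw [map_add, map_mul, f1, hp0]; linear_combination (τ k) * h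
    have dec : k = (k + (k + τ k) * p0) + (k + τ k) * p0 := by
      linear_combination (-((k + τ k) * p0)) * h
    obtain ⟨k0, -, e0⟩ := WrB.ε_sc H f0
    obtain ⟨k1, -, e1⟩ := WrB.ε_sc H f1
    rw [dec, WrB.ε_addk H, WrB.ε_addk H _ _ v, WrB.ε_mul, WrB.ε_mul, e0, e0, e1, e1, hJ, hJ, hγ0]
    simp only [WrB.el, Prod.ext_iff, Prod.fst_add, Prod.snd_add, Prod.smul_fst, Prod.smul_snd,
      smul_eq_mul]
    constructor <;> ring
  have a0 : p0 ≠ 0 := by simpa using hne 0 (map_zero τ)
  have a1 : p0 + 1 ≠ 0 := by rw [add_comm]; exact hne 1 (map_one τ)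
  refine ⟨Units.mk0 (p0 / (p0 + 1)) (div_ne_zero a0 a1), ?_, ?_, ?_⟩
  · intro e
    have e' : p0 / (p0 + 1) = 1 := congrArg Units.val e
    rw [div_eq_one_iff_eq a1] at e'
    exact one_ne_zero (by linear_combination -e' : (1 : F) = 0)
  · have : p0 + 1 + 1 = p0 := by linear_combination h
    simp only [Units.val_mk0, map_div₀, map_add, hp0, map_one, this]
    field_simp
  · refine Equiv.ext fun v => ?_
    exact (lin _ _ v).symm

end H25.L2
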