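import Cfsg.Agent.Lib.L2S.WrC3

set_option autoImplicit false

namespace H25.L2

open Subgroup H4.YM H4.TL Matrix MatrixGroups

variable {G : Type*} [Group G] [Finite G] {F : Type*} [Field F] [Finite F]

theorem Swp.wr {h : (2 : F) = 0} {τ : F ≃+* F} {N : Subgroup (Equiv.Perm (F × F))}
    {x : Equiv.Perm (F × F)} (H : Swp h τ N x) {k : Fˣ} (k1 : k ≠ 1) (hk : (k : F) * τ k = 1)
    (hc : hb k * cj x (hb k) = cj x (hb k) * hb k) : Wr h τ N := by
  obtain ⟨θ, lam, C⟩ := WrC.exists_Cs H k1 hk hc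
  obtain ⟨P, S⟩ := WrC.exists_Ps C
  exact S.wr

end H25.L2
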