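import Cfsg.Agent.Lib.L2S.NrB

/-! `V` is strongly closed when `A ≠ V` (blueprint/L2S, package NR2). -/

set_option autoImplicit false
set_option linter.unusedSectionVars false

namespace H25.L2

open Subgroup H4.YM H4.TL Matrix MatrixGroups

variable {G : Type*} [Group G] [Finite G] {F : Type*} [Field F] [Finite F]

namespace NR2

open NRC

theorem sq_cen {U : Subgroup G} (h8 : Nat.card U = 8) (h2 : ∀ u ∈ U, u * u = 1) {x a b : G}
    (hx : ∀ u ∈ U, cj x u ∈ U) (ha : a ∈ U) (hb : b ∈ U) (a1 : a ≠ 1) (b1 : b ≠ 1) (ba : b ≠ a)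
    (xa : cj x a = a) (xb : cj x b = b) : ∀ u ∈ U, cj (x * x) u = u := by
  have cm' : ∀ a ∈ U, ∀ b ∈ U, a * b = b * a := fun a ha b hb =>
    comm_of_sq (h2 a ha) (h2 b hb) (h2 _ (mul_mem ha hb))
  have zU : zpowers a ≤ U := zpowers_le.2 ha
  have i1 : Idx (zpowers a) (adj (zpowers a) b) b := idx_adj
    (fun e => ((mem_zp (h2 a ha)).1 e).elim b1 ba)
    (fun k hk => by rw [cj_eq_iff.2 (cm' _ hb _ (zU hk))]; exact hk) (by rw [h2 b hb]; exact one_mem _)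
  have WU : adj (zpowers a) b ≤ U := adj_le zU hb
  have fx : ∀ w ∈ adj (zpowers a) b, cj x w = w := fun w hw => cj_comm.1 (mem_cen.1
    (adj_le (L := centralizer {x}) (zpowers_le.2 (mem_cen.2 (cj_comm.1 xa))) (mem_cen.2 (cj_comm.1 xb)) hw))
  intro u hu
  by_cases uW : u ∈ adj (zpowers a) b
  · rw [mul_cj, fx u uW, fx u uW]
  have i2 : Idx (adj (zpowers a) b) (adj (adj (zpowers a) b) u) u := idx_adj uW
    (fun k hk => by rw [cj_eq_iff.2 (cm' _ hu _ (WU hk))]; exact hk) (by rw [h2 u hu]; exact one_mem _)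
  have eU : adj (adj (zpowers a) b) u = U := eq_of_le_of_card_ge (adj_le WU hu) (by
    rw [i2.card, i1.card, Nat.card_zpowers, orderOf_eq_prime (p := 2) (by rw [pow_two, h2 a ha]) a1, h8])
  rcases i2.cases (eU ▸ hx u hu) with hw | ⟨w, hw, e⟩
  · exact absurd (cj_inj x (fx _ hw) ▸ hw) uW
  · rw [mul_cj, e, cj_mul, e, fx w hw, mul_assoc, h2 w (WU hw), mul_one]

theorem cen_t {t x y : G} (h : cj t y = y⁻¹) (hx : cj x y = y) : cj (cj t x) y = y := by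
  have : cj t y⁻¹ = y := by rw [cj_inv, h, inv_inv]
  rw [← this, cj_cj, cj_inv x, hx]

end NR2

namespace Fr.NS

open NRC NR2

variable {X : Fr G F} {A S : Subgroup G} {e : ℕ} (D : X.NS A e S)
include D

theorem cen2 (h : A ≠ X.V) {y y' : G} (hy : y ∈ A) (hy' : y' ∈ A) (y1 : y ^ e ≠ 1) (y1' : y' ^ e ≠ 1)
    (yy : y ^ e ≠ y' ^ e) {x : G} (hx : x ∈ X.L) (h1 : cj x y = y) (h2 : cj x y' = y') :
    ∀ u ∈ X.V, cj x u ∈ X.V := by
  have N := D.toNE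
  have Gd := D.toGood
  have hH : X.L ⊓ (centralizer {y} ⊓ centralizer {y'}) ≤ X.L := inf_le_left
  have ht : ∀ x ∈ X.L ⊓ (centralizer {y} ⊓ centralizer {y'}),
      cj X.t x ∈ X.L ⊓ (centralizer {y} ⊓ centralizer {y'}) := fun x hx =>
    ⟨(X.L_cj _).2 hx.1, mem_cen.2 (cen_t (Gd.inv hy) (mem_cen.1 hx.2.1)),
      mem_cen.2 (cen_t (Gd.inv hy') (mem_cen.1 hx.2.2))⟩
  have hc : ∀ x ∈ X.L ⊓ (centralizer {y} ⊓ centralizer {y'}), cj x (y ^ e) = y ^ e := fun x hx => by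
    rw [cj_pow, mem_cen.1 hx.2.1]
  refine D.nrm h hH ht (fun a ha => ⟨Gd.A_le_L ha, mem_cen.2 (Gd.cjA ha hy), mem_cen.2 (Gd.cjA ha hy')⟩)
    (N.eV y hy) y1 hc (fun j hj jj => ?_) x ⟨hx, mem_cen.2 h1, mem_cen.2 h2⟩
  rcases D.trick hH ht (N.eV y hy) y1 hc hj jj with hV | ⟨k, hk, m1, m2, -⟩
  · exact fun u hu => cj_mem hV hu
  exfalso
  have j2 := cj_sq (g := k) jj
  have jH := cj_mem hk hj
  obtain ⟨d, -, -, -, -, hd, -⟩ := e8_fix N.card8 (fun u hu => V_sq _ hu) (N.nrcV m1)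
    (fun u _ => by rw [j2, one_cj]) m2
  obtain ⟨u, hu, e1⟩ := N.dfix h m1 (by rw [j2]; exact one_mem _) m2 hy (mem_cen.1 jH.2.1)
  obtain ⟨u', hu', e1'⟩ := N.dfix h m1 (by rw [j2]; exact one_mem _) m2 hy' (mem_cen.1 jH.2.2)
  exact yy (by rw [e1, e1', (hd u hu).resolve_left (e1 ▸ y1), (hd u' hu').resolve_left (e1' ▸ y1')])

theorem nV_of {k j : G} (m1 : cj k j ∈ normalizer (adj A X.t : Set G)) (hk : ∀ u ∈ X.V, cj k u ∈ X.V) :
    ∀ u ∈ X.V, cj j u ∈ X.V := fun u hu => by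
  have := D.toNE.nrcV m1 _ (hk u hu)
  rwa [cj_cj, cj_mem_iff (mem_norm.2 hk)] at this

theorem cen1 (h : A ≠ X.V) {y : G} (hy : y ∈ A) (y1 : y ^ e ≠ 1) {x : G} (hx : x ∈ X.L)
    (h1 : cj x y = y) : ∀ u ∈ X.V, cj x u ∈ X.V := by
  have N := D.toNE
  have Gd := D.toGood
  have hH : X.L ⊓ centralizer {y} ≤ X.L := inf_le_left
  have ht : ∀ x ∈ X.L ⊓ centralizer {y}, cj X.t x ∈ X.L ⊓ centralizer {y} := fun x hx =>
    ⟨(X.L_cj _).2 hx.1, mem_cen.2 (cen_t (Gd.inv hy) (mem_cen.1 hx.2))⟩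
  have hc : ∀ x ∈ X.L ⊓ centralizer {y}, cj x (y ^ e) = y ^ e := fun x hx => by
    rw [cj_pow, mem_cen.1 hx.2]
  refine D.nrm h hH ht (fun a ha => ⟨Gd.A_le_L ha, mem_cen.2 (Gd.cjA ha hy)⟩)
    (N.eV y hy) y1 hc (fun j hj jj => ?_) x ⟨hx, mem_cen.2 h1⟩
  rcases D.trick hH ht (N.eV y hy) y1 hc hj jj with hV | ⟨k, hk, m1, m2, m3⟩
  · exact fun u hu => cj_mem hV hu
  have j2 := cj_sq (g := k) jj
  have f2 : ∀ u ∈ X.V, cj (cj k j * cj k j) u = u := fun u _ => by rw [j2, one_cj]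
  obtain ⟨u, hu, e1⟩ := N.dfix h m1 (by rw [j2]; exact one_mem _) m2 hy (mem_cen.1 (cj_mem hk hj).2)
  exact D.nV_of m1 (D.cen2 h hy (Gd.Nt m1) y1
    (fun e => m2 (N.nofix m1 f2 (one_mem _) (by rw [cj_one, mul_one]; exact e)))
    (fun e => m2 (N.nofix m1 f2 hu (e.symm.trans e1))) hk.1 (mem_cen.1 hk.2) m3)

theorem cen0 (h : A ≠ X.V) {z : G} (hz : z ∈ X.V) (z1 : z ≠ 1) {x : G} (hx : x ∈ X.L)
    (h1 : cj x z = z) : ∀ u ∈ X.V, cj x u ∈ X.V := by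
  have N := D.toNE
  have Gd := D.toGood
  have hH : X.L ⊓ centralizer {z} ≤ X.L := inf_le_left
  have ht : ∀ x ∈ X.L ⊓ centralizer {z}, cj X.t x ∈ X.L ⊓ centralizer {z} := fun x hx =>
    ⟨(X.L_cj _).2 hx.1, mem_cen.2 (cen_t (Gd.inv (Gd.VA hz)) (mem_cen.1 hx.2))⟩
  have hc : ∀ x ∈ X.L ⊓ centralizer {z}, cj x z = z := fun x hx => mem_cen.1 hx.2
  refine D.nrm h hH ht (fun a ha => ⟨Gd.A_le_L ha, mem_cen.2 (Gd.cjA ha (Gd.VA hz))⟩)
    hz z1 hc (fun j hj jj => ?_) x ⟨hx, mem_cen.2 h1⟩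
  rcases D.trick hH ht hz z1 hc hj jj with hV | ⟨k, hk, m1, m2, m3⟩
  · exact fun u hu => cj_mem hV hu
  have j2 := cj_sq (g := k) jj
  have f2 : ∀ u ∈ X.V, cj (cj k j * cj k j) u = u := fun u _ => by rw [j2, one_cj]
  exact D.nV_of m1 (D.cen1 h (Gd.Nt m1)
    (fun e => m2 (N.nofix m1 f2 (one_mem _) (by rw [cj_one, mul_one]; exact e))) hk.1 m3)

theorem closed (h : A ≠ X.V) : ∀ g ∈ X.L, ∀ w ∈ X.V, cj g w ∈ S → cj g w ∈ X.V := by
  intro g hg w hw fS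
  by_contra fV
  have N := D.toNE
  have Gd := D.toGood
  have VL : X.V ≤ X.L := Gd.VA.trans Gd.A_le_L
  set f := cj g w with hf
  set V' := cm g X.V with hV'
  have w1 : w ≠ 1 := by rintro rfl; exact fV (by rw [hf, cj_one]; exact one_mem _)
  have f1 : f ≠ 1 := fun e => w1 (cj_eq_one.1 e)
  have fV' : f ∈ V' := cj_mem_cm.2 hw
  have ff : f * f = 1 := cj_sq (V_sq _ hw)
  have fM := D.SM fS
  have c8 : Nat.card V' = 8 := by rw [card_cm, N.card8]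
  have sq' : ∀ y ∈ V', y * y = 1 := fun y hy => by
    rw [← cj_inv_cj g y]; exact cj_sq (V_sq _ (mem_cm.1 hy))
  have nf : ∀ x ∈ X.L, cj x f = f → ∀ y ∈ V', cj x y ∈ V' := fun x hx e y hy => by
    rw [hV', mem_cm, ← cj_cj]
    exact D.cen0 h hw w1 (cj_mem (inv_mem hg) hx) (by rw [← inv_cj_cj g w, cj_cj, e]) _ (mem_cm.1 hy)
  have nv : ∀ v ∈ X.V, v ≠ 1 → ¬ ∀ y ∈ V', cj v y = y := fun v hv v1 e => by
    have h1 : cj g⁻¹ v ∈ X.V := D.inv_cen (cj_mem (inv_mem hg) (VL hv)) (cj_sq (V_sq _ hv)) fun u hu => by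
      rw [← inv_cj_cj g u, cj_cj, e _ (cj_mem_cm.2 hu)]
    obtain ⟨k, hk⟩ := N.transV hv v1 h1 (fun e => v1 (cj_eq_one.1 e))
    have h2 := D.cen0 h hv v1 (mul_mem hg (X.A0_le_L (X.h_mem k))) (by rw [mul_cj, hk, cj_inv_cj])
      _ (N.nrcV (inv_mem (Gd.N1_le (X.h_N1 k))) w hw)
    rw [mul_cj, cj_inv_cj] at h2
    exact fV h2
  have nc : ¬ ∀ u ∈ X.V, cj f u = u := fun e => fV (D.inv_cen (D.sylS.le fS) ff e)
  obtain ⟨d0, hd0, d1, fd, ⟨u0, hu0, e0⟩, -, ⟨b, hb, fb, b1, bd⟩, -⟩ := e8_fix N.card8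
    (fun u hu => V_sq _ hu) (N.nrcV fM) (fun u _ => by rw [ff, one_cj]) nc
  obtain ⟨h0, hh0, e1⟩ := N.eS u0 hu0
  have fh0 := Gd.NA fM hh0
  have xe : (h0 * cj f h0) ^ e = d0 := by rw [N.pow_e hh0 fh0, ← cj_pow, e1, e0]
  have xf : cj (h0 * cj f h0) f = f := by
    rw [cj_comm, cj_mul, ← mul_cj, ff, one_cj, Gd.comm fh0 hh0]
  have xA : h0 * cj f h0 ∈ A := mul_mem hh0 fh0
  set x := h0 * cj f h0
  have xV' := nf x (Gd.A_le_L xA) xf
  have nx : ¬ ∀ y ∈ V', cj (x * x) y = y := fun e => by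
    obtain ⟨n, hn⟩ := N.even_e h
    refine nv d0 hd0 d1 fun y hy => ?_
    rw [← xe, hn, ← two_mul, pow_mul, pow_two]
    exact mem_cen.1 (pow_mem (mem_cen.2 (e y hy)) n)
  have key : ∀ v ∈ X.V, v ≠ 1 → cj f v = v → (∀ y ∈ V', y * cj v y = 1 ∨ y * cj v y = f) ∧
      ∀ b ∈ V', cj v b = b → b ≠ 1 → b ≠ f → ∀ u ∈ V', cj v u = u →
        u = 1 ∨ u = f ∨ u = b ∨ u = b * f := fun v hv v1 fv => by
    obtain ⟨d, hd, dn, -, ⟨u, hu, ud⟩, h1, -, h2⟩ := e8_fix c8 sq' (nf v (VL hv) (cj_comm.1 fv))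
      (fun u _ => by rw [V_sq _ hv, one_cj]) (nv v hv v1)
    have xd : cj x d = d := by
      have e2 : cj x d = cj x u * cj v (cj x u) := by
        conv_rhs => rw [← Gd.cjA xA (Gd.VA hv), cj_cj, ← cj_mul, ud]
      rcases h1 _ (xV' u hu) with e | e
      · exact absurd (cj_eq_one.1 (e2.trans e)) dn
      · exact e2.trans e
    have df : d = f := by
      by_contra df
      exact nx (sq_cen c8 sq' xV' fV' hd f1 dn df xf xd)
    rw [df] at h1 h2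
    exact ⟨h1, h2⟩
  refine nx fun u hu => ?_
  by_cases u1 : u = 1
  · rw [u1, cj_one]
  by_cases uf : u = f
  · rw [uf, mul_cj, xf, xf]
  have mv : ∀ v ∈ X.V, v ≠ 1 → cj f v = v → cj v u = u ∨ cj v u = u * f := fun v hv v1 fv => by
    rcases (key v hv v1 fv).1 u hu with e | e
    · exact Or.inl (mul_left_cancel (e.trans (sq' u hu).symm))
    · exact Or.inr (by rw [← e, ← mul_assoc, sq' u hu, one_mul])
  obtain ⟨v, hv, v1, fv, vu⟩ : ∃ v ∈ X.V, v ≠ 1 ∧ cj f v = v ∧ cj v u = u := by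
    rcases mv d0 hd0 d1 fd with e2 | e2
    · exact ⟨d0, hd0, d1, fd, e2⟩
    rcases mv b hb b1 fb with e3 | e3
    · exact ⟨b, hb, b1, fb, e3⟩
    refine ⟨b * d0, mul_mem hb hd0, fun e => bd (mul_right_cancel (e.trans (V_sq _ hd0).symm)),
      by rw [cj_mul, fb, fd], ?_⟩
    rw [mul_cj, e2, cj_mul, e3, cj_comm.1 fb, mul_assoc, ff, mul_one]
  have vx : cj v (cj x u) = cj x u := by
    conv_lhs => rw [← Gd.cjA xA (Gd.VA hv), cj_cj, vu]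
  rcases (key v hv v1 fv).2 u hu vu u1 uf _ (xV' u hu) vx with e | e | e | e
  · exact absurd (cj_eq_one.1 e) u1
  · exact absurd (cj_inj x (e.trans xf.symm)) uf
  · rw [mul_cj, e, e]
  · rw [mul_cj, e, cj_mul, e, xf, mul_assoc, ff, mul_one]

theorem sixteen : 16 ≤ Nat.card S := by
  have := card_le_of_le D.toGood.VA
  rw [D.toNE.card8] at this
  rw [D.card]; omega

theorem V_ne_bot : X.V ≠ ⊥ := fun e => by
  have := D.toNE.card8
  rw [e, card_bot] at this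
  omega

end Fr.NS

end H25.L2
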