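import Cfsg.Agent.Lib.L2S.Good
import Cfsg.Agent.Lib.L2S.Defs8

set_option autoImplicit false
set_option linter.unusedSectionVars false

namespace H25.L2

open Subgroup H4.YM H4.TL Matrix MatrixGroups

variable {G : Type*} [Group G] [Finite G] {F : Type*} [Field F] [Finite F]

namespace NrA

omit [Finite G] in
theorem comm_of_sq {U : Subgroup G} (h2 : ∀ u ∈ U, u * u = 1) {a b : G} (ha : a ∈ U) (hb : b ∈ U) :
    a * b = b * a := by
  rw [← inv_eq_of_mul_eq_one_right (h2 _ (mul_mem ha hb)), _root_.mul_inv_rev,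
    inv_eq_of_mul_eq_one_right (h2 a ha), inv_eq_of_mul_eq_one_right (h2 b hb)]

omit [Finite G] in
theorem cj_pw (g x : G) (n : ℕ) : cj g (x ^ n) = cj g x ^ n := conj_pow.symm

end NrA

open NrA

/-- an involution acting on an elementary abelian group of order `8` -/
theorem e8_fix {U : Subgroup G} (h8 : Nat.card U = 8) (h2 : ∀ u ∈ U, u * u = 1) {g : G}
    (hg : ∀ u ∈ U, cj g u ∈ U) (hgg : ∀ u ∈ U, cj (g * g) u = u) (hn : ¬ ∀ u ∈ U, cj g u = u) :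
    ∃ d ∈ U, d ≠ 1 ∧ cj g d = d ∧ (∃ u ∈ U, u * cj g u = d) ∧
      (∀ u ∈ U, u * cj g u = 1 ∨ u * cj g u = d) ∧ (∃ b ∈ U, cj g b = b ∧ b ≠ 1 ∧ b ≠ d) ∧
      ∀ b ∈ U, cj g b = b → b ≠ 1 → b ≠ d → ∀ u ∈ U, cj g u = u →
        u = 1 ∨ u = d ∨ u = b ∨ u = b * d := by
  let ψ : U →* U := MonoidHom.mk' (fun u => ⟨u * cj g u, mul_mem u.2 (hg u u.2)⟩) fun a b =>
    Subtype.ext (by
      show (a : G) * b * cj g (a * b) = a * cj g a * (b * cj g b)
      rw [cj_mul, mul_assoc, ← mul_assoc (b : G), comm_of_sq h2 b.2 (hg a a.2)]; group)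
  have mk : ∀ u : U, u ∈ ψ.ker ↔ cj g u = u := fun u => by
    rw [MonoidHom.mem_ker, Subtype.ext_iff]
    show (u : G) * cj g u = 1 ↔ _
    rw [mul_eq_one_iff_inv_eq, inv_eq_of_mul_eq_one_right (h2 u u.2), eq_comm]
  have le : ψ.range ≤ ψ.ker := by
    rintro _ ⟨u, rfl⟩
    refine (mk _).2 ?_
    show cj g (u * cj g u) = u * cj g u
    rw [cj_mul, ← mul_cj, hgg u u.2, comm_of_sq h2 u.2 (hg u u.2)]
  have c1 := ψ.ker.card_mul_index
  rw [index_ker, h8] at c1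
  have c2 := card_le_of_le le
  have c3 : Nat.card ψ.ker ≠ 8 := fun e => hn fun u hu =>
    (mk ⟨u, hu⟩).1 ((eq_top_of_card_eq _ (e.trans h8.symm)).ge (mem_top _))
  have c4 : Nat.card ψ.ker ≤ 8 := Nat.le_of_dvd (by norm_num) (Dvd.intro _ c1)
  have c5 : Nat.card ψ.ker = 4 ∧ Nat.card ψ.range = 2 := by
    generalize Nat.card ψ.ker = k at *
    generalize Nat.card ψ.range = r at *
    interval_cases k <;> omega
  obtain ⟨⟨d, hd⟩, d1, du⟩ := (Nat.card_eq_two_iff' (1 : ψ.range)).1 c5.2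
  have mr : ∀ x ∈ ψ.range, x = 1 ∨ x = d := fun x hx => or_iff_not_imp_left.2 fun h =>
    congrArg Subtype.val (du ⟨x, hx⟩ fun e => h (congrArg Subtype.val e))
  have ix : ψ.range.relIndex ψ.ker = 2 := by
    have := H1.card_mul_relIndex_of_le le
    rw [c5.1, c5.2] at this
    omega
  refine ⟨d, d.2, fun e => d1 (Subtype.ext (Subtype.ext e)), (mk d).1 (le hd),
    let ⟨u, e⟩ := hd; ⟨u, u.2, congrArg Subtype.val e⟩,
    fun u hu => (mr _ ⟨⟨u, hu⟩, rfl⟩).imp (congrArg Subtype.val) (congrArg Subtype.val), ?_,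
    fun b hb gb b1 bd u hu gu => ?_⟩
  · obtain ⟨b, hb, nb⟩ := SetLike.not_le_iff_exists.1 fun e : ψ.ker ≤ ψ.range => by
      have := card_le_of_le e
      omega
    exact ⟨b, b.2, (mk b).1 hb, fun e => nb ((Subtype.ext e : b = 1) ▸ one_mem _),
      fun e => nb ((Subtype.ext e : b = d) ▸ hd)⟩
  · by_cases h : (⟨u, hu⟩ : U) ∈ ψ.range
    · rcases mr _ h with e | e
      exacts [.inl (congrArg Subtype.val e), .inr (.inl (congrArg Subtype.val e))]
    · have nb : (⟨b, hb⟩ : U) ∉ ψ.range := fun h =>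
        (mr _ h).elim (fun e => b1 (congrArg Subtype.val e)) fun e => bd (congrArg Subtype.val e)
      have := (mul_mem_iff_of_index_two (H := ψ.range.subgroupOf ψ.ker) ix
        (a := ⟨⟨b, hb⟩, (mk _).2 gb⟩) (b := ⟨⟨u, hu⟩, (mk _).2 gu⟩)).2 (by simp [mem_subgroupOf, h, nb])
      have e0 : u = b * (b * u) := by rw [← mul_assoc, h2 b hb, one_mul]
      rcases mr _ this with e | e
      · have e' : b * u = 1 := congrArg Subtype.val e
        exact .inr (.inr (.inl (by rw [e0, e', mul_one])))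
      · have e' : b * u = d := congrArg Subtype.val e
        exact .inr (.inr (.inr (by rw [e0, e'])))

theorem Fr.NR.exists_ne {X : Fr G F} {A : Subgroup G} (D : X.NR A) (h : X.t ∉ X.L) :
    ∃ e, X.NE A e :=
  let ⟨e, h1, h2, h3⟩ := D.toGood.exists_exp
  ⟨e, D, h, h1, h2, h3⟩

namespace NrA

variable {X : Fr G F}

theorem V_sq {u : G} (hu : u ∈ X.V) : u * u = 1 := by
  obtain ⟨a, rfl⟩ := X.mem_V.1 hu; exact X.v_sq a

theorem all_V {g : G} : (∀ u ∈ X.V, cj g u = u) ↔ ∀ a, cj g (X.v a) = X.v a :=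
  ⟨fun h a => h _ (X.v_mem_V a), fun h u hu => by obtain ⟨a, rfl⟩ := X.mem_V.1 hu; exact h a⟩

theorem nv {A : Subgroup G} (D : X.Good A) {g u : G} (hg : g ∈ normalizer (adj A X.t : Set G))
    (hu : u ∈ X.V) : cj g u ∈ X.V := by
  obtain ⟨a, rfl⟩ := X.mem_V.1 hu; exact D.NV hg a

theorem A_M {A : Subgroup G} {a : G} (ha : a ∈ A) : a ∈ normalizer (adj A X.t : Set G) :=
  le_normalizer (le_adj ha)

end NrA

namespace Fr.NE

variable {X : Fr G F} {A : Subgroup G} {e : ℕ} (D : X.NE A e)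
include D

theorem T_E : X.T = X.E := X.T_eq_E D.R2 (X.σ_one_of_eight D.eight)

theorem card8 : Nat.card X.V = 8 := X.card_V.trans D.eight

/-- the `2`-elements of `C(s)`, `s ∼ t`, are involutions -/
theorem sq_of_cen {s x : G} (hs : X.Ω s) (h : cj x s = s) {j : ℕ} (hj : x ^ 2 ^ j = 1) :
    x * x = 1 := by
  obtain ⟨c, -, hc⟩ := X.sylΩ hs (P := zpowers x) (by
    rintro ⟨_, n, rfl⟩
    exact ⟨j, Subtype.ext (by
      show (x ^ n) ^ 2 ^ j = 1
      rw [← zpow_natCast, ← _root_.zpow_mul, mul_comm, _root_.zpow_mul, zpow_natCast, hj,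
        _root_.one_zpow])⟩)
    fun y hy => mem_cen.1 (zpowers_le.2 (mem_cen.2 h) hy)
  have := cj_sq (g := c) (X.E_sq (D.T_E ▸ mem_cm.1 (hc (mem_zpowers x))))
  rwa [cj_inv_cj] at this

theorem pow_e {a b : G} (ha : a ∈ A) (hb : b ∈ A) : (a * b) ^ e = a ^ e * b ^ e :=
  Commute.mul_pow (D.toGood.comm ha hb) e

theorem sq_e {a : G} (ha : a ∈ A) : (a * a) ^ e = 1 := by
  rw [D.pow_e ha ha, V_sq (D.eV a ha)]

theorem even_e (h : A ≠ X.V) : Even e := by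
  by_contra ho
  refine h (le_antisymm (fun a ha => D.toGood.sqV ha ?_) D.VA)
  obtain ⟨j, hj⟩ := D.pg ⟨a * a, mul_mem ha ha⟩
  exact GoodAux.eq_one_of ((Nat.not_even_iff_odd.1 ho).of_dvd_nat
    (orderOf_dvd_of_pow_eq_one (D.sq_e ha))) (congrArg Subtype.val hj)

/-- `N1` acts on `V` as a group of odd order -/
theorem two_N1 {n : G} (hn : n ∈ X.N1) {j : ℕ} (h : ∀ u ∈ X.V, cj (n ^ 2 ^ j) u = u) :
    ∀ u ∈ X.V, cj n u = u := by
  induction j with
  | zero => simpa using h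
  | succ j ih =>
    refine ih (all_V.2 ?_)
    obtain ⟨k, τ, hk⟩ := X.N1_act (pow_mem hn (2 ^ j))
    have h1 : ∀ a, (k : F) * τ (k * τ a) = a := fun a => X.v_inj (by
      rw [← hk, ← hk, ← mul_cj, ← pow_two, ← pow_mul, ← pow_succ, all_V.1 h])
    have h2 : (k : F) * τ k = 1 := by simpa using h1 1
    have h3 : τ = 1 := by
      by_contra t1
      have := fix_sq t1 (RingEquiv.ext fun a => by
        have := h1 a
        rwa [map_mul, ← mul_assoc, h2, one_mul] at this)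
      rw [D.eight] at this
      have h4 : {a | τ a = a}.ncard ≤ 2 := by nlinarith
      generalize {a | τ a = a}.ncard = r at *
      interval_cases r <;> omega
    subst h3
    have h4 : (k : F) = 1 := Bas.sq_inj X.char (by rw [mul_one]; exact h2)
    intro a
    rw [hk, h4, one_mul]; rfl

/-- involutions of `GL₃(2)` fix none of the eight cosets `t a A²` -/
theorem nofix {g u : G} (hg : g ∈ normalizer (adj A X.t : Set G))
    (h2 : ∀ u ∈ X.V, cj (g * g) u = u) (hu : u ∈ X.V) (h : (X.t * cj g X.t) ^ e = u * cj g u) :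
    ∀ u ∈ X.V, cj g u = u := by
  have E := D.toGood
  obtain ⟨a, ha, rfl⟩ := D.eS u hu
  have hc := E.Nt hg
  have ha' := E.NA hg ha
  obtain ⟨β, hβ, e1⟩ := D.eK _ (mul_mem (inv_mem ha) (mul_mem hc ha')) (by
    rw [D.pow_e (inv_mem ha) (mul_mem hc ha'), D.pow_e hc ha', h, ← cj_pw, mul_assoc,
      V_sq (nv E hg hu), mul_one, inv_pow, inv_mul_cancel])
  obtain ⟨m, hm, e2⟩ := D.tr a ha
  have e3 : cj (β * g) (X.t * a) = X.t * a := by
    have : cj g (X.t * a) = X.t * (β * β * a) := by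
      rw [E.comm (mul_mem hβ hβ) ha, e1, mul_inv_cancel_left, mul_assoc, X.ttu, cj_mul]
    rw [mul_cj, this, cj_mul, E.cjt hβ, E.cjA hβ (mul_mem (mul_mem hβ hβ) ha)]; group
  have hβg := mul_mem (A_M (X := X) hβ) hg
  have av : ∀ u ∈ X.V, cj (β * g) u = cj g u := fun u hu => by
    rw [mul_cj, all_V.2 (E.AV hβ) _ (nv E hg hu)]
  have hn : m⁻¹ * (β * g) * m ∈ X.N1 := E.N1_of (mul_mem (mul_mem (inv_mem hm) hβg) hm) (by
    rw [mul_cj, mul_cj, e2, e3, ← e2, inv_cj_cj])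
  have := D.two_N1 hn (j := 1) fun u hu => by
    rw [pow_one, pow_two, show m⁻¹ * (β * g) * m * (m⁻¹ * (β * g) * m) =
      m⁻¹ * (β * g * (β * g * m)) by group, mul_cj m⁻¹, mul_cj (β * g), mul_cj (β * g),
      av _ (nv E hm hu), av _ (nv E hg (nv E hm hu)), ← mul_cj g, h2 _ (nv E hm hu), inv_cj_cj]
  intro u hu
  have := this _ (nv E (inv_mem hm) hu)
  rw [mul_cj, mul_cj, cj_inv_cj, av u hu] at this
  exact cj_inj _ this

theorem cenM {g : G} (hg : g ∈ normalizer (adj A X.t : Set G)) (hL : g ∈ X.L)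
    (h : ∀ u ∈ X.V, cj g u = u) : ∃ α ∈ A, ∃ o ∈ X.O0, g = α * o := by
  have E := D.toGood
  obtain ⟨α, hα, e1⟩ := D.notr g hg (all_V.1 h)
  obtain ⟨x, hx, o, ho, e2⟩ := D.toPure.cenE e1 fun a => by rw [mul_cj, all_V.1 h, E.AV hα]
  have oL : o ∈ X.L := GoodAux.mem_of_pow (D.toPure.mem_O0.1 ho).2 (j := 1)
    (by rw [pow_one, pow_two]; exact X.sq_mem_L o)
  have xL : x ∈ X.L := (mul_mem_cancel_right oL).1 (e2 ▸ mul_mem (E.A_le_L hα) hL)
  obtain ⟨a, rfl | rfl⟩ := X.mem_E.1 hx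
  · exact ⟨_, mul_mem (inv_mem hα) (D.VA (X.v_mem_V a)), o, ho, by rw [mul_assoc, ← e2]; group⟩
  · exact absurd ((mul_mem_cancel_right (X.φL _)).1 xL) D.tL

theorem cenM_two {g : G} (hg : g ∈ normalizer (adj A X.t : Set G)) (hL : g ∈ X.L)
    (h : ∀ u ∈ X.V, cj g u = u) {j : ℕ} (hj : g ^ 2 ^ j = 1) : g ∈ A := by
  obtain ⟨α, hα, o, ho, rfl⟩ := D.cenM hg hL h
  obtain ⟨i, hi⟩ := D.pg ⟨α, hα⟩
  rwa [GoodAux.odd_part (cj_eq_iff.1 (D.toGood.O0_A ho hα)).symm (D.toPure.mem_O0.1 ho).2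
    (congrArg Subtype.val hi) hj, mul_one]

theorem cen_tv {c u z : G} (hu : u ∈ X.V) (h : cj c (X.t * u) = X.t * u) (hz : z ∈ X.V)
    (z1 : z ≠ 1) (hc : cj c z = z) : ∀ w ∈ X.V, cj c w ∈ X.V := by
  have E := D.toGood
  obtain ⟨m, hm, e1⟩ := D.tr u (D.VA hu)
  obtain ⟨a, ea⟩ := X.mem_V.1 (nv E (inv_mem hm) hz)
  have hn : m⁻¹ * c * m ∈ X.N1 := X.ti (a := a) (by rw [mul_cj, mul_cj, e1, h, ← e1, inv_cj_cj])
    (fun e0 => z1 (cj_eq_one.1 (by rw [ea, e0, X.v_zero])))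
    (by rw [← ea, mul_cj, mul_cj, cj_inv_cj, hc]; exact nv E (inv_mem hm) hz)
  intro w hw
  have := nv E hm (nv E (E.N1_le hn) (nv E (inv_mem hm) hw))
  rwa [mul_cj, mul_cj, cj_inv_cj, cj_inv_cj] at this

theorem transV {u w : G} (hu : u ∈ X.V) (u1 : u ≠ 1) (hw : w ∈ X.V) (w1 : w ≠ 1) :
    ∃ k, cj (X.h k) u = w := by
  obtain ⟨a, rfl⟩ := X.mem_V.1 hu
  obtain ⟨b, rfl⟩ := X.mem_V.1 hw
  have ha : a ≠ 0 := fun e => u1 (X.v_eq_one.2 e)
  have hb : b ≠ 0 := fun e => w1 (X.v_eq_one.2 e)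
  exact ⟨Units.mk0 (b / a) (div_ne_zero hb ha), by rw [X.h_v, Units.val_mk0, div_mul_cancel₀ _ ha]⟩

/-- fixed points on `A` when `A ≠ V` -/
theorem dfix (h : A ≠ X.V) {g y : G} (hg : g ∈ normalizer (adj A X.t : Set G)) (h2 : g * g ∈ X.V)
    (hn : ¬ ∀ u ∈ X.V, cj g u = u) (hy : y ∈ A) (hgy : cj g y = y) :
    ∃ u ∈ X.V, y ^ e = u * cj g u := by
  have E := D.toGood
  have gg : ∀ a ∈ A, cj g (cj g a) = a := fun a ha => by rw [← mul_cj, E.cjA (D.VA h2) ha]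
  have gV : ∀ u ∈ X.V, cj (g * g) u = u := fun u hu => by rw [mul_cj, gg u (D.VA hu)]
  have hc := E.Nt hg
  have ec : cj g (X.t * cj g X.t) = (X.t * cj g X.t)⁻¹ := by
    obtain ⟨a, ea⟩ := X.mem_V.1 h2
    rw [cj_mul, ← mul_cj, ea, X.v_t, _root_.mul_inv_rev, ← cj_inv, X.tinv]
  have nf := fun u hu e1 => hn (D.nofix (u := u) hg gV hu e1)
  generalize X.t * cj g X.t = c at hc ec nf
  have key : ∀ u ∈ X.V, y ^ e = c ^ e * (u * cj g u) → ∃ u ∈ X.V, y ^ e = u * cj g u := fun u hu e1 => by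
    obtain ⟨k, hk, rfl⟩ := D.eS u hu
    have hk' := E.NA hg hk
    have hd := mul_mem (inv_mem hk) hk'
    have hp := mul_mem hc hd
    have ep : cj g (c * (k⁻¹ * cj g k)) = (c * (k⁻¹ * cj g k))⁻¹ := by
      rw [cj_mul, ec, cj_mul, gg k hk, cj_inv, E.comm hc hd]; group
    obtain ⟨a, ha, e2⟩ := D.eK _ (mul_mem hy (inv_mem hp)) (by
      rw [D.pow_e hy (inv_mem hp), inv_pow, D.pow_e hc hd, D.pow_e (inv_mem hk) hk', e1, inv_pow,
        inv_eq_of_mul_eq_one_right (V_sq hu), cj_pw, mul_inv_cancel])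
    generalize c * (k⁻¹ * cj g k) = p at hp ep e2
    have ha' := E.NA hg ha
    have e3 : y = a * a * p := by rw [e2]; group
    have e4 : y * y = a * cj g a * (a * cj g a) := by
      nth_rewrite 2 [← hgy]
      rw [e3, cj_mul, cj_mul, ep, E.comm (mul_mem ha' ha') (inv_mem hp), mul_assoc a (cj g a),
        ← mul_assoc (cj g a), E.comm ha' ha]; group
    obtain ⟨f, hf⟩ := D.even_e h
    refine ⟨_, D.eV a ha, ?_⟩
    rw [cj_pw, ← D.pow_e ha ha', hf, ← two_mul, pow_mul, pow_mul, pow_two, pow_two, e4]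
  obtain ⟨d, hd, -, -, ⟨u0, hu0, e0⟩, -, -, all⟩ :=
    e8_fix D.card8 (fun u hu => V_sq hu) (fun u hu => nv E hg hu) gV hn
  rcases all _ (D.eV c hc) (by rw [cj_pw, ec, inv_pow, inv_eq_of_mul_eq_one_right (V_sq (D.eV c hc))])
    (fun e1 => nf 1 (one_mem _) (by rw [e1, cj_one, mul_one])) (fun e1 => nf u0 hu0 (by rw [e1, e0]))
    _ (D.eV y hy) (by rw [cj_pw, hgy]) with e1 | e1 | e1 | e1
  · exact ⟨1, one_mem _, by rw [e1, cj_one, mul_one]⟩
  · exact ⟨u0, hu0, by rw [e1, e0]⟩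
  · exact key 1 (one_mem _) (by rw [e1, cj_one, mul_one, mul_one])
  · exact key u0 hu0 (by rw [e1, e0])

end Fr.NE

end H25.L2
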