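import Cfsg.Agent.Lib.L2S.WrA

/-! The wreath shadow: the two invariant lines. -/

set_option autoImplicit false
set_option linter.unusedSectionVars false

namespace H25.L2.WrC

open Subgroup H4.YM H4.TL Polynomial

variable {F : Type*} [Field F] [Finite F] {h : (2 : F) = 0} {τ : F ≃+* F}
  {N : Subgroup (Equiv.Perm (F × F))}

/-- norm one -/
def Nm (τ : F ≃+* F) (a : F) : Prop := a * τ a = 1

/-- coordinates along the two lines -/
structure Cs (h : (2 : F) = 0) (τ : F ≃+* F) (N : Subgroup (Equiv.Perm (F × F)))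
    (θ : F → F → F × F) (lam : F) : Prop extends Lin h τ N where
  nf : ∀ n ∈ N, cj n (tb h) ≠ fb τ
  add' : ∀ u v u' v', θ (u + u') (v + v') = θ u v + θ u' v'
  inj : ∀ {u v u' v'}, θ u v = θ u' v' → u = u' ∧ v = v'
  surj : ∀ p, ∃ u v, p = θ u v
  smul : ∀ c u v, c • θ u v = θ (c * u) (c * v)
  t_θ : ∀ u v, tb h (θ u v) = θ v u
  f_θ : ∀ u v, fb τ (θ u v) = θ (lam * τ u) (lam * τ v)
  RN : ∀ a b, Nm τ a → Nm τ b → ∃ r ∈ N, ∀ u v, r (θ u v) = θ (a * u) (b * v)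
  Ds : ∀ r ∈ N, cj r (tb h * fb τ) = tb h * fb τ → cj (fb τ) r = r⁻¹ →
    ∃ a b, ∀ u v, (r ^ 4) (θ u v) = θ (a * u) (b * v)
  ex : ∃ δ, δ ≠ 1 ∧ Nm τ δ

theorem auto1 : True := by have := @Nm.eq_1.{0}; trivial

theorem cj_apply {α : Type*} (g n : Equiv.Perm α) (p : α) : cj g n (g p) = g (n p) := by simp [cj]
theorem hb_apply (k : Fˣ) (p : F × F) : hb k p = (k : F) • p := rfl
theorem tb_apply (p : F × F) : tb h p = (p.1 + p.2, p.2) := rfl
theorem fb_apply (p : F × F) : fb τ p = (τ p.1, τ p.2) := rfl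
theorem tb_smul (c : F) (p : F × F) : tb h (c • p) = c • tb h p := by
  ext <;> simp [tb_apply, mul_add]
theorem fb_smul (c : F) (p : F × F) : fb τ (c • p) = τ c • fb τ p := by ext <;> simp [fb_apply]
theorem tb_sq : tb h * tb h = 1 := Equiv.ext (tb h).left_inv
theorem ττ_apply (e : τ * τ = 1) (a : F) : τ (τ a) = a := congrArg (fun σ : F ≃+* F => σ a) e
theorem fb_sq (e : τ * τ = 1) : fb τ * fb τ = 1 := by ext p <;> simp [fb_apply, ττ_apply e]
theorem tb_fb : tb h * fb τ = fb τ * tb h := by ext p <;> simp [fb_apply, tb_apply]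
theorem hb_pow (k : Fˣ) (n : ℕ) : hb k ^ n = hb (k ^ n) := by
  induction n with
  | zero => ext p <;> simp [hb_apply]
  | succ n ih => rw [pow_succ, ih]; ext p <;> simp [hb_apply, pow_succ, mul_assoc]
theorem hb_comm (k l : Fˣ) : cj (hb k) (hb l) = hb l :=
  cj_eq_iff.2 (by ext p <;> simp [hb_apply, mul_left_comm])

include h in
theorem sq_inj {a b : F} (e : a * a = b * b) : a = b :=
  (mul_self_eq_mul_self_iff.1 e).elim id fun e => by linear_combination e - b * h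

theorem Nm.ne {a : F} (e : Nm τ a) : a ≠ 0 := left_ne_zero_of_mul_eq_one e
theorem Nm.one : Nm τ 1 := by simp [Nm]
theorem Nm.mul {a b : F} (e : Nm τ a) (e' : Nm τ b) : Nm τ (a * b) := by
  rw [Nm, map_mul, mul_mul_mul_comm, e, e', mul_one]
theorem Nm.inv {a : F} (e : Nm τ a) : Nm τ a⁻¹ := by rw [Nm, map_inv₀, ← mul_inv, e, inv_one]
theorem Nm.aut {a : F} (e : Nm τ a) (α : F ≃+* F) : Nm τ (α a) := by
  have : τ (α a) = α (τ a) := congrArg (fun σ : F ≃+* F => σ a) (aut_comm τ α)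
  rw [Nm, this, ← map_mul, e, map_one]
theorem Nm.pow {a : F} (e : Nm τ a) (n : ℕ) : Nm τ (a ^ n) := by
  rw [Nm, map_pow, ← mul_pow, e, one_pow]

include h in
theorem Nm.sqrt {a : F} (e : Nm τ a) : ∃ b, Nm τ b ∧ b * b = a := by
  obtain ⟨b, rfl⟩ := Finite.surjective_of_injective (f := fun b : F => b * b)
    (fun _ _ => sq_inj (h := h)) a
  exact ⟨b, sq_inj (h := h) (by rw [mul_mul_mul_comm, ← map_mul, mul_one]; exact e), rfl⟩

include h in
theorem Nm.not_fix {a : F} (e : Nm τ a) (h1 : a ≠ 1) : τ a ≠ a := fun k =>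
  h1 (sq_inj (h := h) (by rw [mul_one, ← e, k]))

theorem D4 (H : Lin h τ N) {r : Equiv.Perm (F × F)} (hr : r ∈ N) (ht : cj r (tb h) = tb h)
    (hf : cj (fb τ) r = r⁻¹) : ∃ δ, Nm τ δ ∧ ∀ p, (r ^ 4) p = δ • p := by
  have tt := ττ_apply H.ττ
  have i : ∀ n : ℕ, ∀ p, (r ^ n) (fb τ ((r ^ n) (fb τ p))) = p := fun n p => by
    rw [← cj_apply (fb τ) (r ^ n), cj_pow, hf, ← Equiv.Perm.mul_apply (fb τ), fb_sq H.ττ]
    simp
  obtain ⟨k, ψ, l, e, -⟩ := H.cen r hr ht
  obtain ⟨k', ψ', l', e', -⟩ := H.cen (r * r) (mul_mem hr hr) (by rw [mul_cj, ht, ht])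
  have a1 : ∀ a, k * ψ (τ (k * ψ (τ a))) = a := fun a => by
    have := congrArg Prod.fst (i 1 (a, 0))
    simpa [fb_apply, e] using this
  have a2 : ∀ a, k * ψ (k * ψ a) = k' * ψ' a := fun a => by
    have := congrArg Prod.fst (e' a 0)
    simpa [e] using this
  have c : ∀ a, τ (ψ a) = ψ (τ a) := fun a => congrArg (fun σ : F ≃+* F => σ a) (aut_comm τ ψ)
  have a3 : ∀ a, ψ (ψ a) = a := fun a => by
    have h1 := a1 a
    have h2 := a1 1
    rw [map_mul, map_mul, c, tt, ← mul_assoc] at h1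
    rw [map_one, map_one, mul_one] at h2
    rwa [h2, one_mul] at h1
  obtain rfl : ψ' = 1 := RingEquiv.ext fun a => by
    have h1 := a2 a
    have h2 := a2 1
    rw [map_mul, a3, ← mul_assoc] at h1
    rw [map_one, map_one, mul_one, mul_one] at h2
    rw [h2] at h1
    exact (mul_left_cancel₀ k'.ne_zero h1).symm
  have p4 : ∀ p, (r ^ 4) p = ((k' : F) * k') • p := fun ⟨a, b⟩ => by
    rw [show r ^ 4 = r * r * (r * r) by rw [← pow_two, ← pow_two, ← pow_mul], Equiv.Perm.mul_apply, e', e']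
    ext
    · simp only [RingAut.one_apply, Prod.smul_fst, smul_eq_mul]
      linear_combination l' * k' * k' * b * h
    · simp only [RingAut.one_apply, Prod.smul_snd, smul_eq_mul, mul_assoc]
  refine ⟨_, ?_, p4⟩
  have := congrArg Prod.fst (i 4 (1, 0))
  simpa [p4, fb_apply, Nm] using this

theorem lin_of (H : Lin h τ N) {n : Equiv.Perm (F × F)} (hn : n ∈ N)
    (h0 : ∀ b : Fˣ, τ b = b → cj n (hb b) = hb b) {κ : Fˣ} (hκ : τ κ ≠ κ) (h1 : cj n (hb κ) = hb κ)
    (c : F) (p : F × F) : n (c • p) = c • n p := by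
  have k : ∀ {b : Fˣ}, cj n (hb b) = hb b → ∀ p, n ((b : F) • p) = (b : F) • n p := fun {b} e p => by
    rw [← hb_apply, ← cj_apply, e, hb_apply]
  have k0 : ∀ b, τ b = b → ∀ p, n (b • p) = b • n p := fun b e p => by
    by_cases b0 : b = 0
    · rw [b0, zero_smul, zero_smul]
      simpa using H.add n hn 0 0
    · exact k (h0 (Units.mk0 b b0) e) p
  have tt := ττ_apply H.ττ
  have n0 : (κ : F) + τ κ ≠ 0 := fun e => hκ (by linear_combination e - (κ : F) * h)
  have f1 : τ ((c + τ c) / (κ + τ κ)) = (c + τ c) / (κ + τ κ) := by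
    rw [map_div₀, map_add, map_add, tt, tt, add_comm (τ c), add_comm (τ κ)]
  have f2 : τ (c + (c + τ c) / (κ + τ κ) * κ) = c + (c + τ c) / (κ + τ κ) * κ := by
    rw [map_add, map_mul, f1]
    field_simp
    linear_combination (τ c * τ κ - c * κ) * h
  have e : c = c + (c + τ c) / (κ + τ κ) * κ + (c + τ c) / (κ + τ κ) * κ := by
    linear_combination -((c + τ c) / (κ + τ κ) * κ) * h
  generalize (c + τ c) / (κ + τ κ) = b at f1 f2 e
  generalize c + b * κ = b' at f2 e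
  rw [e, add_smul, add_smul, H.add n hn, k0 _ f2, mul_smul, k0 _ f1, k h1, mul_smul]

theorem eigen {A : Module.End F (F × F)} {k : F} {m : ℕ} (hk : IsPrimitiveRoot k m) (hm : 0 < m)
    (e : A ^ m = 1) (h1 : A ≠ 1) : ∃ i : ℕ, k ^ i ≠ 1 ∧ ∃ p, p ≠ 0 ∧ A p = k ^ i • p := by
  by_contra! n
  obtain ⟨m, rfl⟩ := Nat.exists_eq_succ_of_ne_zero hm.ne'
  have inj := Finset.prod_induction (s := Finset.range m) (fun i => X - C (k ^ (i + 1) * 1))
    (fun q => Function.Injective (aeval A q)) (fun a b ha hb => by rw [map_mul]; exact ha.comp hb)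
    (by rw [map_one]; exact Function.injective_id) fun i hi =>
      (injective_iff_map_eq_zero _).2 fun p hp => by_contra fun p0 =>
        n (i + 1) (hk.pow_ne_one_of_pos_of_lt i.succ_ne_zero (by simpa using hi)) p p0
          (by simpa [sub_eq_zero, Module.algebraMap_end_apply, -map_pow] using hp)
  have e1 := congrArg (aeval A) (X_pow_sub_C_eq_prod hk hm (one_pow _))
  rw [Finset.prod_range_succ', map_mul] at e1
  refine h1 (LinearMap.ext fun p => ?_)
  have := LinearMap.congr_fun e1 p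
  simp only [map_sub, map_pow, aeval_X, e, map_one, sub_self, pow_zero, mul_one] at this inj
  exact sub_eq_zero.1 (inj (this.symm.trans (map_zero _).symm))

theorem exists_Cs {x : Equiv.Perm (F × F)} (H : Swp h τ N x) {k : Fˣ} (k1 : k ≠ 1)
    (hk : (k : F) * τ k = 1) (hc : hb k * cj x (hb k) = cj x (hb k) * hb k) :
    ∃ θ lam, Cs h τ N θ lam := by
  have tt := ττ_apply H.ττ
  have kF : (k : F) ≠ 1 := fun e => k1 (Units.ext e)
  have xs : cj x (tb h * fb τ) = tb h := by rw [cj_mul, H.xt, H.xf, mul_assoc, fb_sq H.ττ, mul_one]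
  have h0 : ∀ δ b : Fˣ, τ b = b → cj (cj x (hb δ)) (hb b) = hb b := fun δ b e => by
    have : ∀ i : ℕ, ∃ b' : Fˣ, τ b' = b' ∧ cj (x ^ i) (hb b) = hb b' := fun i => by
      induction i with
      | zero => exact ⟨b, e, by rw [pow_zero, one_cj]⟩
      | succ i ih =>
        obtain ⟨b', e1, e2⟩ := ih
        obtain ⟨b'', e3, e4⟩ := H.xh b' e1
        exact ⟨b'', e3, by rw [pow_succ', mul_cj, e2, e4]⟩
    obtain ⟨b', -, e2⟩ := this (orderOf x - 1)
    have e3 := congrArg (cj x) e2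
    rw [← mul_cj, ← pow_succ', Nat.sub_add_cancel (orderOf_pos x), pow_orderOf_eq_one, one_cj] at e3
    rw [e3, cj_cj, hb_comm]
  have aN : ∀ δ, cj x (hb δ) ∈ N := fun δ => cj_mem H.xN (H.hN δ)
  have Al := lin_of H.toLin (aN k) (h0 k) (Nm.not_fix (h := h) hk kF) (cj_eq_iff.2 hc.symm)
  have Ac : ∀ δ, cj (cj x (hb k)) (hb δ) = hb δ := fun δ =>
    cj_eq_iff.2 (Equiv.ext fun p => Al δ p)
  have nl : ∀ δ c p, cj x (hb δ) (c • p) = c • cj x (hb δ) p := fun δ => by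
    obtain ⟨k', ψ, l, e, -⟩ := H.cen (x * x) (mul_mem H.xN H.xN) (by rw [mul_cj, H.xt, xs])
    have e1 : cj x (cj x (hb k)) = hb (Units.map (ψ : F →* F) k) := by
      rw [← mul_cj]
      refine Equiv.ext fun p => ?_
      obtain ⟨⟨a, c⟩, rfl⟩ := (x * x).surjective p
      rw [cj_apply, hb_apply, hb_apply, Prod.smul_mk, e, e]
      ext <;> simp <;> ring
    refine lin_of H.toLin (aN δ) (h0 δ) (κ := Units.map (ψ : F →* F) k)
      (Nm.not_fix (h := h) (Nm.aut hk ψ) (by simpa using kF)) ?_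
    rw [← e1, cj_cj, cj_comm.1 (Ac δ)]
  have fi : ∀ δ : Fˣ, Nm τ δ → cj (fb τ) (hb δ) = (hb δ)⁻¹ := fun δ e =>
    eq_inv_of_mul_eq_one_left (Equiv.ext fun p => by
      obtain ⟨p, rfl⟩ := (hb δ).symm.surjective p
      obtain ⟨p, rfl⟩ := (fb τ).surjective p
      rw [Equiv.Perm.mul_apply, Equiv.apply_symm_apply, cj_apply, Equiv.Perm.one_apply,
        Equiv.eq_symm_apply, hb_apply, hb_apply, fb_smul, smul_smul, e, one_smul])
  have fA : ∀ δ : Fˣ, Nm τ δ → ∀ p, cj x (hb δ) (fb τ (cj x (hb δ) p)) = fb τ p := fun δ e p => by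
    rw [← cj_apply (fb τ), ← H.xf, cj_cj, fi δ e, cj_inv]; simp
  have tA : ∀ δ : Fˣ, Nm τ δ → ∀ p, cj x (hb δ) (tb h (cj x (hb δ) p)) = tb h p := fun δ e p => by
    have : cj (tb h) (hb δ) = hb δ := cj_eq_iff.2 (Equiv.ext fun p => tb_smul _ p)
    rw [← cj_apply (tb h), ← xs, cj_cj, mul_cj, fi δ e, cj_inv, this, cj_inv]; simp
  obtain ⟨i, z1, e1, e0, ee⟩ := eigen (A := ⟨⟨fun p => cj x (hb k) p, H.add _ (aN k)⟩, Al⟩)
    (IsPrimitiveRoot.coe_units_iff.2 (IsPrimitiveRoot.orderOf k)) (orderOf_pos k)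
    (LinearMap.ext fun p => by
      rw [Module.End.pow_apply]
      change (⇑(cj x (hb k) : Equiv.Perm (F × F)))^[_] p = p
      rw [← Equiv.Perm.coe_pow, ← cj_pow, hb_pow, pow_orderOf_eq_one, ← pow_zero k, ← hb_pow, pow_zero,
        cj_one]
      rfl)
    (fun e => kF (by
      have : hb k = 1 := cj_eq_one.1 (Equiv.ext (LinearMap.congr_fun e))
      simpa [hb_apply] using congrArg (fun n : Equiv.Perm (F × F) => (n (1, 0)).1) this))
  have zn : Nm τ ((k : F) ^ i) := Nm.pow hk i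
  change cj x (hb k) e1 = _ at ee
  generalize (k : F) ^ i = ζ at z1 ee zn
  have z2 : ζ⁻¹ ≠ ζ := fun e => z1 (sq_inj (h := h) (by rw [mul_one, ← mul_inv_cancel₀ zn.ne, e]))
  have sw : ∀ δ : Fˣ, Nm τ δ → ∀ a : F, cj x (hb δ) e1 = a • e1 →
      a ≠ 0 ∧ cj x (hb δ) (tb h e1) = a⁻¹ • tb h e1 := fun δ e a k => by
    have := tA δ e e1
    rw [k, tb_smul, nl] at this
    have a0 : a ≠ 0 := fun a0 => e0 ((tb h).injective (by
      rw [← this, a0, zero_smul]; ext <;> simp [tb_apply]))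
    exact ⟨a0, (eq_inv_smul_iff₀ a0).2 this⟩
  have dg : ∀ δ : Fˣ, Nm τ δ → ∀ a : F, cj x (hb δ) e1 = a • e1 → ∀ u v : F,
      cj x (hb δ) (u • e1 + v • tb h e1) = (a * u) • e1 + (a⁻¹ * v) • tb h e1 := fun δ e a k u v => by
    rw [H.add _ (aN δ), nl, nl, k, (sw δ e a k).2, smul_smul, smul_smul, mul_comm u, mul_comm v]
  have in0 : ∀ u v : F, u • e1 + v • tb h e1 = 0 → u = 0 ∧ v = 0 := fun u v e => by
    have k1 := dg k hk ζ ee u v
    rw [e, ← zero_smul F (0 : F × F), nl, zero_smul] at k1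
    have k2 : ((ζ - ζ⁻¹) * u) • e1 = 0 := by linear_combination (norm := module) -k1 - ζ⁻¹ • e
    have u0 := (mul_eq_zero.1 ((smul_eq_zero.1 k2).resolve_right e0)).resolve_left
      (sub_ne_zero.2 z2.symm)
    rw [u0, zero_smul, zero_add, ← tb_smul] at e
    exact ⟨u0, (smul_eq_zero.1 ((tb h).injective (e.trans (by ext <;> simp [tb_apply])))).resolve_right e0⟩
  have inj : ∀ {u v u' v' : F}, u • e1 + v • tb h e1 = u' • e1 + v' • tb h e1 → u = u' ∧ v = v' :=
    fun {u v u' v'} e => (in0 (u - u') (v - v') (by linear_combination (norm := module) e)).imp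
      sub_eq_zero.1 sub_eq_zero.1
  have surj : ∀ p, ∃ u v : F, p = u • e1 + v • tb h e1 := fun p => by
    obtain ⟨⟨u, v⟩, e⟩ := Finite.surjective_of_injective
      (f := fun q : F × F => q.1 • e1 + q.2 • tb h e1) (fun _ _ e => Prod.ext (inj e).1 (inj e).2) p
    exact ⟨u, v, e.symm⟩
  have ev : ∀ p, cj x (hb k) p = ζ • p → ∃ a : F, p = a • e1 := fun p e => by
    obtain ⟨u, v, rfl⟩ := surj p
    rw [dg k hk ζ ee, smul_add, smul_smul, smul_smul] at e
    exact ⟨u, by rw [(mul_eq_zero.1 (by linear_combination (inj e).2 : (ζ⁻¹ - ζ) * v = 0)).resolve_left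
      (sub_ne_zero.2 z2), zero_smul, add_zero]⟩
  obtain ⟨lam, el⟩ := ev (fb τ e1) (by
    have := fA k hk e1
    rw [ee, fb_smul, nl] at this
    conv_rhs => rw [← this, smul_smul, zn, one_smul])
  have l0 : lam ≠ 0 := fun a0 => e0 ((fb τ).injective (by
    rw [el, a0, zero_smul]; ext <;> simp [fb_apply]))
  have exa : ∀ δ : Fˣ, Nm τ δ → ∃ a, Nm τ a ∧ cj x (hb δ) e1 = a • e1 := fun δ e => by
    obtain ⟨a, k⟩ := ev (cj x (hb δ) e1) (by
      rw [← nl, ← ee, ← cj_apply (cj x (hb k)), cj_cj, hb_comm])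
    refine ⟨a, ?_, k⟩
    have := fA δ e e1
    rw [k, fb_smul, el, nl, nl, k, smul_smul, smul_smul] at this
    exact mul_left_cancel₀ l0 (by linear_combination smul_left_injective F e0 this)
  choose a aN' ae using exa
  have sa : ∀ c, Nm τ c → ∃ δ e, a δ e = c := fun c e => by
    obtain ⟨⟨δ, e'⟩, k⟩ := Finite.surjective_of_injective
      (f := fun δ : {δ : F // Nm τ δ} => (⟨a (Units.mk0 δ δ.2.ne) δ.2, aN' ..⟩ : {δ : F // Nm τ δ}))
      (fun δ δ' k => Subtype.ext (by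
        have : hb (Units.mk0 δ.1 δ.2.ne) = hb (Units.mk0 δ'.1 δ'.2.ne) := cj_inj x (Equiv.ext fun p => by
          obtain ⟨u, v, rfl⟩ := surj p
          rw [dg _ δ.2 _ (ae _ δ.2), dg _ δ'.2 _ (ae _ δ'.2), (Subtype.mk.inj k :)])
        simpa [hb_apply] using congrArg (fun n : Equiv.Perm (F × F) => (n (1, 0)).1) this)) ⟨c, e⟩
    exact ⟨_, _, Subtype.ext_iff.1 k⟩
  refine ⟨fun u v => u • e1 + v • tb h e1, lam, H.toLin, H.nf, fun u v u' v' => by module, inj, surj,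
    fun c u v => by module, fun u v => ?_, fun u v => ?_, fun b c eb ec => ?_, fun r hr e1 e2 => ?_,
    k, kF, hk⟩
  · rw [H.add _ H.tN, tb_smul, tb_smul, ← Equiv.Perm.mul_apply, tb_sq, add_comm]; rfl
  · rw [H.add _ H.fN, fb_smul, fb_smul, ← Equiv.Perm.mul_apply, ← tb_fb, Equiv.Perm.mul_apply, el,
      tb_smul]
    module
  · obtain ⟨d, ed, e⟩ := (eb.mul ec).sqrt (h := h)
    obtain ⟨δ, eδ, k⟩ := sa _ (eb.mul ed.inv)
    refine ⟨_, mul_mem (H.hN (Units.mk0 d ed.ne)) (aN δ), fun u v => ?_⟩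
    rw [Equiv.Perm.mul_apply, dg δ eδ _ (ae _ eδ), k, hb_apply, smul_add, smul_smul, smul_smul]
    have := eb.ne
    have := ed.ne
    congr 2 <;> simp only [Units.val_mk0] <;> field_simp
    linear_combination v * e
  · obtain ⟨δ, e, k⟩ := D4 H.toLin (cj_mem (inv_mem H.xN) hr)
      (by rw [← inv_cj_eq.2 H.xt, cj_cj, e1]) (by rw [← inv_cj_eq.2 H.xf, cj_cj, e2, cj_inv])
    have : r ^ 4 = cj x (hb (Units.mk0 δ e.ne)) := by
      rw [← cj_inv_cj x (r ^ 4), cj_pow]; exact congrArg _ (Equiv.ext k)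
    exact ⟨_, _, this ▸ dg _ e _ (ae _ e)⟩

end H25.L2.WrC
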