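import Cfsg.Agent.Lib.L2S.WrC2

/-! The wreath shadow: the Sylow subgroup. -/

set_option autoImplicit false
set_option linter.unusedSectionVars false

namespace H25.L2.WrC

open Subgroup H4.YM H4.TL

variable {F : Type*} [Field F] [Finite F] {h : (2 : F) = 0} {τ : F ≃+* F}
  {N P : Subgroup (Equiv.Perm (F × F))} {θ : F → F → F × F} {lam : F}
  {n m r g : Equiv.Perm (F × F)} {a b c1 c2 d1 d2 : F} {α1 α2 β1 β2 : F ≃+* F}

theorem Nm.eq (e : Nm τ a) : a * τ a = 1 := e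

theorem f_dg (C : Cs h τ N θ lam) : Dg θ (fb τ) lam lam τ τ := C.f_θ

theorem f_ne (C : Cs h τ N θ lam) : fb τ ≠ 1 := fun e =>
  C.τ1 ((e ▸ f_dg C).uniq C Dg.one).2.1

theorem big_fix (C : Cs h τ N θ lam) (e : ∀ u, lam * τ u = u) : False := by
  have l1 : lam = 1 := by simpa using e 1
  exact C.τ1 (RingEquiv.ext fun u => by simpa [l1] using e u)

theorem Free.cj (C : Cs h τ N θ lam) (hg : g ∈ N) (e : Free n) : Free (cj g n) := fun y k => by
  obtain ⟨y, rfl⟩ := g.surjective y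
  obtain ⟨y', rfl⟩ := e y (g.injective (by rw [← cj_apply g n, k]))
  exact ⟨g y', by rw [cj_apply, C.add g hg]⟩

theorem free_t : Free (tb h) := fun ⟨a, c⟩ k => by
  obtain rfl : c = 0 := by simpa [tb_apply] using k
  exact ⟨(0, a), by ext <;> simp [tb_apply, ← two_mul, h]⟩

theorem nfree (C : Cs h τ N θ lam) (e : Dg θ n c1 1 α1 1) : ¬ Free n := fun k => by
  obtain ⟨y, k⟩ := k (θ 0 1) (by rw [e]; simp)
  obtain ⟨u, v, rfl⟩ := C.surj y
  rw [e, ← C.add'] at k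
  simpa [← two_mul, h] using (C.inj k).2

theorem f_inv (C : Cs h τ N θ lam) (e : Dg θ r a b 1 1) (ha : Nm τ a) (hb : Nm τ b) :
    cj (fb τ) r = r⁻¹ := by
  refine eq_inv_of_mul_eq_one_right (Equiv.ext fun p => ?_)
  obtain ⟨p, rfl⟩ := (fb τ).surjective p
  obtain ⟨u, v, rfl⟩ := C.surj p
  rw [Equiv.Perm.mul_apply, cj_apply, e, C.f_θ, e, Equiv.Perm.one_apply, C.f_θ]
  simp only [RingAut.one_apply, map_mul]
  congr 1
  · linear_combination lam * τ u * ha.eq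
  · linear_combination lam * τ v * hb.eq

theorem sw_inv (C : Cs h τ N θ lam) (e : Dg θ m c1 c2 α1 α2) (k : tb h * m * (tb h * m) = 1) (u : F) :
    α2 (α1 u) = u := by
  have : ∀ u, c2 * α2 (c1 * α1 u) = u := fun u => by
    have := congrArg (fun n : Equiv.Perm (F × F) => n (θ u 0)) k
    simp only [Equiv.Perm.mul_apply, e _ _, C.t_θ] at this
    exact (C.inj this).1
  have k1 := this 1
  have k2 := this u
  rw [map_one, mul_one] at k1
  rwa [map_mul, ← mul_assoc, k1, one_mul] at k2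

theorem sw_comm (C : Cs h τ N θ lam) (e : Dg θ m c1 c2 α1 α2) (k : tb h * m * (tb h * m) = 1)
    (e' : Dg θ r a (α1 a) 1 1) : cj r (tb h * m) = tb h * m :=
  cj_eq_iff.2 (Equiv.ext fun p => by
    obtain ⟨u, v, rfl⟩ := C.surj p
    simp only [Equiv.Perm.mul_apply, e _ _, e' _ _, C.t_θ, RingAut.one_apply, map_mul, sw_inv C e k]
    congr 1 <;> ring)

theorem fix_cj (g n : Equiv.Perm (F × F)) : fix (cj g n) = g '' fix n := by
  ext p
  obtain ⟨p, rfl⟩ := g.surjective p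
  rw [g.injective.mem_set_image]
  change cj g n _ = _ ↔ n _ = _
  rw [cj_apply, g.apply_eq_iff_eq]

theorem ncard_fix (g : Equiv.Perm (F × F)) : (fix (cj g n)).ncard = (fix n).ncard := by
  rw [fix_cj, Set.ncard_image_of_injective _ g.injective]

/-- a Sylow subgroup of the stabiliser of the pair of lines -/
structure Ps (C : Cs h τ N θ lam) (P : Subgroup (Equiv.Perm (F × F))) : Prop where
  syl : Syl P (adj (M0 C) (tb h))
  t : tb h ∈ P
  f : fb τ ∈ P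

theorem pair_pg {G : Type*} [Group G] {u w : G} (p : H29.IsPair u w) :
    IsPGroup 2 (closure ({u, w} : Set G)) :=
  pg_of_sq fun x hx => congrArg Subtype.val (p.isKleinFour.mul_self ⟨x, hx⟩)

theorem pair_le {G : Type*} [Group G] {u w : G} {K : Subgroup G} (hu : u ∈ K) (hw : w ∈ K) :
    closure ({u, w} : Set G) ≤ K :=
  (closure_le _).2 (Set.pair_subset hu hw)

theorem exists_Ps (C : Cs h τ N θ lam) : ∃ P, Ps C P := by
  obtain ⟨P, k, S⟩ := exists_syl (pair_pg ⟨tb_sq, fun e => by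
      simpa [tb_apply] using congrArg (fun n : Equiv.Perm (F × F) => n (0, 1)) e, fb_sq C.ττ, f_ne C,
      one_cj (tb h) ▸ C.nf 1 (one_mem _), tb_fb⟩)
    (pair_le self_mem_adj (le_adj (K := M0 C) ⟨C.fN, _, _, _, _, f_dg C⟩))
  exact ⟨P, S, k (subset_closure (by simp)), k (subset_closure (by simp))⟩

variable {C : Cs h τ N θ lam}

namespace Ps

variable (S : Ps C P)
include S

theorem le : P ≤ N := S.syl.le.trans (M_le C)

theorem eq (hn : n ∈ P) (hm : m ∈ P) (e : Dg θ n c1 c2 α1 α2) (e' : Dg θ m d1 d2 α1 α2) : n = m := by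
  obtain ⟨k, hk⟩ := pg_pow S.syl.pg (mul_mem (inv_mem hn) hm)
  have := (e.inv C).mul e'
  rw [inv_mul_cancel, inv_mul_cancel] at this
  exact inv_mul_eq_one.1 (this.two C hk)

theorem comm (hn : n ∈ P) (hm : m ∈ P) (k : n ∈ M0 C) (k' : m ∈ M0 C) : cj n m = m := by
  obtain ⟨-, _, _, α1, α2, e⟩ := k
  obtain ⟨-, _, _, β1, β2, e'⟩ := k'
  have := e'.mul e
  rw [aut_comm β1, aut_comm β2] at this
  exact cj_eq_iff.2 (S.eq (mul_mem hn hm) (mul_mem hm hn) (e.mul e') this)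

theorem cen_f (hn : n ∈ P) : cj n (fb τ) = fb τ := by
  have f0 : fb τ ∈ M0 C := ⟨C.fN, _, _, _, _, f_dg C⟩
  refine ((mem_M C).1 (S.syl.le hn)).elim (S.comm hn S.f · f0) fun k => ?_
  have := S.comm (mul_mem S.t hn) S.f k f0
  rwa [mul_cj, ← tb_inv, inv_cj_eq, cj_eq_iff.2 tb_fb, eq_comm] at this

theorem invol (hn : n ∈ P) (k : n ∈ M0 C) (k2 : n * n = 1) :
    n = 1 ∨ n = fb τ ∨ (∃ c, Dg θ n c 1 τ 1) ∨ ∃ c, Dg θ n 1 c 1 τ := by
  obtain ⟨-, _, _, α1, α2, e⟩ := k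
  obtain ⟨rfl | ⟨rfl, rfl⟩, k | ⟨rfl, rfl⟩⟩ := e.invol C k2
  · exact .inr (.inl (S.eq hn S.f (k ▸ e) (f_dg C)))
  · exact .inr (.inr (.inl ⟨_, e⟩))
  · exact .inr (.inr (.inr ⟨_, k ▸ e⟩))
  · exact .inl (e.ext C Dg.one)

theorem nt (hg : g ∈ N) (hn : cj g (tb h) ∈ P) : cj g (tb h) ∉ M0 C := fun k => by
  have fr := (free_t (h := h)).cj C hg
  rcases S.invol hn k (cj_sq tb_sq) with e | e | ⟨c, e⟩ | ⟨c, e⟩
  · simpa [tb_apply] using congrArg (fun n : Equiv.Perm (F × F) => n (0, 1)) (cj_eq_one.1 e)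
  · exact C.nf g hg e
  · exact nfree C e fr
  · exact nfree C (e.cjt C) (fr.cj C C.tN)

theorem norm (hg : g ∈ N) (hn : g ∈ normalizer (P : Set (Equiv.Perm (F × F)))) :
    g ∈ adj (M0 C) (tb h) := by
  have zP := (cj_mem_iff hn).2 S.t
  obtain ⟨-, c1, c2, α1, α2, e⟩ := ((mem_M C).1 (S.syl.le zP)).resolve_left (S.nt hg zP)
  generalize hm : tb h * cj g (tb h) = m at e
  have ez : cj g⁻¹ (tb h * m) = tb h := by rw [← hm, ← mul_assoc, tb_sq, one_mul, inv_cj_cj]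
  have gf : cj g⁻¹ (fb τ) = fb τ := by
    rcases (C.omega (pg_le S.syl.pg (inf_le_left (b := centralizer {tb h}))) (inf_le_left.trans S.le)
      (fun p hp => mem_cen.1 hp.2) ⟨S.f, mem_cen.2 (cj_eq_iff.2 tb_fb.symm)⟩).2 (cj g⁻¹ (fb τ))
      ⟨(cj_mem_iff (inv_mem hn)).2 S.f, mem_cen.2 (by
        rw [← inv_cj_cj g (tb h), cj_cj, cj_comm.1 (S.cen_f zP)])⟩ (cj_sq (fb_sq C.ττ)) with k | k | k | k
    · exact (f_ne C (cj_eq_one.1 k)).elim
    · exact (C.nf g hg (inv_cj_eq.1 k)).elim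
    · exact k
    · obtain ⟨x, hx, k'⟩ := C.fus
      exact (C.nf _ (mul_mem hg hx) (by rw [mul_cj, k', inv_cj_eq.1 k])).elim
  have es : cj g⁻¹ (tb h * (m * fb τ)) = tb h * fb τ := by rw [← mul_assoc, cj_mul, ez, gf]
  have z2 : tb h * m * (tb h * m) = 1 := by rw [← inv_cj_eq.1 ez]; exact cj_sq tb_sq
  have s2 : tb h * (m * fb τ) * (tb h * (m * fb τ)) = 1 := by
    rw [← inv_cj_eq.1 es]
    exact cj_sq (by rw [mul_assoc, ← mul_assoc (fb τ), ← tb_fb, mul_assoc, fb_sq C.ττ, mul_one, tb_sq])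
  refine (inv_mem_iff (x := g)).1 (memM C (inv_mem hg) fun r a0 b0 hr ha0 hb0 er => ?_)
  obtain ⟨a1, ha1, rfl⟩ := ha0.sqrt (h := h)
  obtain ⟨a, ha, rfl⟩ := ha1.sqrt (h := h)
  obtain ⟨b1, hb1, rfl⟩ := hb0.sqrt (h := h)
  obtain ⟨b, hb, rfl⟩ := hb1.sqrt (h := h)
  obtain ⟨ε, hε, k⟩ := (ha.mul (hb.aut α1.symm)).sqrt (h := h)
  have hε' := ha.mul hε.inv
  obtain ⟨r1, n1, e1⟩ := C.RN _ _ hε (hε.aut α1)
  obtain ⟨r2, n2, e2⟩ := C.RN _ _ hε' (hε'.aut (α1 * τ))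
  have fi : ∀ {r : Equiv.Perm (F × F)} {a b : F}, Dg θ r a b 1 1 → Nm τ a → Nm τ b →
      cj (fb τ) (cj g⁻¹ r) = (cj g⁻¹ r)⁻¹ := fun e k k' => by
    rw [← gf, cj_cj, f_inv C e k k', cj_inv]
  obtain ⟨δ, -, k1⟩ := D4 C.toLin (cj_mem (inv_mem hg) n1)
    (by rw [← ez, cj_cj, sw_comm C e z2 e1]) (fi e1 hε (hε.aut α1))
  obtain ⟨a', b', k2⟩ := C.Ds _ (cj_mem (inv_mem hg) n2)
    (by rw [← es, cj_cj, sw_comm C (e.mul (f_dg C)) s2 e2]) (fi e2 hε' (hε'.aut _))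
  have k3 : Dg θ (cj g⁻¹ r1 ^ 4) δ δ 1 1 := fun u v => by rw [k1, C.smul]; rfl
  have k4 : α1 ε * α1 (τ (a * ε⁻¹)) = b := by
    rw [← map_mul, map_mul τ, map_inv₀, ← eq_inv_of_mul_eq_one_left hε, ← α1.apply_symm_apply b]
    congr 1
    linear_combination τ a * k + α1.symm b * ha.eq
  have : r = r1 ^ 4 * r2 ^ 4 := er.ext C (by
    have := (Dg.pow e1 4).mul (Dg.pow e2 4)
    rw [RingAut.one_apply, RingAut.one_apply, ← mul_pow, ← mul_pow, mul_one, RingAut.mul_apply, k4,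
      mul_left_comm, mul_inv_cancel₀ hε.ne, mul_one] at this
    convert this using 1 <;> ring)
  rw [this, cj_mul, cj_pow, cj_pow]
  exact ⟨_, _, k3.mul (β1 := 1) (β2 := 1) k2⟩

theorem sylN : Syl P N := by
  obtain ⟨Q, hQ, SQ⟩ := exists_syl S.syl.pg S.le
  by_cases e : P = Q
  · rwa [e]
  exfalso
  have hn := SQ.pg.isNilpotent
  obtain ⟨x, hx, hx'⟩ := SetLike.exists_of_lt (Group.normalizerCondition_of_isNilpotent _
    (lt_top_iff_ne_top.2 fun k => e (le_antisymm hQ (subgroupOf_eq_top.1 k))))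
  have := S.syl.eq_of_le (pg_le SQ.pg (inf_le_left (b := normalizer (P : Set _))))
    (fun y hy => S.norm (SQ.le hy.1) hy.2) (le_inf hQ le_normalizer)
  exact hx' (by
    rw [mem_subgroupOf, ← this]
    exact ⟨x.2, mem_norm.2 fun y hy => (mem_normalizer_iff.1 hx ⟨y, hQ hy⟩).1 hy⟩)

theorem idx : Idx (P ⊓ M0 C) P (tb h) :=
  ⟨inf_le_left, S.t, fun k => S.nt (one_mem _) (one_cj (tb h) ▸ S.t) (one_cj (tb h) ▸ k.2), fun _ hx =>
    ((mem_M C).1 (S.syl.le hx)).imp (⟨hx, ·⟩) (⟨mul_mem S.t hx, ·⟩)⟩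

theorem sym (hn : n ∈ P) (k : n ∈ M0 C) (k1 : n ≠ 1) (k2 : n * n = 1) (hm : m ∈ P) (k' : m ∉ M0 C)
    (e : cj m n = n) : n = fb τ := by
  have := S.comm (mul_mem S.t hm) hn (((mem_M C).1 (S.syl.le hm)).resolve_left k') k
  rw [mul_cj, e] at this
  rcases S.invol hn k k2 with e | e | ⟨c, e⟩ | ⟨c, e⟩
  · exact (k1 e).elim
  · exact e
  · exact (C.τ1 (e.uniq C (this ▸ e.cjt C)).2.1).elim
  · exact (C.τ1 (e.uniq C (this ▸ e.cjt C)).2.2).elim

theorem four (hn : n ∈ P) (hm : m ∈ P) (p : H29.IsPair n m) :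
    fb τ = n ∨ fb τ = m ∨ fb τ = n * m := by
  by_cases k : n ∈ M0 C <;> by_cases k' : m ∈ M0 C
  · rcases S.invol hn k p.sq₁ with e | e | ⟨c, e⟩ | ⟨c, e⟩
    · exact (p.ne₁ e).elim
    · exact .inl e.symm
    all_goals
      rcases S.invol hm k' p.sq₂ with e' | e' | ⟨c', e'⟩ | ⟨c', e'⟩
      · exact (p.ne₂ e').elim
      · exact .inr (.inl e'.symm)
      all_goals first
        | exact (p.ne (S.eq hn hm e e')).elim
        | exact .inr (.inr (S.eq S.f (mul_mem hn hm) (f_dg C) (e.mul e')))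
  · exact .inl (S.sym hn k p.ne₁ p.sq₁ hm k' (cj_eq_iff.2 p.comm.symm)).symm
  · exact .inr (.inl (S.sym hm k' p.ne₂ p.sq₂ hn k (cj_eq_iff.2 p.comm)).symm)
  · exact .inr (.inr (S.sym (mul_mem hn hm) ((Idx.mul_iff S.idx hn hm).2
      (iff_of_false (fun e => k e.2) fun e => k' e.2)).2 p.rot.ne₂ p.rot.sq₂ hm k'
      (cj_eq_iff.2 p.rot.comm)).symm)

theorem nest (hn : n ∈ P) (k2 : n * n = 1) (k : fix n ⊆ fix (fb τ)) : n = fb τ := by
  have k1 : ∀ u v, n (θ u v) = θ u v → lam * τ u = u ∧ lam * τ v = v := fun u v e =>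
    C.inj ((C.f_θ u v).symm.trans (k e))
  rcases (mem_M C).1 (S.syl.le hn) with k' | ⟨-, c1, c2, α1, α2, e⟩
  · rcases S.invol hn k' k2 with e | e | ⟨c, e⟩ | ⟨c, e⟩
    · exact (big_fix C fun u => (k1 u 0 (by rw [e]; rfl)).1).elim
    · exact e
    · exact (big_fix C fun u => (k1 0 u (by rw [e]; simp)).2).elim
    · exact (big_fix C fun u => (k1 u 0 (by rw [e]; simp)).1).elim
  · refine (big_fix C fun u => (k1 u (c1 * α1 u) ?_).1).elim
    have : n (θ u 0) = θ 0 (c1 * α1 u) := (tb h).injective (by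
      rw [← Equiv.Perm.mul_apply, e, C.t_θ, map_zero, mul_zero])
    rw [split C, ← this, C.add n (S.le hn), ← Equiv.Perm.mul_apply, k2, add_comm]; rfl

theorem small (hn : n ∈ P) (k2 : n * n = 1) (k1 : n ≠ 1) : (fix n).ncard ^ 2 ≤ Nat.card F ^ 3 := by
  choose cu cv ec using C.surj
  have key : ∀ {n : Equiv.Perm (F × F)} {c1 c2 : F} {α2 : F ≃+* F}, Dg θ n c1 c2 τ α2 →
      (fix n).ncard ^ 2 ≤ Nat.card F ^ 3 := fun {n c1 c2 α2} e => by
    obtain ⟨w, w0, hw⟩ : ∃ w : F, w ≠ 0 ∧ ∀ u, c1 * τ u = u → τ (u / w) = u / w := by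
      by_cases k : ∃ w : F, w ≠ 0 ∧ c1 * τ w = w
      · obtain ⟨w, w0, k⟩ := k
        exact ⟨w, w0, fun u k' => by rw [map_div₀, ← mul_div_mul_left _ _ (e.ne C).1, k, k']⟩
      · exact ⟨1, one_ne_zero, fun u k' => by
          rw [by_contra fun u0 : ¬ u = 0 => k ⟨u, u0, k'⟩, zero_div, map_zero]⟩
    have := Set.ncard_le_ncard_of_injOn (s := fix n) (t := {a | τ a = a} ×ˢ Set.univ)
      (fun p => (cu p / w, cv p))
      (fun p hp => ⟨hw _ (C.inj (by rw [← e, ← ec p]; exact hp)).1, trivial⟩) fun p _ p' _ k => by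
        rw [ec p, ec p', (div_left_inj' w0).1 (Prod.mk.inj k).1, (Prod.mk.inj k).2]
    rw [Set.ncard_prod, Set.ncard_univ] at this
    refine (Nat.pow_le_pow_left this 2).trans_eq ?_
    rw [mul_pow, fix_sq C.τ1 C.ττ]; ring
  rcases (mem_M C).1 (S.syl.le hn) with k' | ⟨-, c1, c2, α1, α2, e⟩
  · rcases S.invol hn k' k2 with e | e | ⟨c, e⟩ | ⟨c, e⟩
    · exact (k1 e).elim
    · exact key (e ▸ f_dg C)
    · exact key e
    · rw [← ncard_fix (tb h)]; exact key (e.cjt C)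
  · have := Set.ncard_le_ncard_of_injOn (s := fix n) (t := Set.univ) cu (fun _ _ => trivial)
      fun p hp p' hp' k => by
        have : ∀ p ∈ fix n, cv p = c1 * α1 (cu p) := fun p hp => (C.inj (by
          rw [← e, ← C.t_θ, ← ec p, Equiv.Perm.mul_apply, show n p = p from hp])).1
        rw [ec p, ec p', this p hp, this p' hp', k]
    rw [Set.ncard_univ] at this
    exact (Nat.pow_le_pow_left this 2).trans (Nat.pow_le_pow_right Nat.card_pos (by norm_num))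

theorem into {U : Subgroup (Equiv.Perm (F × F))} (k : IsPGroup 2 U) (hU : U ≤ N) :
    ∃ g ∈ N, ∀ u ∈ U, cj g⁻¹ u ∈ P :=
  (S.sylN.conj k hU).imp fun _ e => ⟨e.1, fun _ hu => mem_cm.1 (e.2 hu)⟩

theorem into2 (hn : n ∈ N) (hm : m ∈ N) (p : H29.IsPair n m) : ∃ g ∈ N, ∃ n' ∈ P, ∃ m' ∈ P,
    H29.IsPair n' m' ∧ n = cj g n' ∧ m = cj g m' := by
  obtain ⟨g, hg, e⟩ := S.into (pair_pg p) (pair_le hn hm)
  exact ⟨g, hg, _, e n (subset_closure (by simp)), _, e m (subset_closure (by simp)), p.conj g⁻¹,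
    (cj_inv_cj ..).symm, (cj_inv_cj ..).symm⟩

theorem wr : Wr h τ N where
  idx Q SQ := by
    obtain ⟨g, hg, e⟩ := SQ.conj S.syl.pg S.le
    refine ⟨cm g⁻¹ (P ⊓ M0 C), fun x hx => cj_mem_cm.1 (e (by simpa using (mem_cm.1 hx).1)), ?_,
      fun x hx k => ?_⟩
    · rw [card_cm, ← S.idx.card]
      exact le_antisymm (S.sylN.card_le SQ.pg SQ.le) (SQ.card_le S.syl.pg S.le)
    · rw [mem_cm, inv_inv, ← mul_cj] at k
      exact S.nt (mul_mem hg hx) k.1 k.2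
  four u0 hu0 w0 hw0 p0 := by
    obtain ⟨g, hg, u, hu, w, hw, p, rfl, rfl⟩ := S.into2 hu0 hw0 p0
    exact ⟨g, hg, (S.four hu hw p).imp (congrArg _) (.imp (congrArg _) fun e => by rw [e, cj_mul])⟩
  rank U hU k := by
    classical
    obtain ⟨g, hg, e⟩ := S.into (pg_of_sq k) hU
    by_contra! c
    obtain ⟨u, hu, k1⟩ := exists_notMem (K := U) (s := {1, cj g (fb τ)})
      (Finset.card_le_two.trans_lt (by omega))
    obtain ⟨w, hw, k2⟩ := exists_notMem (K := U) (s := {1, cj g (fb τ), u, u * cj g (fb τ)})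
      (Finset.card_le_four.trans_lt c)
    simp only [Finset.mem_insert, Finset.mem_singleton, not_or] at k1 k2
    rcases S.four (e u hu) (e w hw) (H29.IsPair.conj ⟨k u hu, k1.1, k w hw, k2.1, Ne.symm k2.2.2.1,
      comm_of_sq (k u hu) (k w hw) (k _ (mul_mem hu hw))⟩ g⁻¹) with e | e | e
    · exact k1.2 (by rw [e, cj_inv_cj])
    · exact k2.2.1 (by rw [e, cj_inv_cj])
    · exact k2.2.2.2 (by rw [e, ← cj_mul, cj_inv_cj, ← mul_assoc, k u hu, one_mul])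
  small w hw k k1 := by
    obtain ⟨g, -, e⟩ := S.into (pg_zpowers (k := 1) (x := w) (by simpa [pow_two] using k))
      (zpowers_le.2 hw)
    rw [← ncard_fix g⁻¹]
    exact S.small (e w (mem_zpowers w)) (cj_sq k) (mt cj_eq_one.1 k1)
  nest u0 hu0 w0 hw0 p0 k := by
    obtain ⟨g, hg, u, hu, w, hw, p, rfl, rfl⟩ := S.into2 hu0 hw0 p0
    rw [fix_cj, fix_cj, Set.image_subset_image_iff g.injective] at k
    refine ⟨g, hg, congrArg _ ?_⟩
    rcases S.four hu hw p with e | e | e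
    · exact (S.nest hw p.sq₂ (e ▸ k)).symm
    · exact e
    · exact (S.nest hw p.sq₂ fun y hy => by
        rw [e]; change u (w y) = y; rw [show w y = y from hy]; exact k hy).symm

end Ps

theorem auto3 : True := trivial

end H25.L2.WrC
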